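import Cfsg.Agent.Cov.Loc
import Cfsg.Agent.Fi.K22
set_option autoImplicit false
set_option maxRecDepth 100000
namespace CA.Cov
open CA.TC
noncomputable def bp23 (i : ℕ) : ℕ := fld (nat_lit 0x2a92a82a229d29a2991ba1a70c80b00a90a218f09d03402a008006005003001000000) (Nat.mul (nat_lit 12) i) (nat_lit 4095)
noncomputable def c23 (i : ℕ) : ℕ := fld (nat_lit 0x1ea3efe7accb2cd5edf4a5e5e4773e366d001001001001001001001001001001) (Nat.mul (nat_lit 11) i) (nat_lit 2047)
noncomputable def gp23 (i : ℕ) : ℕ := fld (nat_lit 0x70040040020020020070042b6004) (Nat.mul (nat_lit 12) i) (nat_lit 4095)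
noncomputable def gq23 (i : ℕ) : ℕ := fld (nat_lit 0x1a0180170140120111300552ba016) (Nat.mul (nat_lit 12) i) (nat_lit 4095)
noncomputable def P23 (j i : ℕ) : ℕ := fld (nat_lit 0x2b6a4e3262d0783d2a734a620c41056d2852335392c3bda3590a64082053e129c69571d89b2c8d195061040f82a538d6c86ad944b846190a7082b692a917c18d7226958cc221ca1041f3a2a36aada87492c298e410c204aa93438c78acadada4f83083104109aaaf8da4e1b094424c72ada2082b69d20c929c78a5eb434c520c2203d53a4232b396c6d4e64a0a320820) (Nat.mul (nat_lit 5) (Nat.add (Nat.mul (nat_lit 23) j) i)) (nat_lit 31)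
noncomputable def tp23 (j i : ℕ) : ℕ := fld (nat_lit 0x3ac64444c9729956be568167410409690668a0eeab14bb41f22d262082045b6ce7ca342cc683992c554410486d5bdd684665a10c941d955082040d6d3c52674d94242d2795551040f68c92742d1a954b3a12664e820816720ccc435d68bd3592a059d02203523221865b9f1b1d50ac8b498440241ab796c3899c894cf44b1550880392db62bc91438d0a266765541100c46ad313a1d464c727c2c5aa841025a830d843b951aadf3b50b2804403acc8230697562a6da8f99612088076ca138d125532abb0de4720c11024449eae541932d068699717d822055e321a285152c3d9726c1d49844055883444d529d897b60b93a740881659070749f1516ad498e8652620812b84a9199cb5629af2586e32022040674a9d593285990cb43636784401a1ab4b0e474a30352d3795550880d790702c9714b8f6522a664e811010349dac599d48cc92ac1457d822028e3241d2ab2c57a5a859a34984402196d3b1237423244df4b16aa0880d4990488d6eb31e7acd542ca020816741871235cf6592aa566584841034f095193595f1b26a3511c830820248e9516a3619c8851b35c5f61040fa906861ac56c56a3c93075262082ca190cc43cab8b6a981e4e9d04102ec3248b06c4ee4bea6521949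84405a6509b28d2da2f3a8951b8c810403824f52a88c438d29ae8d8d9e2082905b5313cca662243b11eeaa8220186fb562a4168c9920d92dc938440412cf546a62cd941c9706b8e90880621d2b6350e9c68382a552d9e1102cb9406523e35729a79a68c4182202ac640d84a95313bd746cdd280820abd062306a29e29b366ba3a121040f6c24428ed153aab4d0f361901101eb41a6ea59952a9a919c919402204e4d59e29a150c3408f1d9caa8440aa48393a0a63cb63accd44674088166991474dec516ab391238c241100683a571691d0648d3ad1457d84101d441c8b04b16e6d5e8b1a349882090ecf595b08d1d322146ab0e9088143357673e6c816481a4878aaa1102146acec4c8a488e68b19eeaa84100cd67a995216518226da2dc938820221f6ab1432c232351736b8e910404324ed8ac6e93208a2a752d9e2081768488e1b62929dea9d68c418410594831223795ac5d4f44cdd2804407d4c81c4962ad8d52667a3a120880d7ca037117139536ad153619020816f322859b587726ca1d4919404104a6b6a58781471250cf459caa88204d46481647635cb558cf446741040db20d32d16c4b8efa91438c2420827249d6c6d0a68a203a914eb3c410553090ca4532ce79db45ce283082030d55b31e82ce34248f04b96d104082554f658c5a4663826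4773562082047d9a55ca3375066aa14c49c22052074b58b995113488a1d5cfb082051e502147563dd64ae6da44c81040a4a0d474eb1b15e758da464242082685b5eeb51922c0c438d31aa822054e644dd4545e5b25a458d92808201c9f66b964898a884d54ab0e910406a2daf2d90c23873926078aaa20812b9d24c81caa8d5b643cce1904104075524a79326ea110f35a2d58820998e9ab9548c8b040d646b1f610415b4a148cd4e4b0ef68d6429902082533a5b15c0a460e88a994eb3c22026b2811c33b1656a9f4b4e283044019aaa7c6c42c192450f34b96d0880442ab68bc65932069a6877356110090b3d6e68e2829a54acd4c49c41042893ae2d9146c24cca455cfb04403aa121b889634abada6fa44c808809519132d0f16b97578ec464241101136aec579983712903c931aa84101ea8350b34c56e6aac478d92804409a2cf69574641d230d44ac527104076d27064925ac54b79ac87106208244554e54c19474c66b21f15b441050cfb2cad9b24e820951aa2748820a212753ab38c0b2311a35b2cf1040a7c2538d2ae3b136591a32a0c208169a4e11934af658f5428ce1902200e0aa9dc9230c544a8f9da2d5844034d27516a8891c3a41726b1f608816ac253651ee5c5aa38d2429901102cd9d10533d957296991e111904104e0fb2a35a390c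3486d22ca74882044df65b9a6610a3a4950ac5270880d3ce928c165b31e951aa87106110092aa92e38d8829a13b51f15b42201a967b5cb4306524e1592a2748440450e9a954688dc49c9b05b2cf0880f54a1464ece6c575490e32a0c110288aa8e54ce32740c3792cc5b42203d74998a8b314eab4f04ca241882099955494f48c1d2412c37b1ab08814959f58aa6e3311022c6d2a4e2081b6a4cce42d872a5ea9561119022042767d58a938911d0cd42ca748440a9e93414ca8d9cf4ae0d930640881492aaf65a6e444d019c892b561101145552e39a2428e707cacc5b44102df3a21c66b1253dab054a241844034eaa3b92888ca4a4ad07b1ab10412a3eca6560e1c49342ccd2a4e1101499d0c54562f758ed92e0c20c2204e155598fa38d14488919cab684403d674339098b4ab53e169306410412a55568be0e2307331d092b5620814fa4e4c855c989ecd32d0519022025549a1c63c5656d6d27c1841882084d557c6d270d84a21263956d10415b4e906494e3c52f5a1a629061101ea9d211959cb636a7325051904105ab49ca307b9ac5a928398a418820) (Nat.mul (nat_lit 5) (Nat.add (Nat.mul (nat_lit 23) j) i)) (nat_lit 31)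
noncomputable def mt23 (j i : ℕ) : ℕ := fld (nat_lit 0xf5bbafbf9ff560cfafed9ad56de8a7fa95cede67f0ef2634597421f8853276ce2f7a4077cf939dfb5be2d375b5ec6b73305797229c37d3d86896d24aecaa22a334ebf38e8dc840665188e7a2168251f3c24e08af20a9ab3623172c14a0726108d09f0a5431a065c11302347801624384ebef77afdf33ebc1abfe9b572ad4bbf6dd2f1dba4ef34654c8b126f7970b7f2dbcdebc833f8f073b3336ada30e4bf956ac62df1e2537aba74cd6cd8488e9b38d41f1d707239b34864c8305e19f80fca3b74497115041a3260bc62b54284a51e8901e26142190e58a82160470d0020303f1e78ecd3a3f7fc77ad65cd93ee1c54effca343dfa95cfa72efbf843dbda0bf7dd604790edd3cdce35ea68cd8af5d9d857b0ad52cc0a2ed9b96d2d4ad551d2407d0cf9c7a6c9992ccc48d14bc22a69e937259ab76cc878e1a9968b528938948203863a70d84300ca12224008c1400282fdffe7debbbc79eddfdf3e9b766fe1eb971cf82d53d79735fbd8716ac98ea5bb9a6b57b16695dd1565437ae624b9946347912614da115e3b7cfe7c180e273a5aa5325468962b5cbdbb160a1b2a48d5a2766c8d192e58a12308501b3e7899d2a7060a12205911a4078e080c1070c14001) (Nat.mul (nat_lit 7)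 (Nat.add (Nat.mul (nat_lit 128) j) i)) (nat_lit 127)
def mA23 : ℕ := (nat_lit 0x800000000000010000000000000000000000000000000000000000000000000000000000000000000000000004000020000000000000000000000000001000000000000000000000000000000000000000000000000080000000000000000000000000000008000000000000000000000000000000000000000000010000000800000000000000000000000000000000000000000040000000000000000000000000000020000000000000000000000000000000000000000000000100000000000000000000000000000000020000000000000000000000000000010000400000000000000000000000000100000000000000010000000100010114)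
def clA23 : ℕ × List ℕ × ℕ × ℕ := ((nat_lit 2), [nat_lit 33, nat_lit 68, nat_lit 69, nat_lit 70, nat_lit 128, nat_lit 130, nat_lit 135, nat_lit 136, nat_lit 515, nat_lit 2048, nat_lit 2051, nat_lit 2056, nat_lit 1027, nat_lit 4099, nat_lit 4102, nat_lit 15921, nat_lit 8195, nat_lit 8201, nat_lit 21236, nat_lit 24391, nat_lit 24392], mA23, (nat_lit 694))
def mB23 : ℕ := (nat_lit 0x400000000000020000000000000000000000000000000000000000000000000000000000000000000000000008000010000000000000000000000000002000000000000000000000000000000000000000000000000040000000000000000000000000000004000000000000000000000000000000000000000000020000000400000000000000000000000000000000000000000080000000000000000000000000000010000000000000000000000000000000000000000000000200000000000000000000000000000000010000000000000000000000000000020000800000000000000000000000000200000000000000020000000200020228)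
def clB23 : ℕ × List ℕ × ℕ × ℕ := ((nat_lit 3), [nat_lit 49, nat_lit 84, nat_lit 85, nat_lit 86, nat_lit 144, nat_lit 146, nat_lit 151, nat_lit 152, nat_lit 531, nat_lit 2064, nat_lit 2067, nat_lit 2072, nat_lit 1043, nat_lit 4115, nat_lit 4118, nat_lit 15905, nat_lit 8211, nat_lit 8217, nat_lit 21220, nat_lit 24407, nat_lit 24408], mB23, (nat_lit 694))
def mC23 : ℕ := (nat_lit 0x80100108288080000100140180040120040000208001024000428100100000080400002080021004200801400010080041242482040000200400002002804001104100108010040200188100020000400210800400081000800028800420800100184200010000800882000840082001040000202040080110088001000101140008088281000018204001080002400002401008002004004014004008402001200140080040020082202000240000810400002010088001204008010001011402104008000420000400002010800801280202004200008102408001000101144000144008204001200840010001011402804001000101140001011481141440)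
def clC23 : ℕ × List ℕ × ℕ × ℕ := ((nat_lit 6), [nat_lit 100, nat_lit 101, nat_lit 102, nat_lit 160, nat_lit 161, nat_lit 162, nat_lit 167, nat_lit 168, nat_lit 545, nat_lit 547, nat_lit 2080, nat_lit 2081, nat_lit 2083, nat_lit 2088, nat_lit 289, nat_lit 197, nat_lit 199, nat_lit 200, nat_lit 3777, nat_lit 1059, nat_lit 4131, nat_lit 4134, nat_lit 579, nat_lit 580, nat_lit 15889, nat_lit 8225, nat_lit 8227, nat_lit 8233, nat_lit 3748, nat_lit 3749, nat_lit 3750, nat_lit 3752, nat_lit 21201, nat_lit 21204, nat_lit 324, nat_lit 325, nat_lit 326, nat_lit 2560, nat_lit 2562, nat_lit 2563, nat_lit 2568, nat_lit 2569, nat_lit 1091, nat_lit 1092, nat_lit 1094, nat_lit 4163, nat_lit 4164, nat_lit 4166, nat_lit 4169, nat_lit 2115, nat_lit 2116, nat_lit 24423, nat_lit 24424, nat_lit 19225, nat_lit 15988, nat_lit 15989, nat_lit 15990, nat_lit 2176, nat_lit 2179, nat_lit 2184, nat_lit 11156, nat_lit 11157, nat_lit 11158, nat_lit 13092, nat_lit 13093, nat_lit 13094, nat_lit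 31393, nat_lit 3680, nat_lit 3683, nat_lit 3688, nat_lit 3299, nat_lit 1760, nat_lit 1763, nat_lit 8259, nat_lit 8260, nat_lit 8262, nat_lit 16450, nat_lit 16452, nat_lit 16453, nat_lit 16454, nat_lit 386, nat_lit 391, nat_lit 771, nat_lit 777, nat_lit 2305, nat_lit 2306, nat_lit 2307, nat_lit 2311, nat_lit 8707, nat_lit 8713, nat_lit 1539, nat_lit 27841, nat_lit 27842, nat_lit 27844, nat_lit 27845, nat_lit 27846, nat_lit 27847, nat_lit 27848, nat_lit 27849, nat_lit 12643, nat_lit 12649, nat_lit 24324, nat_lit 24325, nat_lit 24326, nat_lit 24328, nat_lit 1152, nat_lit 1155, nat_lit 3075, nat_lit 19316, nat_lit 19317, nat_lit 19318, nat_lit 16055, nat_lit 16056, nat_lit 8080, nat_lit 8081, nat_lit 8082, nat_lit 8083, nat_lit 8088, nat_lit 6101, nat_lit 6102, nat_lit 21172, nat_lit 21173, nat_lit 21174, nat_lit 4226, nat_lit 5523, nat_lit 15203, nat_lit 8451, nat_lit 8457, nat_lit 21106, nat_lit 21109, nat_lit 21110, nat_lit 21111, nat_lit 21112, nat_lit 9060,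 nat_lit 9065, nat_lit 11088, nat_lit 11090, nat_lit 11095, nat_lit 11096, nat_lit 10713, nat_lit 9168, nat_lit 9176, nat_lit 5904, nat_lit 5912, nat_lit 13872, nat_lit 13881, nat_lit 13287, nat_lit 12291, nat_lit 12297, nat_lit 4963, nat_lit 4969, nat_lit 24977, nat_lit 24978, nat_lit 24980, nat_lit 24981, nat_lit 24983, nat_lit 24984, nat_lit 31429, nat_lit 31430, nat_lit 10243, nat_lit 10249, nat_lit 26596, nat_lit 26597, nat_lit 19376, nat_lit 19383, nat_lit 19384, nat_lit 25683, nat_lit 28576, nat_lit 28577, nat_lit 28579, nat_lit 28584, nat_lit 28585, nat_lit 5123, nat_lit 21492, nat_lit 17585, nat_lit 17593, nat_lit 17414, nat_lit 24945, nat_lit 24948, nat_lit 24950, nat_lit 24951, nat_lit 27602, nat_lit 27605, nat_lit 27607, nat_lit 27609, nat_lit 29953, nat_lit 29957, nat_lit 29958, nat_lit 28147, nat_lit 28153, nat_lit 18640, nat_lit 18648, nat_lit 18921, nat_lit 17347, nat_lit 17348, nat_lit 17353, nat_lit 32308, nat_lit 32310, nat_lit 32313, nat_lit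 27687, nat_lit 22258, nat_lit 22261, nat_lit 22262, nat_lit 26132, nat_lit 24520, nat_lit 3508, nat_lit 3511, nat_lit 3512, nat_lit 28243, nat_lit 6147, nat_lit 29312, nat_lit 29313, nat_lit 5605, nat_lit 16645, nat_lit 16646, nat_lit 31219, nat_lit 20483, nat_lit 4850, nat_lit 4853, nat_lit 4854, nat_lit 20290, nat_lit 24051, nat_lit 23288, nat_lit 10353, nat_lit 18003, nat_lit 13652, nat_lit 5239, nat_lit 25507, nat_lit 19849, nat_lit 9671], mC23, (nat_lit 2))
def mD23 : ℕ := (nat_lit 0x40200204144040000200280240080210080000104002018000814200200000040800001040012008100402800020040082181841080000100800001001408002208200204020080100244200010000800120400800042000400014400810400200248100020000400441000480041002080000101080040220044002000202280004044142000024108002040001800001802004001008008028008004801002100280040080010041101000180000420800001020044002108004020002022801208004000810000800001020400402140101008100004201804002000202288000288004108002100480020002022801408002000202280002022842282880)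
def clD23 : ℕ × List ℕ × ℕ × ℕ := ((nat_lit 7), [nat_lit 116, nat_lit 117, nat_lit 118, nat_lit 176, nat_lit 177, nat_lit 178, nat_lit 183, nat_lit 184, nat_lit 561, nat_lit 563, nat_lit 2096, nat_lit 2097, nat_lit 2099, nat_lit 2104, nat_lit 305, nat_lit 213, nat_lit 215, nat_lit 216, nat_lit 3793, nat_lit 1075, nat_lit 4147, nat_lit 4150, nat_lit 595, nat_lit 596, nat_lit 15873, nat_lit 8241, nat_lit 8243, nat_lit 8249, nat_lit 3764, nat_lit 3765, nat_lit 3766, nat_lit 3768, nat_lit 21185, nat_lit 21188, nat_lit 340, nat_lit 341, nat_lit 342, nat_lit 2576, nat_lit 2578, nat_lit 2579, nat_lit 2584, nat_lit 2585, nat_lit 1107, nat_lit 1108, nat_lit 1110, nat_lit 4179, nat_lit 4180, nat_lit 4182, nat_lit 4185, nat_lit 2131, nat_lit 2132, nat_lit 24439, nat_lit 24440, nat_lit 19209, nat_lit 15972, nat_lit 15973, nat_lit 15974, nat_lit 2192, nat_lit 2195, nat_lit 2200, nat_lit 11140, nat_lit 11141, nat_lit 11142, nat_lit 13108, nat_lit 13109, nat_lit 13110, nat_lit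 31409, nat_lit 3696, nat_lit 3699, nat_lit 3704, nat_lit 3315, nat_lit 1776, nat_lit 1779, nat_lit 8275, nat_lit 8276, nat_lit 8278, nat_lit 16466, nat_lit 16468, nat_lit 16469, nat_lit 16470, nat_lit 402, nat_lit 407, nat_lit 787, nat_lit 793, nat_lit 2321, nat_lit 2322, nat_lit 2323, nat_lit 2327, nat_lit 8723, nat_lit 8729, nat_lit 1555, nat_lit 27857, nat_lit 27858, nat_lit 27860, nat_lit 27861, nat_lit 27862, nat_lit 27863, nat_lit 27864, nat_lit 27865, nat_lit 12659, nat_lit 12665, nat_lit 24340, nat_lit 24341, nat_lit 24342, nat_lit 24344, nat_lit 1168, nat_lit 1171, nat_lit 3091, nat_lit 19300, nat_lit 19301, nat_lit 19302, nat_lit 16039, nat_lit 16040, nat_lit 8064, nat_lit 8065, nat_lit 8066, nat_lit 8067, nat_lit 8072, nat_lit 6085, nat_lit 6086, nat_lit 21156, nat_lit 21157, nat_lit 21158, nat_lit 4242, nat_lit 5507, nat_lit 15219, nat_lit 8467, nat_lit 8473, nat_lit 21090, nat_lit 21093, nat_lit 21094, nat_lit 21095, nat_lit 21096, nat_lit 9076,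 nat_lit 9081, nat_lit 11072, nat_lit 11074, nat_lit 11079, nat_lit 11080, nat_lit 10697, nat_lit 9152, nat_lit 9160, nat_lit 5888, nat_lit 5896, nat_lit 13856, nat_lit 13865, nat_lit 13303, nat_lit 12307, nat_lit 12313, nat_lit 4979, nat_lit 4985, nat_lit 24961, nat_lit 24962, nat_lit 24964, nat_lit 24965, nat_lit 24967, nat_lit 24968, nat_lit 31445, nat_lit 31446, nat_lit 10259, nat_lit 10265, nat_lit 26612, nat_lit 26613, nat_lit 19360, nat_lit 19367, nat_lit 19368, nat_lit 25667, nat_lit 28592, nat_lit 28593, nat_lit 28595, nat_lit 28600, nat_lit 28601, nat_lit 5139, nat_lit 21476, nat_lit 17569, nat_lit 17577, nat_lit 17430, nat_lit 24929, nat_lit 24932, nat_lit 24934, nat_lit 24935, nat_lit 27586, nat_lit 27589, nat_lit 27591, nat_lit 27593, nat_lit 29969, nat_lit 29973, nat_lit 29974, nat_lit 28131, nat_lit 28137, nat_lit 18624, nat_lit 18632, nat_lit 18937, nat_lit 17363, nat_lit 17364, nat_lit 17369, nat_lit 32292, nat_lit 32294, nat_lit 32297, nat_lit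 27703, nat_lit 22242, nat_lit 22245, nat_lit 22246, nat_lit 26116, nat_lit 24536, nat_lit 3492, nat_lit 3495, nat_lit 3496, nat_lit 28227, nat_lit 6163, nat_lit 29328, nat_lit 29329, nat_lit 5621, nat_lit 16661, nat_lit 16662, nat_lit 31203, nat_lit 20499, nat_lit 4834, nat_lit 4837, nat_lit 4838, nat_lit 20306, nat_lit 24035, nat_lit 23272, nat_lit 10337, nat_lit 17987, nat_lit 13636, nat_lit 5223, nat_lit 25523, nat_lit 19865, nat_lit 9687], mD23, (nat_lit 2))
def mE23 : ℕ := (nat_lit 0x3fcffcf3033f3ffffcffc0fc3ff3fccff3ffffcf3ffcfc3fff3c3cffcffffff3f3ffffcf3ffccff3cff3fc3fffcff3ff30c3c30cf3ffffcff3ffffcffc3f3ffccf0cffcf3fcff3fcffc33cfffcffff3ffccf3ff3fff3cfff3fff033ff3cf3ffcffc33cfffcffff3ff330fff33ff3cffcf3ffffcfcf3ff3fccff33ffcfffcfcc0fff3f3303cffffc3cf3ffcf3fffc3ffffc3fcff3ffcff3ff3f03ff3ff33fcffccffc3ff3ff3ffcff0ccfcfffc3ffff3cf3ffffcfcff33ffccf3ff3fcfffcfcc0fccf3ff3fff3cffff3ffffcfcf3ff3fcc0fcfcff3cffff3cfc3f3ffcfffcfcc03fff033ff3cf3ffccff33ffcfffcfcc0fc3f3ffcfffcfcc0fffcfcc03cc0c000)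
def clE23 : ℕ × List ℕ × ℕ × ℕ := ((nat_lit 14), [nat_lit 224, nat_lit 226, nat_lit 229, nat_lit 231, nat_lit 232, nat_lit 354, nat_lit 356, nat_lit 357, nat_lit 358, nat_lit 3713, nat_lit 3716, nat_lit 3717, nat_lit 3718, nat_lit 3720, nat_lit 2592, nat_lit 2593, nat_lit 2594, nat_lit 2595, nat_lit 2600, nat_lit 2601, nat_lit 1123, nat_lit 1124, nat_lit 1126, nat_lit 1129, nat_lit 4195, nat_lit 4196, nat_lit 4198, nat_lit 4201, nat_lit 13060, nat_lit 13061, nat_lit 13062, nat_lit 13065, nat_lit 417, nat_lit 418, nat_lit 423, nat_lit 800, nat_lit 801, nat_lit 803, nat_lit 809, nat_lit 2336, nat_lit 2337, nat_lit 2338, nat_lit 2339, nat_lit 2343, nat_lit 2345, nat_lit 3648, nat_lit 3649, nat_lit 3651, nat_lit 3656, nat_lit 3657, nat_lit 3265, nat_lit 3267, nat_lit 1728, nat_lit 1729, nat_lit 1731, nat_lit 8291, nat_lit 8294, nat_lit 8297, nat_lit 8737, nat_lit 8739, nat_lit 8745, nat_lit 3234, nat_lit 3235, nat_lit 3236, nat_lit 3240, nat_lit 3241, nat_lit 1569,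 nat_lit 1571, nat_lit 27873, nat_lit 27874, nat_lit 27876, nat_lit 27877, nat_lit 27878, nat_lit 27879, nat_lit 27880, nat_lit 27881, nat_lit 12611, nat_lit 12617, nat_lit 2752, nat_lit 2760, nat_lit 24356, nat_lit 24357, nat_lit 24358, nat_lit 24359, nat_lit 24360, nat_lit 24361, nat_lit 1184, nat_lit 1185, nat_lit 1187, nat_lit 3105, nat_lit 3107, nat_lit 19284, nat_lit 19285, nat_lit 19286, nat_lit 19289, nat_lit 16017, nat_lit 16023, nat_lit 16024, nat_lit 8112, nat_lit 8113, nat_lit 8114, nat_lit 8115, nat_lit 8119, nat_lit 8120, nat_lit 6133, nat_lit 6134, nat_lit 5936, nat_lit 5937, nat_lit 5939, nat_lit 5944, nat_lit 5945, nat_lit 4641, nat_lit 13840, nat_lit 13841, nat_lit 13849, nat_lit 21140, nat_lit 21141, nat_lit 21142, nat_lit 21143, nat_lit 450, nat_lit 453, nat_lit 455, nat_lit 15777, nat_lit 15785, nat_lit 5155, nat_lit 5161, nat_lit 835, nat_lit 836, nat_lit 841, nat_lit 16145, nat_lit 16153, nat_lit 1314, nat_lit 8353, nat_lit 4003, nat_lit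 4004, nat_lit 4005, nat_lit 4006, nat_lit 4007, nat_lit 4008, nat_lit 4009, nat_lit 21457, nat_lit 21458, nat_lit 21460, nat_lit 21462, nat_lit 4040, nat_lit 12865, nat_lit 2243, nat_lit 2245, nat_lit 2248, nat_lit 2249, nat_lit 13249, nat_lit 13257, nat_lit 12323, nat_lit 12329, nat_lit 2627, nat_lit 3441, nat_lit 4929, nat_lit 4931, nat_lit 4937, nat_lit 1699, nat_lit 1700, nat_lit 25009, nat_lit 25010, nat_lit 25012, nat_lit 25013, nat_lit 25015, nat_lit 25016, nat_lit 31461, nat_lit 10275, nat_lit 10281, nat_lit 16484, nat_lit 16485, nat_lit 16486, nat_lit 12579, nat_lit 12580, nat_lit 12582, nat_lit 12585, nat_lit 17553, nat_lit 17561, nat_lit 17444, nat_lit 17445, nat_lit 17446, nat_lit 707, nat_lit 3345, nat_lit 3348, nat_lit 3349, nat_lit 3350, nat_lit 3351, nat_lit 3352, nat_lit 3353, nat_lit 1632, nat_lit 1634, nat_lit 1635, nat_lit 1639, nat_lit 1640, nat_lit 8771, nat_lit 8772, nat_lit 8777, nat_lit 3136, nat_lit 3140, nat_lit 1603, nat_lit 1604,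 nat_lit 24913, nat_lit 24916, nat_lit 24917, nat_lit 24918, nat_lit 24919, nat_lit 24920, nat_lit 27538, nat_lit 27539, nat_lit 27540, nat_lit 27541, nat_lit 27542, nat_lit 27543, nat_lit 27544, nat_lit 27545, nat_lit 29985, nat_lit 29988, nat_lit 29989, nat_lit 29990, nat_lit 29993, nat_lit 28113, nat_lit 28114, nat_lit 28115, nat_lit 28121, nat_lit 18672, nat_lit 18673, nat_lit 18675, nat_lit 18680, nat_lit 18880, nat_lit 18881, nat_lit 18883, nat_lit 18887, nat_lit 18889, nat_lit 17379, nat_lit 17380, nat_lit 17385, nat_lit 32276, nat_lit 32278, nat_lit 32281, nat_lit 27648, nat_lit 27655, nat_lit 12529, nat_lit 12537, nat_lit 22226, nat_lit 22228, nat_lit 22229, nat_lit 22230, nat_lit 22232, nat_lit 9028, nat_lit 31265, nat_lit 20688, nat_lit 20689, nat_lit 20690, nat_lit 30161, nat_lit 26564, nat_lit 26164, nat_lit 4385, nat_lit 1219, nat_lit 1221, nat_lit 24545, nat_lit 24552, nat_lit 2723, nat_lit 2725, nat_lit 3473, nat_lit 3476, nat_lit 3479, nat_lit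 3480, nat_lit 16546, nat_lit 25985, nat_lit 28273, nat_lit 28275, nat_lit 28281, nat_lit 11189, nat_lit 11190, nat_lit 11029, nat_lit 11031, nat_lit 11032, nat_lit 14257, nat_lit 14259, nat_lit 6451, nat_lit 6452, nat_lit 6453, nat_lit 6454, nat_lit 6455, nat_lit 6456, nat_lit 5041, nat_lit 30977, nat_lit 30978, nat_lit 30980, nat_lit 30984, nat_lit 6483, nat_lit 9427, nat_lit 15377, nat_lit 6177, nat_lit 6179, nat_lit 5809, nat_lit 5811, nat_lit 5973, nat_lit 5974, nat_lit 5976, nat_lit 5977, nat_lit 11128, nat_lit 4675, nat_lit 7705, nat_lit 9588, nat_lit 9589, nat_lit 9590, nat_lit 9593, nat_lit 20870, nat_lit 32081, nat_lit 23905, nat_lit 29344, nat_lit 29345, nat_lit 15812, nat_lit 15813, nat_lit 15814, nat_lit 15817, nat_lit 2816, nat_lit 2818, nat_lit 2819, nat_lit 2825, nat_lit 5187, nat_lit 5188, nat_lit 5190, nat_lit 5193, nat_lit 10307, nat_lit 10313, nat_lit 23248, nat_lit 23256, nat_lit 5204, nat_lit 5205, nat_lit 5206, nat_lit 5207, nat_lit 5209,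 nat_lit 16244, nat_lit 16245, nat_lit 16246, nat_lit 16247, nat_lit 16248, nat_lit 16249, nat_lit 2432, nat_lit 2434, nat_lit 2435, nat_lit 2439, nat_lit 2440, nat_lit 1346, nat_lit 1348, nat_lit 1349, nat_lit 1350, nat_lit 10900, nat_lit 10901, nat_lit 10902, nat_lit 10905, nat_lit 24167, nat_lit 15169, nat_lit 12836, nat_lit 12837, nat_lit 12838, nat_lit 12841, nat_lit 3936, nat_lit 3943, nat_lit 3944, nat_lit 3552, nat_lit 3555, nat_lit 3560, nat_lit 2016, nat_lit 2018, nat_lit 2019, nat_lit 2024, nat_lit 6211, nat_lit 6212, nat_lit 9283, nat_lit 9284, nat_lit 9286, nat_lit 2370, nat_lit 2372, nat_lit 16706, nat_lit 16707, nat_lit 16708, nat_lit 16709, nat_lit 16710, nat_lit 30833, nat_lit 31953, nat_lit 8517, nat_lit 8518, nat_lit 21042, nat_lit 21045, nat_lit 21046, nat_lit 21047, nat_lit 21048, nat_lit 2691, nat_lit 2696, nat_lit 8996, nat_lit 8998, nat_lit 9001, nat_lit 3621, nat_lit 8389, nat_lit 8393, nat_lit 12689, nat_lit 27780, nat_lit 27781, nat_lit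 27782, nat_lit 27783, nat_lit 2963, nat_lit 2964, nat_lit 2965, nat_lit 2966, nat_lit 4900, nat_lit 4901, nat_lit 4902, nat_lit 4905, nat_lit 29761, nat_lit 4818, nat_lit 4820, nat_lit 4821, nat_lit 4822, nat_lit 25044, nat_lit 25045, nat_lit 25046, nat_lit 25048, nat_lit 3168, nat_lit 3171, nat_lit 24642, nat_lit 24643, nat_lit 24644, nat_lit 24645, nat_lit 24646, nat_lit 24647, nat_lit 24648, nat_lit 18965, nat_lit 18966, nat_lit 20321, nat_lit 32721, nat_lit 10321, nat_lit 10327, nat_lit 25713, nat_lit 28545, nat_lit 12436, nat_lit 12437, nat_lit 12438, nat_lit 12441, nat_lit 7952, nat_lit 7954, nat_lit 7955, nat_lit 7960, nat_lit 14000, nat_lit 14002, nat_lit 14003, nat_lit 14008, nat_lit 14009, nat_lit 22196, nat_lit 22197, nat_lit 22198, nat_lit 22114, nat_lit 22115, nat_lit 22117, nat_lit 22118, nat_lit 22121, nat_lit 8850, nat_lit 20241, nat_lit 25201, nat_lit 25473, nat_lit 25475, nat_lit 16117, nat_lit 16118, nat_lit 1808, nat_lit 1810, nat_lit 1424,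 nat_lit 1426, nat_lit 1427, nat_lit 1432, nat_lit 1433, nat_lit 1360, nat_lit 1361, nat_lit 1362, nat_lit 1363, nat_lit 1369, nat_lit 7796, nat_lit 7798, nat_lit 7801, nat_lit 13939, nat_lit 13940, nat_lit 13945, nat_lit 3572, nat_lit 3573, nat_lit 3574, nat_lit 3575, nat_lit 3576, nat_lit 4706, nat_lit 4707, nat_lit 4709, nat_lit 4713, nat_lit 2659, nat_lit 24849, nat_lit 24850, nat_lit 24853, nat_lit 24854, nat_lit 24855, nat_lit 24856, nat_lit 739, nat_lit 867, nat_lit 868, nat_lit 873, nat_lit 17652, nat_lit 17653, nat_lit 17654, nat_lit 10371, nat_lit 10376, nat_lit 10377, nat_lit 17472, nat_lit 17474, nat_lit 17476, nat_lit 17477, nat_lit 17478, nat_lit 12356, nat_lit 12357, nat_lit 12358, nat_lit 1667, nat_lit 24884, nat_lit 24885, nat_lit 24886, nat_lit 24887, nat_lit 24888, nat_lit 3203, nat_lit 24740, nat_lit 24741, nat_lit 24742, nat_lit 27299, nat_lit 20145, nat_lit 19507, nat_lit 19508, nat_lit 19509, nat_lit 19510, nat_lit 19513, nat_lit 27170,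 nat_lit 24672, nat_lit 24674, nat_lit 24679, nat_lit 24680, nat_lit 20353, nat_lit 20354, nat_lit 20355, nat_lit 20360, nat_lit 20361, nat_lit 17520, nat_lit 17521, nat_lit 17522, nat_lit 17523, nat_lit 17527, nat_lit 17528, nat_lit 17529, nat_lit 20756, nat_lit 20758, nat_lit 20761, nat_lit 31076, nat_lit 31078, nat_lit 31081, nat_lit 27506, nat_lit 27509, nat_lit 27510, nat_lit 27511, nat_lit 29908, nat_lit 29909, nat_lit 29910, nat_lit 28691, nat_lit 21777, nat_lit 29880, nat_lit 27333, nat_lit 27334, nat_lit 23681, nat_lit 23780, nat_lit 23782, nat_lit 23986, nat_lit 23987, nat_lit 23988, nat_lit 23989, nat_lit 23990, nat_lit 12066, nat_lit 9703, nat_lit 23313, nat_lit 23321, nat_lit 21729, nat_lit 9108, nat_lit 31185, nat_lit 23393, nat_lit 10625, nat_lit 30881, nat_lit 16964, nat_lit 16966, nat_lit 18705, nat_lit 29733, nat_lit 29734, nat_lit 26353, nat_lit 26369, nat_lit 4420, nat_lit 4422, nat_lit 24453, nat_lit 24454, nat_lit 3587, nat_lit 19445, nat_lit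 19446, nat_lit 27748, nat_lit 27749, nat_lit 27750, nat_lit 27752, nat_lit 2275, nat_lit 2930, nat_lit 2932, nat_lit 2933, nat_lit 2934, nat_lit 2935, nat_lit 26884, nat_lit 26885, nat_lit 26886, nat_lit 13441, nat_lit 10737, nat_lit 8658, nat_lit 8659, nat_lit 8664, nat_lit 8665, nat_lit 12180, nat_lit 12182, nat_lit 15252, nat_lit 15254, nat_lit 9396, nat_lit 9397, nat_lit 9398, nat_lit 6388, nat_lit 6389, nat_lit 6390, nat_lit 15616, nat_lit 15624, nat_lit 15625, nat_lit 13008, nat_lit 13016, nat_lit 13017, nat_lit 5859, nat_lit 5865, nat_lit 5077, nat_lit 32372, nat_lit 32373, nat_lit 32374, nat_lit 10643, nat_lit 10644, nat_lit 7844, nat_lit 7845, nat_lit 5845, nat_lit 5846, nat_lit 13363, nat_lit 13369, nat_lit 6659, nat_lit 2006, nat_lit 30020, nat_lit 30021, nat_lit 30022, nat_lit 9648, nat_lit 9656, nat_lit 10035, nat_lit 10041, nat_lit 11568, nat_lit 11571, nat_lit 11577, nat_lit 17268, nat_lit 17269, nat_lit 29489, nat_lit 18804, nat_lit 18806, nat_lit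 29393, nat_lit 29524, nat_lit 29525, nat_lit 29526, nat_lit 6640, nat_lit 6643, nat_lit 6648, nat_lit 6649, nat_lit 7395, nat_lit 14544, nat_lit 14547, nat_lit 23220, nat_lit 23221, nat_lit 8835, nat_lit 8841, nat_lit 13667, nat_lit 13673, nat_lit 28097, nat_lit 28100, nat_lit 28101, nat_lit 28102, nat_lit 28103, nat_lit 28104, nat_lit 28105, nat_lit 3040, nat_lit 3042, nat_lit 3048, nat_lit 5172, nat_lit 5173, nat_lit 5174, nat_lit 5175, nat_lit 5177, nat_lit 15024, nat_lit 7059, nat_lit 10292, nat_lit 10293, nat_lit 10294, nat_lit 10297, nat_lit 20132, nat_lit 20133, nat_lit 20134, nat_lit 20136, nat_lit 15009, nat_lit 7041, nat_lit 4482, nat_lit 4487, nat_lit 4488, nat_lit 5266, nat_lit 5267, nat_lit 14944, nat_lit 14945, nat_lit 14946, nat_lit 14947, nat_lit 14951, nat_lit 14952, nat_lit 11892, nat_lit 11894, nat_lit 24068, nat_lit 24069, nat_lit 24070, nat_lit 8585, nat_lit 14723, nat_lit 21362, nat_lit 21365, nat_lit 21366, nat_lit 21367, nat_lit 21368,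 nat_lit 6883, nat_lit 10083, nat_lit 10084, nat_lit 1411, nat_lit 1795, nat_lit 3331, nat_lit 10834, nat_lit 10839, nat_lit 10451, nat_lit 10457, nat_lit 8913, nat_lit 8914, nat_lit 8915, nat_lit 8919, nat_lit 19061, nat_lit 19062, nat_lit 11941, nat_lit 11942, nat_lit 5650, nat_lit 4867, nat_lit 14129, nat_lit 14130, nat_lit 14135, nat_lit 14137, nat_lit 21428, nat_lit 21429, nat_lit 21430, nat_lit 7171, nat_lit 13315, nat_lit 13316, nat_lit 13318, nat_lit 13321, nat_lit 12777, nat_lit 3153, nat_lit 3156, nat_lit 3159, nat_lit 3160, nat_lit 9731, nat_lit 9737, nat_lit 5090, nat_lit 5091, nat_lit 5097, nat_lit 24721, nat_lit 24722, nat_lit 24724, nat_lit 24725, nat_lit 24726, nat_lit 24727, nat_lit 24728, nat_lit 5987, nat_lit 5993, nat_lit 6532, nat_lit 6533, nat_lit 6534, nat_lit 6535, nat_lit 15545, nat_lit 9604, nat_lit 9605, nat_lit 9606, nat_lit 11267, nat_lit 11273, nat_lit 14116, nat_lit 14117, nat_lit 21636, nat_lit 21637, nat_lit 21638, nat_lit 19122,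 nat_lit 19127, nat_lit 19128, nat_lit 25939, nat_lit 25945, nat_lit 28320, nat_lit 28321, nat_lit 28322, nat_lit 28323, nat_lit 28327, nat_lit 28328, nat_lit 28329, nat_lit 32516, nat_lit 32517, nat_lit 32518, nat_lit 31685, nat_lit 31686, nat_lit 8969, nat_lit 10499, nat_lit 10505, nat_lit 17813, nat_lit 17814, nat_lit 21824, nat_lit 21826, nat_lit 21827, nat_lit 21832, nat_lit 28803, nat_lit 28809, nat_lit 20548, nat_lit 20550, nat_lit 27714, nat_lit 27717, nat_lit 27718, nat_lit 27719, nat_lit 27720, nat_lit 8553, nat_lit 10530, nat_lit 10536, nat_lit 8609, nat_lit 17700, nat_lit 17701, nat_lit 17702, nat_lit 1251, nat_lit 10755, nat_lit 10761, nat_lit 8949, nat_lit 8950, nat_lit 28018, nat_lit 28023, nat_lit 19152, nat_lit 19154, nat_lit 19155, nat_lit 19161, nat_lit 16864, nat_lit 16865, nat_lit 16866, nat_lit 16871, nat_lit 16873, nat_lit 17284, nat_lit 17286, nat_lit 27989, nat_lit 27990, nat_lit 2515, nat_lit 2521, nat_lit 977, nat_lit 979, nat_lit 985,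 nat_lit 14098, nat_lit 14103, nat_lit 12803, nat_lit 12809, nat_lit 5689, nat_lit 4788, nat_lit 4789, nat_lit 4790, nat_lit 30133, nat_lit 11441, nat_lit 27360, nat_lit 27362, nat_lit 27368, nat_lit 19776, nat_lit 19779, nat_lit 19784, nat_lit 19633, nat_lit 19634, nat_lit 19639, nat_lit 19640, nat_lit 19641, nat_lit 18500, nat_lit 30692, nat_lit 30693, nat_lit 30694, nat_lit 1845, nat_lit 1846, nat_lit 27570, nat_lit 27575, nat_lit 27576, nat_lit 17489, nat_lit 17490, nat_lit 17491, nat_lit 17496, nat_lit 17497, nat_lit 20385, nat_lit 20387, nat_lit 20393, nat_lit 18852, nat_lit 18854, nat_lit 23636, nat_lit 23638, nat_lit 26241, nat_lit 26481, nat_lit 23412, nat_lit 23414, nat_lit 30916, nat_lit 15796, nat_lit 15797, nat_lit 15798, nat_lit 26868, nat_lit 7779, nat_lit 7027, nat_lit 13971, nat_lit 13977, nat_lit 7539, nat_lit 31138, nat_lit 31143, nat_lit 31144, nat_lit 13561, nat_lit 7993, nat_lit 13523, nat_lit 20599, nat_lit 20600, nat_lit 7513, nat_lit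 20776, nat_lit 31089, nat_lit 31091, nat_lit 31096, nat_lit 30336, nat_lit 30339, nat_lit 30344, nat_lit 19908, nat_lit 19909, nat_lit 19910, nat_lit 19913, nat_lit 22485, nat_lit 22486, nat_lit 21337, nat_lit 31888, nat_lit 31890, nat_lit 31895, nat_lit 31896, nat_lit 12789, nat_lit 12790, nat_lit 23302, nat_lit 25571, nat_lit 25572, nat_lit 25108, nat_lit 7571, nat_lit 14691, nat_lit 14697, nat_lit 14707, nat_lit 4499, nat_lit 13715, nat_lit 24277, nat_lit 24279, nat_lit 24280, nat_lit 24281, nat_lit 4305, nat_lit 4313, nat_lit 1330, nat_lit 1331, nat_lit 1337, nat_lit 15153, nat_lit 24081, nat_lit 24084, nat_lit 24088, nat_lit 848, nat_lit 850, nat_lit 852, nat_lit 855, nat_lit 856, nat_lit 12425, nat_lit 7011, nat_lit 7017, nat_lit 7941, nat_lit 7944, nat_lit 20660, nat_lit 20662, nat_lit 2034, nat_lit 2039, nat_lit 2040, nat_lit 4016, nat_lit 4017, nat_lit 4024, nat_lit 3952, nat_lit 3954, nat_lit 3960, nat_lit 6676, nat_lit 9748, nat_lit 9750, nat_lit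 30053, nat_lit 12547, nat_lit 5106, nat_lit 5108, nat_lit 5109, nat_lit 5110, nat_lit 27815, nat_lit 24711, nat_lit 18240, nat_lit 18241, nat_lit 18242, nat_lit 18243, nat_lit 18248, nat_lit 18103, nat_lit 18105, nat_lit 23027, nat_lit 23028, nat_lit 23030, nat_lit 23033, nat_lit 22531, nat_lit 22532, nat_lit 16081, nat_lit 16084, nat_lit 16085, nat_lit 16086, nat_lit 16087, nat_lit 16088, nat_lit 16213, nat_lit 16214, nat_lit 2465, nat_lit 2473, nat_lit 1378, nat_lit 1380, nat_lit 1381, nat_lit 1382, nat_lit 20418, nat_lit 20423, nat_lit 20424, nat_lit 26723, nat_lit 26729, nat_lit 27032, nat_lit 10487, nat_lit 10488, nat_lit 20408, nat_lit 24656, nat_lit 24657, nat_lit 27553, nat_lit 27555, nat_lit 4451, nat_lit 16275, nat_lit 16281, nat_lit 25079, nat_lit 25080, nat_lit 27138, nat_lit 22564, nat_lit 22566, nat_lit 3383, nat_lit 3384, nat_lit 27472, nat_lit 27480, nat_lit 20083, nat_lit 20089, nat_lit 17792, nat_lit 17793, nat_lit 17795, nat_lit 17801, nat_lit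 23236, nat_lit 23237, nat_lit 23238, nat_lit 19712, nat_lit 19713, nat_lit 19719, nat_lit 19720, nat_lit 19721, nat_lit 25552, nat_lit 25554, nat_lit 25555, nat_lit 25559, nat_lit 25560, nat_lit 25561, nat_lit 11476, nat_lit 11477, nat_lit 29060, nat_lit 29062, nat_lit 30101, nat_lit 30664, nat_lit 18819, nat_lit 18825, nat_lit 23670, nat_lit 23449, nat_lit 21539, nat_lit 21545, nat_lit 20466, nat_lit 20468, nat_lit 20470, nat_lit 20471, nat_lit 20472, nat_lit 20473, nat_lit 10592, nat_lit 10596, nat_lit 10600, nat_lit 28033, nat_lit 28034, nat_lit 28035, nat_lit 28041, nat_lit 22146, nat_lit 22149, nat_lit 22151, nat_lit 22152, nat_lit 22153, nat_lit 28627, nat_lit 8897, nat_lit 8898, nat_lit 8900, nat_lit 8901, nat_lit 8902, nat_lit 21385, nat_lit 8816, nat_lit 8820, nat_lit 8824, nat_lit 29712, nat_lit 29720, nat_lit 28960, nat_lit 28968, nat_lit 13957, nat_lit 22178, nat_lit 22183, nat_lit 22184, nat_lit 22864, nat_lit 22865, nat_lit 22866, nat_lit 22867,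 nat_lit 22871, nat_lit 22872, nat_lit 22873, nat_lit 30742, nat_lit 17078, nat_lit 17827, nat_lit 20049, nat_lit 20051, nat_lit 21876, nat_lit 18406, nat_lit 19609, nat_lit 19808, nat_lit 19810, nat_lit 19815, nat_lit 19816, nat_lit 18580, nat_lit 18582, nat_lit 32339, nat_lit 30229, nat_lit 30230, nat_lit 15044, nat_lit 15045, nat_lit 15046, nat_lit 29303, nat_lit 22659, nat_lit 30528, nat_lit 20230, nat_lit 17940, nat_lit 32454, nat_lit 20342, nat_lit 15365, nat_lit 15366, nat_lit 17328, nat_lit 28448, nat_lit 28451, nat_lit 28947, nat_lit 21520, nat_lit 21528, nat_lit 26469, nat_lit 7825, nat_lit 30707, nat_lit 30713, nat_lit 13185, nat_lit 13191, nat_lit 13192, nat_lit 28067, nat_lit 28073, nat_lit 27731, nat_lit 28050, nat_lit 28056, nat_lit 19392, nat_lit 19394, nat_lit 19400, nat_lit 21015, nat_lit 13588, nat_lit 13589, nat_lit 13590, nat_lit 2992, nat_lit 2994, nat_lit 2999, nat_lit 3000, nat_lit 1010, nat_lit 1011, nat_lit 1017, nat_lit 2544, nat_lit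 2545, nat_lit 2547, nat_lit 7316, nat_lit 7318, nat_lit 26672, nat_lit 26680, nat_lit 18144, nat_lit 18147, nat_lit 18152, nat_lit 10214, nat_lit 31572, nat_lit 31574, nat_lit 31577, nat_lit 16856, nat_lit 12112, nat_lit 5474, nat_lit 5480, nat_lit 13376, nat_lit 13378, nat_lit 13379, nat_lit 11321, nat_lit 9779, nat_lit 15552, nat_lit 15560, nat_lit 7648, nat_lit 14339, nat_lit 23152, nat_lit 23160, nat_lit 3929, nat_lit 7225, nat_lit 21312, nat_lit 21320, nat_lit 10913, nat_lit 10914, nat_lit 10916, nat_lit 10919, nat_lit 4464, nat_lit 10725, nat_lit 10726, nat_lit 9042, nat_lit 9043, nat_lit 9048, nat_lit 28361, nat_lit 10225, nat_lit 10229, nat_lit 10230, nat_lit 10231, nat_lit 10232, nat_lit 20608, nat_lit 20610, nat_lit 20615, nat_lit 7123, nat_lit 14515, nat_lit 14521, nat_lit 30209, nat_lit 30210, nat_lit 30212, nat_lit 30213, nat_lit 30214, nat_lit 30215, nat_lit 30217, nat_lit 19920, nat_lit 19928, nat_lit 18560, nat_lit 18563, nat_lit 29476, nat_lit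 29477, nat_lit 29478, nat_lit 23704, nat_lit 22944, nat_lit 22947, nat_lit 22952, nat_lit 9721, nat_lit 6199, nat_lit 10131, nat_lit 10137, nat_lit 6274, nat_lit 18017, nat_lit 18021, nat_lit 18022, nat_lit 18023, nat_lit 11609, nat_lit 25490, nat_lit 32624, nat_lit 32632, nat_lit 28564, nat_lit 28565, nat_lit 28566, nat_lit 28569, nat_lit 27346, nat_lit 27349, nat_lit 27353, nat_lit 27891, nat_lit 27897, nat_lit 18904, nat_lit 18665, nat_lit 21444, nat_lit 21446, nat_lit 21449, nat_lit 31284, nat_lit 31286, nat_lit 31289, nat_lit 27942, nat_lit 27943, nat_lit 9475, nat_lit 14850, nat_lit 14851, nat_lit 14855, nat_lit 14856, nat_lit 5024, nat_lit 5025, nat_lit 5026, nat_lit 5027, nat_lit 5031, nat_lit 5032, nat_lit 5033, nat_lit 436, nat_lit 5541, nat_lit 9825, nat_lit 9828, nat_lit 9831, nat_lit 9832, nat_lit 8759, nat_lit 8760, nat_lit 8377, nat_lit 8304, nat_lit 8305, nat_lit 8306, nat_lit 8312, nat_lit 24899, nat_lit 29366, nat_lit 12101, nat_lit 12102,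 nat_lit 7524, nat_lit 7525, nat_lit 7526, nat_lit 7555, nat_lit 5379, nat_lit 9977, nat_lit 12265, nat_lit 23832, nat_lit 27123, nat_lit 21507, nat_lit 21510, nat_lit 10001, nat_lit 10004, nat_lit 6801, nat_lit 6804, nat_lit 6806, nat_lit 24695, nat_lit 3252, nat_lit 3255, nat_lit 16339, nat_lit 17506, nat_lit 25763, nat_lit 28499, nat_lit 9955, nat_lit 29701, nat_lit 9273, nat_lit 20648, nat_lit 29571, nat_lit 18052, nat_lit 18054, nat_lit 18055, nat_lit 18056, nat_lit 28405, nat_lit 28406, nat_lit 28409, nat_lit 6713, nat_lit 13203, nat_lit 3641, nat_lit 7153, nat_lit 7156, nat_lit 7161, nat_lit 4727, nat_lit 4728, nat_lit 27490, nat_lit 27496, nat_lit 20033, nat_lit 19955, nat_lit 19958, nat_lit 19459, nat_lit 11041, nat_lit 4342, nat_lit 15728, nat_lit 15736, nat_lit 5328, nat_lit 5331, nat_lit 5336, nat_lit 23496, nat_lit 9544, nat_lit 9984, nat_lit 9992, nat_lit 30513, nat_lit 30516, nat_lit 30518, nat_lit 30519, nat_lit 30520, nat_lit 29000, nat_lit 22835,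 nat_lit 30256, nat_lit 29267, nat_lit 29603, nat_lit 18130, nat_lit 18131, nat_lit 13393, nat_lit 13394, nat_lit 13396, nat_lit 13398, nat_lit 13399, nat_lit 22003, nat_lit 32499, nat_lit 24755, nat_lit 22329, nat_lit 19657, nat_lit 30768, nat_lit 30771, nat_lit 31717, nat_lit 16592, nat_lit 16593, nat_lit 19433, nat_lit 28214, nat_lit 25219, nat_lit 5697, nat_lit 5703, nat_lit 16841, nat_lit 21281, nat_lit 3969, nat_lit 3973, nat_lit 22729, nat_lit 11352, nat_lit 24467, nat_lit 1456, nat_lit 1464, nat_lit 8937, nat_lit 20439, nat_lit 20441, nat_lit 10562, nat_lit 18520, nat_lit 29584, nat_lit 29592, nat_lit 26388, nat_lit 26340, nat_lit 31168, nat_lit 31170, nat_lit 31171, nat_lit 31177, nat_lit 22472, nat_lit 6472, nat_lit 12512, nat_lit 12520, nat_lit 18417, nat_lit 18420, nat_lit 31699, nat_lit 7746, nat_lit 7750, nat_lit 31731, nat_lit 20995, nat_lit 22099, nat_lit 8135, nat_lit 8136, nat_lit 11698, nat_lit 11700, nat_lit 19704, nat_lit 11557, nat_lit 11558,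 nat_lit 32675, nat_lit 15520, nat_lit 14502, nat_lit 18197, nat_lit 23520, nat_lit 23528, nat_lit 23529, nat_lit 16292, nat_lit 16294, nat_lit 16295, nat_lit 5952, nat_lit 816, nat_lit 18947, nat_lit 31507, nat_lit 4691, nat_lit 9880, nat_lit 13540, nat_lit 14328, nat_lit 14353, nat_lit 17315, nat_lit 24195, nat_lit 7624, nat_lit 9904, nat_lit 9912, nat_lit 26055, nat_lit 25652, nat_lit 25654, nat_lit 5299, nat_lit 3881, nat_lit 15109, nat_lit 1825, nat_lit 24995, nat_lit 27159, nat_lit 7763, nat_lit 13907, nat_lit 27763, nat_lit 27769, nat_lit 22390, nat_lit 9009, nat_lit 9088, nat_lit 9096, nat_lit 24563, nat_lit 14482, nat_lit 11910, nat_lit 15584, nat_lit 15592, nat_lit 27381, nat_lit 28006, nat_lit 7334, nat_lit 12821, nat_lit 12822, nat_lit 12824, nat_lit 28848, nat_lit 25187, nat_lit 27219, nat_lit 13267, nat_lit 12928, nat_lit 16329, nat_lit 8689, nat_lit 8691, nat_lit 10850, nat_lit 15267, nat_lit 11177, nat_lit 2228, nat_lit 13458, nat_lit 29779, nat_lit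 28675, nat_lit 30825, nat_lit 19890, nat_lit 19894, nat_lit 2613, nat_lit 30147, nat_lit 12888, nat_lit 24371, nat_lit 29858, nat_lit 1234], mE23, (nat_lit 2))
def ch023 : ℕ × List (List ℕ) × List ℕ := ((nat_lit 1), [[nat_lit 9], [nat_lit 0], [nat_lit 1], [nat_lit 2], [nat_lit 3], [nat_lit 4], [nat_lit 5], [nat_lit 6], [nat_lit 7]], [nat_lit 0, nat_lit 11137, nat_lit 11170, nat_lit 11219, nat_lit 11222, nat_lit 11268, nat_lit 11270, nat_lit 11303, nat_lit 11365, nat_lit 11366, nat_lit 11368, nat_lit 11410, nat_lit 11415, nat_lit 11448, nat_lit 11494, nat_lit 11496, nat_lit 11554, nat_lit 11559, nat_lit 11560, nat_lit 11591, nat_lit 11633, nat_lit 11639, nat_lit 11672, nat_lit 11700, nat_lit 11762, nat_lit 11767, nat_lit 11768, nat_lit 11812, nat_lit 11815, nat_lit 11889, nat_lit 11891, nat_lit 11895, nat_lit 11896, nat_lit 11928, nat_lit 11959, nat_lit 11990, nat_lit 12016, nat_lit 12023, nat_lit 12070, nat_lit 12072, nat_lit 12100, nat_lit 12147, nat_lit 12149,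 nat_lit 12225, nat_lit 12227, nat_lit 12231, nat_lit 12232, nat_lit 12264, nat_lit 12308, nat_lit 12311, nat_lit 12355, nat_lit 12359, nat_lit 12390, nat_lit 12448, nat_lit 12451, nat_lit 12455, nat_lit 12456, nat_lit 12439, nat_lit 12440, nat_lit 12518, nat_lit 12520, nat_lit 12407, nat_lit 12580, nat_lit 12583, nat_lit 12614, nat_lit 12642, nat_lit 2823, nat_lit 12694, nat_lit 12696, nat_lit 12680, nat_lit 12660, nat_lit 12755, nat_lit 12757, nat_lit 12802, nat_lit 12805, nat_lit 12880, nat_lit 12883, nat_lit 12887, nat_lit 12888, nat_lit 12868, nat_lit 12871, nat_lit 12872, nat_lit 12966, nat_lit 12968, nat_lit 12836, nat_lit 12839, nat_lit 13044, nat_lit 13047, nat_lit 13091, nat_lit 13095, nat_lit 13126, nat_lit 13170, nat_lit 13175, nat_lit 13222, nat_lit 13224, nat_lit 13250, nat_lit 1955, nat_lit 1959, nat_lit 1960, nat_lit 11874, nat_lit 11879, nat_lit 11880, nat_lit 13318, nat_lit 13320, nat_lit 11847, nat_lit 13334, nat_lit 13336, nat_lit 11828, nat_lit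 11831, nat_lit 13400, nat_lit 13444, nat_lit 13447, nat_lit 13270, nat_lit 13523, nat_lit 13525, nat_lit 13527, nat_lit 13558, nat_lit 13586, nat_lit 13633, nat_lit 13635, nat_lit 2086, nat_lit 2088, nat_lit 12050, nat_lit 12056, nat_lit 12036, nat_lit 13285, nat_lit 13698, nat_lit 13701, nat_lit 13777, nat_lit 13781, nat_lit 13782, nat_lit 13812, nat_lit 2547, nat_lit 2551, nat_lit 2552, nat_lit 12210, nat_lit 12212, nat_lit 12215, nat_lit 12216, nat_lit 13894, nat_lit 13896, nat_lit 12180, nat_lit 12183, nat_lit 13911, nat_lit 13926, nat_lit 13928, nat_lit 12167, nat_lit 14008, nat_lit 14052, nat_lit 14055, nat_lit 13831, nat_lit 13846, nat_lit 14147, nat_lit 14149, nat_lit 14151, nat_lit 14182, nat_lit 14215, nat_lit 14262, nat_lit 14264, nat_lit 14290, nat_lit 14337, nat_lit 14343, nat_lit 14390, nat_lit 14392, nat_lit 14434, nat_lit 14440, nat_lit 14497, nat_lit 14499, nat_lit 1362, nat_lit 1367, nat_lit 1368, nat_lit 2838, nat_lit 2840, nat_lit 1335, nat_lit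 11542, nat_lit 11543, nat_lit 11544, nat_lit 12534, nat_lit 12536, nat_lit 11508, nat_lit 11511, nat_lit 12706, nat_lit 12712, nat_lit 14596, nat_lit 14599, nat_lit 12470, nat_lit 14610, nat_lit 14616, nat_lit 14580, nat_lit 14583, nat_lit 14547, nat_lit 14549, nat_lit 14551, nat_lit 14514, nat_lit 14786, nat_lit 14789, nat_lit 14791, nat_lit 14823, nat_lit 14854, nat_lit 14882, nat_lit 14929, nat_lit 14931, nat_lit 14960, nat_lit 14963, nat_lit 14996, nat_lit 1442, nat_lit 1448, nat_lit 1428, nat_lit 11651, nat_lit 11656, nat_lit 12485, nat_lit 15041, nat_lit 15045, nat_lit 15076, nat_lit 15120, nat_lit 15125, nat_lit 15126, nat_lit 15172, nat_lit 15174, nat_lit 15224, nat_lit 1826, nat_lit 1828, nat_lit 1831, nat_lit 1832, nat_lit 3510, nat_lit 3512, nat_lit 1796, nat_lit 1799, nat_lit 11748, nat_lit 11750, nat_lit 11751, nat_lit 11752, nat_lit 12983, nat_lit 12998, nat_lit 13000, nat_lit 11719, nat_lit 13650, nat_lit 13656, nat_lit 15332, nat_lit 15335, nat_lit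 12903, nat_lit 12918, nat_lit 15350, nat_lit 15352, nat_lit 15362, nat_lit 15368, nat_lit 15316, nat_lit 15319, nat_lit 15492, nat_lit 15495, nat_lit 15555, nat_lit 15557, nat_lit 15559, nat_lit 15270, nat_lit 15238, nat_lit 15240, nat_lit 15250, nat_lit 15682, nat_lit 15685, nat_lit 15687, nat_lit 15719, nat_lit 15766, nat_lit 15768, nat_lit 15794, nat_lit 15846, nat_lit 15848, nat_lit 15890, nat_lit 15896, nat_lit 15953, nat_lit 15955, nat_lit 15984, nat_lit 15991, nat_lit 16038, nat_lit 16040, nat_lit 16082, nat_lit 16088, nat_lit 16116, nat_lit 16177, nat_lit 16179, nat_lit 16184, nat_lit 16215, nat_lit 16240, nat_lit 16243, nat_lit 16276, nat_lit 961, nat_lit 966, nat_lit 967, nat_lit 968, nat_lit 2006, nat_lit 2008, nat_lit 932, nat_lit 935, nat_lit 2098, nat_lit 2104, nat_lit 3892, nat_lit 3895, nat_lit 1942, nat_lit 11351, nat_lit 11352, nat_lit 11942, nat_lit 11944, nat_lit 11332, nat_lit 11335, nat_lit 13458, nat_lit 13464, nat_lit 13428, nat_lit 13431,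 nat_lit 12083, nat_lit 12088, nat_lit 13379, nat_lit 13381, nat_lit 13383, nat_lit 13346, nat_lit 16369, nat_lit 16376, nat_lit 16340, nat_lit 16343, nat_lit 16306, nat_lit 15287, nat_lit 16289, nat_lit 16561, nat_lit 16565, nat_lit 16566, nat_lit 16567, nat_lit 16612, nat_lit 16615, nat_lit 16646, nat_lit 16678, nat_lit 16706, nat_lit 16737, nat_lit 16768, nat_lit 16771, nat_lit 22899, nat_lit 16834, nat_lit 16836, nat_lit 16885, nat_lit 16888, nat_lit 1009, nat_lit 1011, nat_lit 1016, nat_lit 1973, nat_lit 11428, nat_lit 11432, nat_lit 16912, nat_lit 16917, nat_lit 16948, nat_lit 16984, nat_lit 22533, nat_lit 17028, nat_lit 17030, nat_lit 17123, nat_lit 17126, nat_lit 17128, nat_lit 17175, nat_lit 1281, nat_lit 1284, nat_lit 1286, nat_lit 1287, nat_lit 1288, nat_lit 2599, nat_lit 2614, nat_lit 2616, nat_lit 1255, nat_lit 3026, nat_lit 3032, nat_lit 4516, nat_lit 4519, nat_lit 2519, nat_lit 2534, nat_lit 12275, nat_lit 12278, nat_lit 12279, nat_lit 11479, nat_lit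 11480, nat_lit 12294, nat_lit 12296, nat_lit 11463, nat_lit 14070, nat_lit 14072, nat_lit 14082, nat_lit 14088, nat_lit 14036, nat_lit 14039, nat_lit 12739, nat_lit 12744, nat_lit 14692, nat_lit 14695, nat_lit 17347, nat_lit 17349, nat_lit 17351, nat_lit 13974, nat_lit 13942, nat_lit 13944, nat_lit 13954, nat_lit 17378, nat_lit 17384, nat_lit 17396, nat_lit 17409, nat_lit 17416, nat_lit 17364, nat_lit 17367, nat_lit 17331, nat_lit 17333, nat_lit 17335, nat_lit 17315, nat_lit 17606, nat_lit 17666, nat_lit 17669, nat_lit 17671, nat_lit 17271, nat_lit 17254, nat_lit 17256, nat_lit 17234, nat_lit 17186, nat_lit 17192, nat_lit 17217, nat_lit 17857, nat_lit 17861, nat_lit 17862, nat_lit 17863, nat_lit 17908, nat_lit 17911, nat_lit 17958, nat_lit 17960, nat_lit 18002, nat_lit 18065, nat_lit 18067, nat_lit 18114, nat_lit 18120, nat_lit 18148, nat_lit 18209, nat_lit 18211, nat_lit 18216, nat_lit 18256, nat_lit 18259, nat_lit 18292, nat_lit 10647, nat_lit 18342, nat_lit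 18344, nat_lit 18386, nat_lit 18392, nat_lit 18420, nat_lit 18481, nat_lit 18483, nat_lit 18488, nat_lit 18532, nat_lit 18535, nat_lit 18565, nat_lit 18608, nat_lit 18611, nat_lit 18616, nat_lit 18660, nat_lit 18664, nat_lit 18695, nat_lit 27059, nat_lit 18754, nat_lit 18756, nat_lit 18805, nat_lit 18808, nat_lit 774, nat_lit 775, nat_lit 776, nat_lit 663, nat_lit 664, nat_lit 1398, nat_lit 1400, nat_lit 644, nat_lit 647, nat_lit 2898, nat_lit 2904, nat_lit 2884, nat_lit 2887, nat_lit 1457, nat_lit 1459, nat_lit 1464, nat_lit 2851, nat_lit 2853, nat_lit 2855, nat_lit 2786, nat_lit 11574, nat_lit 11236, nat_lit 12594, nat_lit 12600, nat_lit 12564, nat_lit 12567, nat_lit 11251, nat_lit 14721, nat_lit 14723, nat_lit 14728, nat_lit 14676, nat_lit 14679, nat_lit 12724, nat_lit 12728, nat_lit 14642, nat_lit 13991, nat_lit 14625, nat_lit 18896, nat_lit 18904, nat_lit 18884, nat_lit 18887, nat_lit 18833, nat_lit 18816, nat_lit 19024, nat_lit 19029, nat_lit 19030, nat_lit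 19031, nat_lit 19076, nat_lit 19079, nat_lit 19186, nat_lit 19217, nat_lit 19232, nat_lit 26595, nat_lit 19266, nat_lit 19365, nat_lit 19368, nat_lit 19400, nat_lit 803, nat_lit 808, nat_lit 708, nat_lit 712, nat_lit 11685, nat_lit 26581, nat_lit 19444, nat_lit 19491, nat_lit 19496, nat_lit 26260, nat_lit 19571, nat_lit 19574, nat_lit 19576, nat_lit 19686, nat_lit 19688, nat_lit 19720, nat_lit 19751, nat_lit 1060, nat_lit 1062, nat_lit 1063, nat_lit 1064, nat_lit 1859, nat_lit 1862, nat_lit 1863, nat_lit 919, nat_lit 920, nat_lit 1878, nat_lit 1880, nat_lit 903, nat_lit 3574, nat_lit 3576, nat_lit 3586, nat_lit 3592, nat_lit 3556, nat_lit 3559, nat_lit 2129, nat_lit 2131, nat_lit 2136, nat_lit 3924, nat_lit 3927, nat_lit 5555, nat_lit 5557, nat_lit 5559, nat_lit 3494, nat_lit 3462, nat_lit 3464, nat_lit 3474, nat_lit 13062, nat_lit 13063, nat_lit 11783, nat_lit 13078, nat_lit 13080, nat_lit 11798, nat_lit 13106, nat_lit 13112, nat_lit 13028, nat_lit 13031, nat_lit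 15586, nat_lit 15592, nat_lit 15604, nat_lit 15617, nat_lit 15619, nat_lit 15624, nat_lit 15572, nat_lit 15575, nat_lit 15539, nat_lit 15541, nat_lit 15543, nat_lit 13684, nat_lit 13688, nat_lit 13492, nat_lit 13495, nat_lit 15523, nat_lit 16470, nat_lit 20002, nat_lit 20005, nat_lit 20007, nat_lit 15463, nat_lit 15446, nat_lit 15448, nat_lit 15426, nat_lit 15378, nat_lit 15384, nat_lit 15409, nat_lit 20081, nat_lit 20083, nat_lit 20088, nat_lit 20100, nat_lit 20103, nat_lit 20051, nat_lit 20053, nat_lit 20112, nat_lit 20120, nat_lit 20068, nat_lit 20071, nat_lit 20035, nat_lit 20037, nat_lit 20039, nat_lit 19986, nat_lit 19989, nat_lit 19991, nat_lit 19970, nat_lit 19874, nat_lit 20465, nat_lit 20469, nat_lit 20470, nat_lit 20471, nat_lit 19924, nat_lit 19927, nat_lit 19896, nat_lit 19912, nat_lit 19858, nat_lit 19864, nat_lit 19841, nat_lit 19777, nat_lit 19779, nat_lit 19784, nat_lit 19799, nat_lit 19824, nat_lit 20704, nat_lit 20709, nat_lit 20710, nat_lit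 20711, nat_lit 20772, nat_lit 20774, nat_lit 20775, nat_lit 20807, nat_lit 20854, nat_lit 20856, nat_lit 20961, nat_lit 20963, nat_lit 20992, nat_lit 20995, nat_lit 21028, nat_lit 21089, nat_lit 21091, nat_lit 21096, nat_lit 21168, nat_lit 21171, nat_lit 21176, nat_lit 21220, nat_lit 21224, nat_lit 31875, nat_lit 21282, nat_lit 21284, nat_lit 21320, nat_lit 9782, nat_lit 9784, nat_lit 21362, nat_lit 21368, nat_lit 21396, nat_lit 21457, nat_lit 21459, nat_lit 21464, nat_lit 21508, nat_lit 21511, nat_lit 21555, nat_lit 21557, nat_lit 21600, nat_lit 21603, nat_lit 21608, nat_lit 21652, nat_lit 21656, nat_lit 21700, nat_lit 21703, nat_lit 32483, nat_lit 32488, nat_lit 21810, nat_lit 21812, nat_lit 21816, nat_lit 21847, nat_lit 21893, nat_lit 21896, nat_lit 21940, nat_lit 21943, nat_lit 21974, nat_lit 22884, nat_lit 22020, nat_lit 22069, nat_lit 22072, nat_lit 22104, nat_lit 22135, nat_lit 514, nat_lit 519, nat_lit 520, nat_lit 1126, nat_lit 1128, nat_lit 500, nat_lit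 503, nat_lit 982, nat_lit 436, nat_lit 2050, nat_lit 2056, nat_lit 2036, nat_lit 2039, nat_lit 451, nat_lit 3953, nat_lit 3955, nat_lit 3960, nat_lit 3908, nat_lit 3911, nat_lit 1155, nat_lit 1160, nat_lit 2116, nat_lit 2120, nat_lit 3858, nat_lit 3527, nat_lit 3841, nat_lit 11970, nat_lit 11187, nat_lit 13569, nat_lit 13571, nat_lit 13576, nat_lit 13540, nat_lit 13507, nat_lit 16480, nat_lit 16483, nat_lit 16488, nat_lit 13668, nat_lit 13672, nat_lit 16452, nat_lit 16455, nat_lit 12117, nat_lit 16401, nat_lit 16384, nat_lit 22296, nat_lit 22196, nat_lit 22199, nat_lit 22144, nat_lit 22453, nat_lit 22454, nat_lit 22455, nat_lit 22276, nat_lit 22279, nat_lit 22306, nat_lit 22355, nat_lit 22401, nat_lit 22416, nat_lit 22568, nat_lit 22612, nat_lit 546, nat_lit 548, nat_lit 552, nat_lit 1029, nat_lit 31860, nat_lit 22659, nat_lit 22664, nat_lit 22696, nat_lit 31603, nat_lit 31608, nat_lit 22770, nat_lit 22774, nat_lit 22776, nat_lit 22824, nat_lit 22855, nat_lit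 22946, nat_lit 22952, nat_lit 22996, nat_lit 22999, nat_lit 23031, nat_lit 23062, nat_lit 1523, nat_lit 1526, nat_lit 1527, nat_lit 738, nat_lit 743, nat_lit 744, nat_lit 1542, nat_lit 1544, nat_lit 727, nat_lit 2662, nat_lit 2663, nat_lit 1303, nat_lit 2678, nat_lit 2680, nat_lit 1318, nat_lit 2690, nat_lit 2696, nat_lit 2644, nat_lit 2647, nat_lit 4626, nat_lit 4632, nat_lit 4644, nat_lit 4657, nat_lit 4659, nat_lit 4664, nat_lit 4612, nat_lit 4615, nat_lit 4595, nat_lit 4597, nat_lit 4599, nat_lit 1683, nat_lit 1688, nat_lit 3060, nat_lit 3064, nat_lit 2932, nat_lit 2935, nat_lit 4579, nat_lit 5126, nat_lit 6530, nat_lit 6533, nat_lit 6535, nat_lit 4535, nat_lit 4502, nat_lit 4504, nat_lit 4482, nat_lit 4434, nat_lit 4440, nat_lit 4465, nat_lit 12322, nat_lit 12327, nat_lit 14198, nat_lit 14200, nat_lit 12342, nat_lit 12344, nat_lit 14226, nat_lit 14232, nat_lit 14244, nat_lit 12370, nat_lit 14273, nat_lit 14275, nat_lit 14280, nat_lit 14164, nat_lit 14131,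 nat_lit 14133, nat_lit 14135, nat_lit 17745, nat_lit 17747, nat_lit 17752, nat_lit 17764, nat_lit 17767, nat_lit 17715, nat_lit 17717, nat_lit 17776, nat_lit 17779, nat_lit 17784, nat_lit 15028, nat_lit 15032, nat_lit 17732, nat_lit 17735, nat_lit 17699, nat_lit 17701, nat_lit 17703, nat_lit 17650, nat_lit 17653, nat_lit 17655, nat_lit 15061, nat_lit 15064, nat_lit 14756, nat_lit 14759, nat_lit 14115, nat_lit 14806, nat_lit 17634, nat_lit 17522, nat_lit 23409, nat_lit 23413, nat_lit 23414, nat_lit 23415, nat_lit 17572, nat_lit 17575, nat_lit 17544, nat_lit 17560, nat_lit 17506, nat_lit 17512, nat_lit 17489, nat_lit 17425, nat_lit 17427, nat_lit 17432, nat_lit 17447, nat_lit 17472, nat_lit 23536, nat_lit 23539, nat_lit 23544, nat_lit 23560, nat_lit 23572, nat_lit 23575, nat_lit 23507, nat_lit 23509, nat_lit 23511, nat_lit 23458, nat_lit 23461, nat_lit 24744, nat_lit 23524, nat_lit 23527, nat_lit 23491, nat_lit 23493, nat_lit 23495, nat_lit 23426, nat_lit 23429,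 nat_lit 23431, nat_lit 23256, nat_lit 23393, nat_lit 23397, nat_lit 23398, nat_lit 23399, nat_lit 23361, nat_lit 23366, nat_lit 23217, nat_lit 24048, nat_lit 24053, nat_lit 24054, nat_lit 24055, nat_lit 23316, nat_lit 23318, nat_lit 23319, nat_lit 24135, nat_lit 23286, nat_lit 23288, nat_lit 23240, nat_lit 23304, nat_lit 23201, nat_lit 23203, nat_lit 23208, nat_lit 23127, nat_lit 23184, nat_lit 23072, nat_lit 23075, nat_lit 23080, nat_lit 23096, nat_lit 23111, nat_lit 37989, nat_lit 37990, nat_lit 37991, nat_lit 24388, nat_lit 24390, nat_lit 24391, nat_lit 24434, nat_lit 24439, nat_lit 24486, nat_lit 24488, nat_lit 24531, nat_lit 24534, nat_lit 24567, nat_lit 24630, nat_lit 24632, nat_lit 24688, nat_lit 24691, nat_lit 24724, nat_lit 26611, nat_lit 24770, nat_lit 24772, nat_lit 24808, nat_lit 24848, nat_lit 24851, nat_lit 24856, nat_lit 24900, nat_lit 24904, nat_lit 38179, nat_lit 38184, nat_lit 24978, nat_lit 24980, nat_lit 24984, nat_lit 25032, nat_lit 25060,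 nat_lit 26644, nat_lit 25092, nat_lit 25128, nat_lit 25159, nat_lit 8562, nat_lit 8568, nat_lit 9588, nat_lit 25217, nat_lit 25219, nat_lit 25224, nat_lit 25268, nat_lit 25271, nat_lit 25315, nat_lit 25317, nat_lit 25360, nat_lit 25363, nat_lit 25368, nat_lit 25412, nat_lit 25416, nat_lit 25460, nat_lit 25463, nat_lit 25523, nat_lit 25525, nat_lit 25527, nat_lit 25301, nat_lit 33731, nat_lit 33736, nat_lit 25602, nat_lit 25604, nat_lit 25608, nat_lit 25652, nat_lit 25655, nat_lit 25701, nat_lit 25704, nat_lit 25748, nat_lit 25751, nat_lit 25779, nat_lit 38786, nat_lit 38788, nat_lit 38792, nat_lit 38935, nat_lit 25860, nat_lit 25862, nat_lit 25864, nat_lit 25909, nat_lit 25912, nat_lit 25956, nat_lit 25959, nat_lit 25990, nat_lit 26024, nat_lit 26068, nat_lit 26071, nat_lit 26117, nat_lit 26119, nat_lit 26150, nat_lit 26968, nat_lit 26243, nat_lit 26248, nat_lit 26296, nat_lit 26327, nat_lit 26372, nat_lit 26375, nat_lit 26406, nat_lit 371, nat_lit 375, nat_lit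 376, nat_lit 790, nat_lit 308, nat_lit 1634, nat_lit 1640, nat_lit 1620, nat_lit 1623, nat_lit 323, nat_lit 1410, nat_lit 275, nat_lit 2977, nat_lit 2979, nat_lit 2984, nat_lit 2964, nat_lit 2947, nat_lit 5136, nat_lit 3044, nat_lit 5108, nat_lit 5111, nat_lit 1668, nat_lit 1477, nat_lit 5057, nat_lit 5040, nat_lit 12625, nat_lit 12627, nat_lit 11154, nat_lit 14896, nat_lit 14899, nat_lit 14904, nat_lit 14916, nat_lit 14868, nat_lit 14835, nat_lit 14770, nat_lit 15012, nat_lit 18964, nat_lit 18967, nat_lit 12773, nat_lit 18912, nat_lit 19252, nat_lit 19255, nat_lit 26548, nat_lit 26551, nat_lit 26467, nat_lit 26528, nat_lit 26676, nat_lit 25187, nat_lit 420, nat_lit 422, nat_lit 424, nat_lit 821, nat_lit 37923, nat_lit 37928, nat_lit 26722, nat_lit 26728, nat_lit 26772, nat_lit 37842, nat_lit 37848, nat_lit 38007, nat_lit 26822, nat_lit 26824, nat_lit 26866, nat_lit 26872, nat_lit 26916, nat_lit 26919, nat_lit 26999, nat_lit 27030, nat_lit 27105, nat_lit 27112,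 nat_lit 27156, nat_lit 27159, nat_lit 27205, nat_lit 27207, nat_lit 27238, nat_lit 27270, nat_lit 2210, nat_lit 2214, nat_lit 2215, nat_lit 1074, nat_lit 1079, nat_lit 2230, nat_lit 2232, nat_lit 563, nat_lit 567, nat_lit 568, nat_lit 1094, nat_lit 2242, nat_lit 2248, nat_lit 2196, nat_lit 2199, nat_lit 1890, nat_lit 1895, nat_lit 3670, nat_lit 3672, nat_lit 1910, nat_lit 1912, nat_lit 3682, nat_lit 3688, nat_lit 3700, nat_lit 1922, nat_lit 3713, nat_lit 3715, nat_lit 3720, nat_lit 3652, nat_lit 3635, nat_lit 3637, nat_lit 3639, nat_lit 5713, nat_lit 5715, nat_lit 5720, nat_lit 5732, nat_lit 5735, nat_lit 5683, nat_lit 5685, nat_lit 5744, nat_lit 4084, nat_lit 5700, nat_lit 5703, nat_lit 5667, nat_lit 5669, nat_lit 5671, nat_lit 5634, nat_lit 5637, nat_lit 5639, nat_lit 2404, nat_lit 2340, nat_lit 2343, nat_lit 4101, nat_lit 4104, nat_lit 3988, nat_lit 3991, nat_lit 3619, nat_lit 4006, nat_lit 5618, nat_lit 5506, nat_lit 7665, nat_lit 7669, nat_lit 7670, nat_lit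 7671, nat_lit 5572, nat_lit 5575, nat_lit 5528, nat_lit 5544, nat_lit 5490, nat_lit 5496, nat_lit 5473, nat_lit 5409, nat_lit 5411, nat_lit 5416, nat_lit 5431, nat_lit 5456, nat_lit 13137, nat_lit 13143, nat_lit 13158, nat_lit 13160, nat_lit 15810, nat_lit 15816, nat_lit 15828, nat_lit 13186, nat_lit 13192, nat_lit 15857, nat_lit 15859, nat_lit 15864, nat_lit 15876, nat_lit 15879, nat_lit 15747, nat_lit 15749, nat_lit 13233, nat_lit 13235, nat_lit 15920, nat_lit 15923, nat_lit 15928, nat_lit 15940, nat_lit 15780, nat_lit 15666, nat_lit 15671, nat_lit 20592, nat_lit 20595, nat_lit 20600, nat_lit 20612, nat_lit 20616, nat_lit 20628, nat_lit 20631, nat_lit 20563, nat_lit 20565, nat_lit 20567, nat_lit 20514, nat_lit 20517, nat_lit 16900, nat_lit 20580, nat_lit 20583, nat_lit 16933, nat_lit 16936, nat_lit 16516, nat_lit 16519, nat_lit 20547, nat_lit 20549, nat_lit 20551, nat_lit 20482, nat_lit 20485, nat_lit 20487, nat_lit 20312, nat_lit 20449, nat_lit 20453, nat_lit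 20454, nat_lit 20455, nat_lit 13800, nat_lit 16964, nat_lit 16967, nat_lit 15650, nat_lit 16658, nat_lit 20417, nat_lit 20422, nat_lit 20273, nat_lit 27744, nat_lit 27749, nat_lit 27750, nat_lit 27751, nat_lit 20372, nat_lit 20374, nat_lit 20375, nat_lit 27831, nat_lit 20342, nat_lit 20344, nat_lit 20296, nat_lit 20360, nat_lit 20257, nat_lit 20259, nat_lit 20264, nat_lit 20183, nat_lit 20240, nat_lit 20128, nat_lit 20131, nat_lit 20136, nat_lit 20152, nat_lit 20167, nat_lit 29491, nat_lit 29496, nat_lit 27970, nat_lit 27976, nat_lit 27988, nat_lit 27991, nat_lit 28004, nat_lit 28007, nat_lit 27939, nat_lit 27941, nat_lit 27943, nat_lit 28022, nat_lit 27874, nat_lit 27877, nat_lit 27879, nat_lit 27591, nat_lit 27960, nat_lit 27857, nat_lit 27861, nat_lit 27862, nat_lit 27892, nat_lit 21252, nat_lit 21255, nat_lit 27907, nat_lit 27909, nat_lit 27911, nat_lit 27922, nat_lit 27925, nat_lit 27927, nat_lit 27761, nat_lit 27765, nat_lit 27766, nat_lit 27767, nat_lit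 27560, nat_lit 27728, nat_lit 27733, nat_lit 27734, nat_lit 27735, nat_lit 27798, nat_lit 27847, nat_lit 19958, nat_lit 27696, nat_lit 27702, nat_lit 27783, nat_lit 27472, nat_lit 32085, nat_lit 32086, nat_lit 32087, nat_lit 27652, nat_lit 27654, nat_lit 27655, nat_lit 28690, nat_lit 28695, nat_lit 27606, nat_lit 27608, nat_lit 27539, nat_lit 27542, nat_lit 27544, nat_lit 27671, nat_lit 27622, nat_lit 28854, nat_lit 28856, nat_lit 27383, nat_lit 27444, nat_lit 27456, nat_lit 27459, nat_lit 27464, nat_lit 27351, nat_lit 31891, nat_lit 31896, nat_lit 27298, nat_lit 27304, nat_lit 27319, nat_lit 27332, nat_lit 27335, nat_lit 27366, nat_lit 44356, nat_lit 44358, nat_lit 44359, nat_lit 44434, nat_lit 44439, nat_lit 31590, nat_lit 31592, nat_lit 29075, nat_lit 29078, nat_lit 29122, nat_lit 29127, nat_lit 29187, nat_lit 29191, nat_lit 29238, nat_lit 29240, nat_lit 29266, nat_lit 29318, nat_lit 29368, nat_lit 31539, nat_lit 29442, nat_lit 29444, nat_lit 29480, nat_lit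 31844, nat_lit 29508, nat_lit 29544, nat_lit 29575, nat_lit 32467, nat_lit 32472, nat_lit 29634, nat_lit 29636, nat_lit 29640, nat_lit 29688, nat_lit 42914, nat_lit 42916, nat_lit 42920, nat_lit 29764, nat_lit 29766, nat_lit 29768, nat_lit 29800, nat_lit 29828, nat_lit 29876, nat_lit 29879, nat_lit 31576, nat_lit 29939, nat_lit 29944, nat_lit 29975, nat_lit 30006, nat_lit 7384, nat_lit 9796, nat_lit 9799, nat_lit 8275, nat_lit 8277, nat_lit 30056, nat_lit 22600, nat_lit 30116, nat_lit 30119, nat_lit 30179, nat_lit 30181, nat_lit 30183, nat_lit 21538, nat_lit 21541, nat_lit 28040, nat_lit 30260, nat_lit 30264, nat_lit 30308, nat_lit 30311, nat_lit 30357, nat_lit 30360, nat_lit 30404, nat_lit 30407, nat_lit 30435, nat_lit 30146, nat_lit 30149, nat_lit 30151, nat_lit 30135, nat_lit 30536, nat_lit 21380, nat_lit 39108, nat_lit 39112, nat_lit 40276, nat_lit 40279, nat_lit 30596, nat_lit 30600, nat_lit 30645, nat_lit 30648, nat_lit 30692, nat_lit 30695, nat_lit 30723,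 nat_lit 30776, nat_lit 30820, nat_lit 30823, nat_lit 30883, nat_lit 30885, nat_lit 30887, nat_lit 42305, nat_lit 42308, nat_lit 42310, nat_lit 42312, nat_lit 32360, nat_lit 41492, nat_lit 41495, nat_lit 30995, nat_lit 30997, nat_lit 30998, nat_lit 31000, nat_lit 31048, nat_lit 31092, nat_lit 31095, nat_lit 31128, nat_lit 31172, nat_lit 31175, nat_lit 31221, nat_lit 31223, nat_lit 31254, nat_lit 31332, nat_lit 31335, nat_lit 31381, nat_lit 31383, nat_lit 31414, nat_lit 32391, nat_lit 31528, nat_lit 31639, nat_lit 31684, nat_lit 31687, nat_lit 31718, nat_lit 30067, nat_lit 30071, nat_lit 31766, nat_lit 228, nat_lit 231, nat_lit 232, nat_lit 582, nat_lit 196, nat_lit 1138, nat_lit 163, nat_lit 2372, nat_lit 178, nat_lit 2065, nat_lit 2067, nat_lit 146, nat_lit 4036, nat_lit 4020, nat_lit 2419, nat_lit 2149, nat_lit 1173, nat_lit 4064, nat_lit 13600, nat_lit 13603, nat_lit 11121, nat_lit 16756, nat_lit 16724, nat_lit 13765, nat_lit 13733, nat_lit 31827, nat_lit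 31810, nat_lit 30019, nat_lit 21330, nat_lit 613, nat_lit 264, nat_lit 42888, nat_lit 31944, nat_lit 31972, nat_lit 32005, nat_lit 42984, nat_lit 44260, nat_lit 44263, nat_lit 44454, nat_lit 32066, nat_lit 32071, nat_lit 32072, nat_lit 32177, nat_lit 32184, nat_lit 32228, nat_lit 32231, nat_lit 32277, nat_lit 32310, nat_lit 32422, nat_lit 32450, nat_lit 32520, nat_lit 32564, nat_lit 32567, nat_lit 32613, nat_lit 32615, nat_lit 32646, nat_lit 3207, nat_lit 1559, nat_lit 3222, nat_lit 3224, nat_lit 839, nat_lit 1574, nat_lit 1576, nat_lit 3234, nat_lit 3240, nat_lit 3252, nat_lit 391, nat_lit 392, nat_lit 854, nat_lit 1586, nat_lit 3188, nat_lit 3171, nat_lit 3173, nat_lit 3175, nat_lit 2711, nat_lit 2726, nat_lit 2728, nat_lit 4786, nat_lit 4792, nat_lit 3444, nat_lit 2738, nat_lit 2744, nat_lit 4801, nat_lit 4803, nat_lit 4808, nat_lit 4820, nat_lit 4823, nat_lit 4755, nat_lit 4757, nat_lit 2769, nat_lit 2771, nat_lit 4852, nat_lit 4772, nat_lit 4706, nat_lit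 4711, nat_lit 6720, nat_lit 6723, nat_lit 6728, nat_lit 6740, nat_lit 6744, nat_lit 6756, nat_lit 6759, nat_lit 6707, nat_lit 6709, nat_lit 6711, nat_lit 6658, nat_lit 6661, nat_lit 5189, nat_lit 5192, nat_lit 6691, nat_lit 6693, nat_lit 6695, nat_lit 6626, nat_lit 6629, nat_lit 6631, nat_lit 6472, nat_lit 6609, nat_lit 6613, nat_lit 6614, nat_lit 6615, nat_lit 3381, nat_lit 3384, nat_lit 3155, nat_lit 3366, nat_lit 3128, nat_lit 5204, nat_lit 5207, nat_lit 4690, nat_lit 3394, nat_lit 6577, nat_lit 6582, nat_lit 5233, nat_lit 7344, nat_lit 7349, nat_lit 7350, nat_lit 7351, nat_lit 6548, nat_lit 6550, nat_lit 6551, nat_lit 8999, nat_lit 6502, nat_lit 6504, nat_lit 6456, nat_lit 6520, nat_lit 6433, nat_lit 6435, nat_lit 6440, nat_lit 6375, nat_lit 5168, nat_lit 6328, nat_lit 6344, nat_lit 6359, nat_lit 14311, nat_lit 14326, nat_lit 14328, nat_lit 14354, nat_lit 14360, nat_lit 14372, nat_lit 18081, nat_lit 18083, nat_lit 18088, nat_lit 14401, nat_lit 14403, nat_lit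 14408, nat_lit 14423, nat_lit 18160, nat_lit 18163, nat_lit 18168, nat_lit 18180, nat_lit 18184, nat_lit 18196, nat_lit 18199, nat_lit 17938, nat_lit 14464, nat_lit 14467, nat_lit 14484, nat_lit 18244, nat_lit 18036, nat_lit 18277, nat_lit 18280, nat_lit 17987, nat_lit 17841, nat_lit 17846, nat_lit 17847, nat_lit 24755, nat_lit 24760, nat_lit 24274, nat_lit 24276, nat_lit 24280, nat_lit 24292, nat_lit 24295, nat_lit 19461, nat_lit 19464, nat_lit 24308, nat_lit 24311, nat_lit 24243, nat_lit 24247, nat_lit 24326, nat_lit 24178, nat_lit 24181, nat_lit 24183, nat_lit 23895, nat_lit 24264, nat_lit 24161, nat_lit 24166, nat_lit 24196, nat_lit 19429, nat_lit 19432, nat_lit 24211, nat_lit 24213, nat_lit 24215, nat_lit 15144, nat_lit 19476, nat_lit 19479, nat_lit 19043, nat_lit 24226, nat_lit 24231, nat_lit 23816, nat_lit 24065, nat_lit 24069, nat_lit 24070, nat_lit 24071, nat_lit 23864, nat_lit 24032, nat_lit 24037, nat_lit 24038, nat_lit 24039, nat_lit 24151, nat_lit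 17622, nat_lit 15207, nat_lit 17809, nat_lit 17814, nat_lit 19169, nat_lit 24000, nat_lit 24006, nat_lit 24087, nat_lit 23776, nat_lit 26885, nat_lit 26886, nat_lit 26887, nat_lit 23956, nat_lit 23958, nat_lit 23959, nat_lit 33330, nat_lit 33335, nat_lit 23910, nat_lit 23912, nat_lit 23843, nat_lit 23846, nat_lit 23848, nat_lit 23975, nat_lit 23926, nat_lit 23928, nat_lit 33510, nat_lit 33512, nat_lit 23944, nat_lit 23687, nat_lit 23748, nat_lit 23760, nat_lit 23763, nat_lit 23768, nat_lit 23800, nat_lit 23655, nat_lit 26664, nat_lit 23608, nat_lit 23623, nat_lit 23636, nat_lit 23639, nat_lit 23670, nat_lit 35384, nat_lit 35396, nat_lit 35399, nat_lit 33640, nat_lit 33652, nat_lit 33655, nat_lit 33587, nat_lit 33589, nat_lit 33591, nat_lit 33670, nat_lit 33683, nat_lit 33685, nat_lit 33687, nat_lit 33702, nat_lit 33602, nat_lit 33605, nat_lit 33607, nat_lit 33079, nat_lit 33409, nat_lit 33413, nat_lit 33414, nat_lit 33415, nat_lit 33156, nat_lit 33159, nat_lit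 33544, nat_lit 33360, nat_lit 33365, nat_lit 33366, nat_lit 33560, nat_lit 25075, nat_lit 25077, nat_lit 25079, nat_lit 33570, nat_lit 33573, nat_lit 33575, nat_lit 33377, nat_lit 33382, nat_lit 33383, nat_lit 33248, nat_lit 33253, nat_lit 33254, nat_lit 33255, nat_lit 33142, nat_lit 33399, nat_lit 33110, nat_lit 33112, nat_lit 26805, nat_lit 26806, nat_lit 26807, nat_lit 33286, nat_lit 33346, nat_lit 33351, nat_lit 23350, nat_lit 33447, nat_lit 33478, nat_lit 33480, nat_lit 37046, nat_lit 33266, nat_lit 33271, nat_lit 33432, nat_lit 38468, nat_lit 38470, nat_lit 38471, nat_lit 38418, nat_lit 38423, nat_lit 37830, nat_lit 37832, nat_lit 33091, nat_lit 33094, nat_lit 33096, nat_lit 33218, nat_lit 33223, nat_lit 33174, nat_lit 34611, nat_lit 34615, nat_lit 34662, nat_lit 34664, nat_lit 33186, nat_lit 33127, nat_lit 32871, nat_lit 33238, nat_lit 33240, nat_lit 34772, nat_lit 26195, nat_lit 26200, nat_lit 32994, nat_lit 32759, nat_lit 36312, nat_lit 37943, nat_lit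 32728, nat_lit 32740, nat_lit 32743, nat_lit 32774, nat_lit 32791, nat_lit 32806, nat_lit 46467, nat_lit 46487, nat_lit 46515, nat_lit 46519, nat_lit 38022, nat_lit 38024, nat_lit 26226, nat_lit 34962, nat_lit 34966, nat_lit 35043, nat_lit 35047, nat_lit 35080, nat_lit 35124, nat_lit 35127, nat_lit 35174, nat_lit 35176, nat_lit 35202, nat_lit 33811, nat_lit 36258, nat_lit 36260, nat_lit 34100, nat_lit 34102, nat_lit 35336, nat_lit 35367, nat_lit 36008, nat_lit 35411, nat_lit 35416, nat_lit 35447, nat_lit 38770, nat_lit 38772, nat_lit 38776, nat_lit 35524, nat_lit 35526, nat_lit 35528, nat_lit 35560, nat_lit 35607, nat_lit 36820, nat_lit 36824, nat_lit 37816, nat_lit 47780, nat_lit 35667, nat_lit 35670, nat_lit 35672, nat_lit 35720, nat_lit 35748, nat_lit 35796, nat_lit 35799, nat_lit 35847, nat_lit 35878, nat_lit 37975, nat_lit 35912, nat_lit 35943, nat_lit 35974, nat_lit 8580, nat_lit 8583, nat_lit 9363, nat_lit 9365, nat_lit 9367, nat_lit 7106, nat_lit 7109,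 nat_lit 36068, nat_lit 36071, nat_lit 26340, nat_lit 26343, nat_lit 36147, nat_lit 36149, nat_lit 36151, nat_lit 36182, nat_lit 25490, nat_lit 25493, nat_lit 25495, nat_lit 25479, nat_lit 36248, nat_lit 33748, nat_lit 33751, nat_lit 36360, nat_lit 36404, nat_lit 36407, nat_lit 36435, nat_lit 36500, nat_lit 36563, nat_lit 36565, nat_lit 36567, nat_lit 36610, nat_lit 36113, nat_lit 36117, nat_lit 36119, nat_lit 25236, nat_lit 25239, nat_lit 36216, nat_lit 36200, nat_lit 38232, nat_lit 45364, nat_lit 45367, nat_lit 46627, nat_lit 36771, nat_lit 36773, nat_lit 36776, nat_lit 36868, nat_lit 36871, nat_lit 36904, nat_lit 36948, nat_lit 36951, nat_lit 37011, nat_lit 37013, nat_lit 37015, nat_lit 37058, nat_lit 37095, nat_lit 37127, nat_lit 37158, nat_lit 37396, nat_lit 37400, nat_lit 38566, nat_lit 38568, nat_lit 37384, nat_lit 35684, nat_lit 35687, nat_lit 38836, nat_lit 38839, nat_lit 38197, nat_lit 38199, nat_lit 37240, nat_lit 37272, nat_lit 37320, nat_lit 37364,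 nat_lit 37367, nat_lit 37444, nat_lit 37447, nat_lit 37507, nat_lit 37509, nat_lit 37511, nat_lit 37542, nat_lit 37588, nat_lit 37591, nat_lit 37637, nat_lit 37639, nat_lit 37670, nat_lit 36103, nat_lit 37734, nat_lit 38870, nat_lit 37892, nat_lit 37895, nat_lit 38038, nat_lit 36019, nat_lit 36023, nat_lit 38086, nat_lit 38114, nat_lit 25207, nat_lit 36086, nat_lit 866, nat_lit 36274, nat_lit 37526, nat_lit 25170, nat_lit 48404, nat_lit 38260, nat_lit 38293, nat_lit 38486, nat_lit 46658, nat_lit 38385, nat_lit 38391, nat_lit 38392, nat_lit 38455, nat_lit 38536, nat_lit 38612, nat_lit 38615, nat_lit 38661, nat_lit 38663, nat_lit 38694, nat_lit 38754, nat_lit 38898, nat_lit 36627, nat_lit 38983, nat_lit 39015, nat_lit 39046, nat_lit 2486, nat_lit 2488, nat_lit 2262, nat_lit 2264, nat_lit 4290, nat_lit 4296, nat_lit 2468, nat_lit 4307, nat_lit 4312, nat_lit 4324, nat_lit 4275, nat_lit 4277, nat_lit 212, nat_lit 4226, nat_lit 4231, nat_lit 3734, nat_lit 3736, nat_lit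 3746, nat_lit 3752, nat_lit 3764, nat_lit 5889, nat_lit 5891, nat_lit 5896, nat_lit 3779, nat_lit 3799, nat_lit 5907, nat_lit 5912, nat_lit 5924, nat_lit 5928, nat_lit 5940, nat_lit 5943, nat_lit 4418, nat_lit 3828, nat_lit 5957, nat_lit 5960, nat_lit 5875, nat_lit 5809, nat_lit 5814, nat_lit 5815, nat_lit 21011, nat_lit 21016, nat_lit 7906, nat_lit 7912, nat_lit 7927, nat_lit 6213, nat_lit 6216, nat_lit 7940, nat_lit 7943, nat_lit 7875, nat_lit 7879, nat_lit 7958, nat_lit 7826, nat_lit 7829, nat_lit 7831, nat_lit 7607, nat_lit 7896, nat_lit 6246, nat_lit 6231, nat_lit 7858, nat_lit 7863, nat_lit 6168, nat_lit 7745, nat_lit 7749, nat_lit 7750, nat_lit 7751, nat_lit 7576, nat_lit 6288, nat_lit 6294, nat_lit 6295, nat_lit 7815, nat_lit 5606, nat_lit 4407, nat_lit 4183, nat_lit 5782, nat_lit 7712, nat_lit 7718, nat_lit 7767, nat_lit 22965, nat_lit 22966, nat_lit 22967, nat_lit 7684, nat_lit 7686, nat_lit 7687, nat_lit 8530, nat_lit 8535, nat_lit 7622, nat_lit 7624,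 nat_lit 7555, nat_lit 7558, nat_lit 7560, nat_lit 7703, nat_lit 7638, nat_lit 7640, nat_lit 10198, nat_lit 10200, nat_lit 7656, nat_lit 7463, nat_lit 7524, nat_lit 6176, nat_lit 6179, nat_lit 6184, nat_lit 7544, nat_lit 7431, nat_lit 7399, nat_lit 7412, nat_lit 7415, nat_lit 7446, nat_lit 16002, nat_lit 16008, nat_lit 16049, nat_lit 16051, nat_lit 16056, nat_lit 21040, nat_lit 21043, nat_lit 21048, nat_lit 21060, nat_lit 21064, nat_lit 16131, nat_lit 16148, nat_lit 16152, nat_lit 16167, nat_lit 22243, nat_lit 22248, nat_lit 21138, nat_lit 21140, nat_lit 21144, nat_lit 21156, nat_lit 21159, nat_lit 21189, nat_lit 21192, nat_lit 21204, nat_lit 21207, nat_lit 20726, nat_lit 20833, nat_lit 16228, nat_lit 16264, nat_lit 21269, nat_lit 21272, nat_lit 20931, nat_lit 17096, nat_lit 21303, nat_lit 20688, nat_lit 20694, nat_lit 20695, nat_lit 20823, nat_lit 15638, nat_lit 29432, nat_lit 29527, nat_lit 28948, nat_lit 28952, nat_lit 22629, nat_lit 22632, nat_lit 28964,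 nat_lit 28967, nat_lit 28915, nat_lit 28919, nat_lit 28982, nat_lit 22676, nat_lit 28995, nat_lit 28997, nat_lit 28999, nat_lit 29014, nat_lit 28802, nat_lit 28807, nat_lit 28934, nat_lit 28936, nat_lit 28769, nat_lit 28773, nat_lit 28774, nat_lit 28775, nat_lit 28500, nat_lit 28503, nat_lit 28872, nat_lit 28726, nat_lit 28888, nat_lit 22647, nat_lit 28898, nat_lit 28903, nat_lit 17111, nat_lit 21683, nat_lit 21670, nat_lit 28737, nat_lit 28408, nat_lit 28608, nat_lit 28613, nat_lit 28614, nat_lit 28615, nat_lit 28759, nat_lit 28456, nat_lit 22758, nat_lit 22759, nat_lit 28706, nat_lit 28711, nat_lit 20406, nat_lit 28822, nat_lit 28824, nat_lit 20662, nat_lit 30710, nat_lit 28626, nat_lit 28631, nat_lit 28792, nat_lit 32244, nat_lit 32246, nat_lit 32247, nat_lit 32194, nat_lit 32199, nat_lit 32262, nat_lit 32264, nat_lit 28435, nat_lit 28438, nat_lit 28440, nat_lit 28578, nat_lit 28583, nat_lit 28518, nat_lit 39843, nat_lit 39847, nat_lit 39894, nat_lit 39896,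 nat_lit 28530, nat_lit 28536, nat_lit 28392, nat_lit 28471, nat_lit 28472, nat_lit 28199, nat_lit 28598, nat_lit 28600, nat_lit 28552, nat_lit 28292, nat_lit 28568, nat_lit 40068, nat_lit 28311, nat_lit 22035, nat_lit 22040, nat_lit 28338, nat_lit 28344, nat_lit 28071, nat_lit 28132, nat_lit 28166, nat_lit 31655, nat_lit 28052, nat_lit 28055, nat_lit 28086, nat_lit 28101, nat_lit 28103, nat_lit 28118, nat_lit 41687, nat_lit 29923, nat_lit 29925, nat_lit 29927, nat_lit 41974, nat_lit 40167, nat_lit 40179, nat_lit 40183, nat_lit 40198, nat_lit 40098, nat_lit 40101, nat_lit 40103, nat_lit 29255, nat_lit 40210, nat_lit 40135, nat_lit 40231, nat_lit 40246, nat_lit 40248, nat_lit 40258, nat_lit 39937, nat_lit 39943, nat_lit 39527, nat_lit 39744, nat_lit 39749, nat_lit 39750, nat_lit 39751, nat_lit 39607, nat_lit 39990, nat_lit 39992, nat_lit 39463, nat_lit 39412, nat_lit 22726, nat_lit 39922, nat_lit 29906, nat_lit 29909, nat_lit 29911, nat_lit 40081, nat_lit 40085,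 nat_lit 40086, nat_lit 40087, nat_lit 39712, nat_lit 39718, nat_lit 39719, nat_lit 39239, nat_lit 43573, nat_lit 43574, nat_lit 43575, nat_lit 39574, nat_lit 39730, nat_lit 39735, nat_lit 39542, nat_lit 39544, nat_lit 39223, nat_lit 39958, nat_lit 39960, nat_lit 31926, nat_lit 32050, nat_lit 32055, nat_lit 32102, nat_lit 39794, nat_lit 39799, nat_lit 39907, nat_lit 39911, nat_lit 39862, nat_lit 39864, nat_lit 27714, nat_lit 27816, nat_lit 40036, nat_lit 43634, nat_lit 43639, nat_lit 39763, nat_lit 39767, nat_lit 39784, nat_lit 44659, nat_lit 44662, nat_lit 44664, nat_lit 44818, nat_lit 44823, nat_lit 42870, nat_lit 44769, nat_lit 44771, nat_lit 44775, nat_lit 44310, nat_lit 44312, nat_lit 31506, nat_lit 39506, nat_lit 39554, nat_lit 39559, nat_lit 39335, nat_lit 39667, nat_lit 39671, nat_lit 39686, nat_lit 39688, nat_lit 39170, nat_lit 41300, nat_lit 41303, nat_lit 41350, nat_lit 41352, nat_lit 39634, nat_lit 41396, nat_lit 39619, nat_lit 39700, nat_lit 41461,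 nat_lit 31474, nat_lit 31559, nat_lit 39478, nat_lit 42964, nat_lit 42967, nat_lit 39124, nat_lit 39127, nat_lit 39143, nat_lit 39158, nat_lit 41506, nat_lit 44408, nat_lit 45303, nat_lit 44470, nat_lit 44472, nat_lit 31618, nat_lit 22051, nat_lit 41622, nat_lit 41735, nat_lit 41782, nat_lit 41784, nat_lit 41845, nat_lit 41847, nat_lit 41894, nat_lit 41896, nat_lit 41762, nat_lit 41768, nat_lit 40435, nat_lit 40404, nat_lit 30225, nat_lit 30228, nat_lit 30230, nat_lit 30216, nat_lit 31235, nat_lit 31238, nat_lit 31240, nat_lit 31207, nat_lit 41639, nat_lit 42599, nat_lit 31272, nat_lit 41671, nat_lit 42324, nat_lit 42328, nat_lit 42051, nat_lit 42054, nat_lit 42056, nat_lit 42104, nat_lit 41927, nat_lit 43336, nat_lit 42356, nat_lit 44244, nat_lit 44247, nat_lit 42198, nat_lit 42200, nat_lit 42248, nat_lit 42292, nat_lit 42295, nat_lit 42372, nat_lit 42375, nat_lit 42403, nat_lit 42439, nat_lit 42470, nat_lit 44422, nat_lit 41700, nat_lit 41703, nat_lit 42550,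 nat_lit 42578, nat_lit 9811, nat_lit 9813, nat_lit 9815, nat_lit 9830, nat_lit 7986, nat_lit 7989, nat_lit 7991, nat_lit 8247, nat_lit 10488, nat_lit 6097, nat_lit 42643, nat_lit 42678, nat_lit 22083, nat_lit 22087, nat_lit 31734, nat_lit 31298, nat_lit 31301, nat_lit 31303, nat_lit 30471, nat_lit 42790, nat_lit 42792, nat_lit 23041, nat_lit 23047, nat_lit 21479, nat_lit 30504, nat_lit 30488, nat_lit 40291, nat_lit 43012, nat_lit 43075, nat_lit 43077, nat_lit 43079, nat_lit 43122, nat_lit 42705, nat_lit 32432, nat_lit 32437, nat_lit 32439, nat_lit 30087, nat_lit 21351, nat_lit 30168, nat_lit 42820, nat_lit 44628, nat_lit 44631, nat_lit 50099, nat_lit 50101, nat_lit 50103, nat_lit 43272, nat_lit 43304, nat_lit 43380, nat_lit 43383, nat_lit 43459, nat_lit 43461, nat_lit 43463, nat_lit 41606, nat_lit 43495, nat_lit 43527, nat_lit 43558, nat_lit 43586, nat_lit 43654, nat_lit 43832, nat_lit 42068, nat_lit 42071, nat_lit 43992, nat_lit 44964, nat_lit 44967, nat_lit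 31012, nat_lit 31015, nat_lit 42211, nat_lit 42213, nat_lit 42215, nat_lit 41813, nat_lit 41815, nat_lit 45222, nat_lit 43748, nat_lit 43751, nat_lit 43796, nat_lit 43799, nat_lit 43876, nat_lit 43879, nat_lit 43939, nat_lit 43941, nat_lit 43943, nat_lit 43974, nat_lit 44051, nat_lit 44053, nat_lit 44055, nat_lit 42086, nat_lit 44021, nat_lit 42631, nat_lit 44102, nat_lit 44162, nat_lit 42726, nat_lit 45250, nat_lit 44295, nat_lit 44326, nat_lit 44482, nat_lit 30034, nat_lit 30039, nat_lit 42614, nat_lit 44530, nat_lit 44563, nat_lit 30102, nat_lit 30566, nat_lit 31079, nat_lit 44834, nat_lit 40339, nat_lit 44728, nat_lit 44807, nat_lit 44919, nat_lit 45029, nat_lit 45031, nat_lit 45062, nat_lit 45112, nat_lit 45138, nat_lit 45171, nat_lit 43219, nat_lit 43204, nat_lit 3282, nat_lit 3288, nat_lit 3300, nat_lit 3431, nat_lit 4866, nat_lit 4872, nat_lit 4897, nat_lit 4899, nat_lit 4904, nat_lit 4979, nat_lit 6916, nat_lit 6920, nat_lit 4964, nat_lit 6930, nat_lit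 6936, nat_lit 6965, nat_lit 6968, nat_lit 6980, nat_lit 6822, nat_lit 5032, nat_lit 5272, nat_lit 6999, nat_lit 5287, nat_lit 6887, nat_lit 4678, nat_lit 24712, nat_lit 24791, nat_lit 9238, nat_lit 9240, nat_lit 9268, nat_lit 9271, nat_lit 9286, nat_lit 7284, nat_lit 9299, nat_lit 9301, nat_lit 9303, nat_lit 9318, nat_lit 9170, nat_lit 9175, nat_lit 9254, nat_lit 9256, nat_lit 9137, nat_lit 9141, nat_lit 9142, nat_lit 9143, nat_lit 8919, nat_lit 9224, nat_lit 6790, nat_lit 9105, nat_lit 7176, nat_lit 9040, nat_lit 9045, nat_lit 9046, nat_lit 9127, nat_lit 19670, nat_lit 19671, nat_lit 7330, nat_lit 7335, nat_lit 6566, nat_lit 9190, nat_lit 9192, nat_lit 25766, nat_lit 9058, nat_lit 9063, nat_lit 9160, nat_lit 27172, nat_lit 27174, nat_lit 27175, nat_lit 27122, nat_lit 27127, nat_lit 27190, nat_lit 27192, nat_lit 8851, nat_lit 8854, nat_lit 9010, nat_lit 9015, nat_lit 8934, nat_lit 8936, nat_lit 9731, nat_lit 9735, nat_lit 9766, nat_lit 9768, nat_lit 8946, nat_lit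 8952, nat_lit 8887, nat_lit 8695, nat_lit 9030, nat_lit 9032, nat_lit 8968, nat_lit 8788, nat_lit 8984, nat_lit 10964, nat_lit 8807, nat_lit 18771, nat_lit 7255, nat_lit 8662, nat_lit 8598, nat_lit 8615, nat_lit 8630, nat_lit 18355, nat_lit 18360, nat_lit 18375, nat_lit 18432, nat_lit 18435, nat_lit 18440, nat_lit 18452, nat_lit 18456, nat_lit 18595, nat_lit 24818, nat_lit 24820, nat_lit 24824, nat_lit 24869, nat_lit 24872, nat_lit 18578, nat_lit 18580, nat_lit 18632, nat_lit 18644, nat_lit 18647, nat_lit 18678, nat_lit 26456, nat_lit 24932, nat_lit 24936, nat_lit 24949, nat_lit 24952, nat_lit 24964, nat_lit 24967, nat_lit 24342, nat_lit 25012, nat_lit 25015, nat_lit 24502, nat_lit 18791, nat_lit 19544, nat_lit 25111, nat_lit 19703, nat_lit 25142, nat_lit 19559, nat_lit 24455, nat_lit 17798, nat_lit 24598, nat_lit 35316, nat_lit 35319, nat_lit 35430, nat_lit 34836, nat_lit 34839, nat_lit 26708, nat_lit 34851, nat_lit 34853, nat_lit 34855, nat_lit 34870, nat_lit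 34562, nat_lit 34567, nat_lit 34806, nat_lit 34882, nat_lit 26755, nat_lit 34295, nat_lit 34215, nat_lit 34902, nat_lit 34904, nat_lit 34914, nat_lit 34321, nat_lit 34327, nat_lit 34728, nat_lit 24552, nat_lit 34512, nat_lit 34517, nat_lit 34518, nat_lit 34519, nat_lit 34712, nat_lit 34068, nat_lit 34178, nat_lit 25622, nat_lit 34785, nat_lit 34791, nat_lit 34480, nat_lit 36965, nat_lit 36966, nat_lit 34498, nat_lit 34503, nat_lit 34696, nat_lit 26850, nat_lit 26855, nat_lit 26902, nat_lit 34675, nat_lit 34679, nat_lit 34630, nat_lit 34632, nat_lit 24018, nat_lit 24120, nat_lit 33956, nat_lit 24354, nat_lit 36418, nat_lit 36423, nat_lit 34531, nat_lit 34535, nat_lit 34552, nat_lit 34740, nat_lit 38275, nat_lit 38278, nat_lit 38626, nat_lit 38631, nat_lit 36342, nat_lit 38577, nat_lit 38579, nat_lit 38583, nat_lit 38646, nat_lit 38648, nat_lit 36882, nat_lit 36888, nat_lit 34194, nat_lit 34258, nat_lit 34263, nat_lit 33991, nat_lit 34435, nat_lit 34439, nat_lit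 34454, nat_lit 34456, nat_lit 34354, nat_lit 46180, nat_lit 46183, nat_lit 46230, nat_lit 46232, nat_lit 34386, nat_lit 34392, nat_lit 46292, nat_lit 34371, nat_lit 34376, nat_lit 34119, nat_lit 34312, nat_lit 34023, nat_lit 34408, nat_lit 34468, nat_lit 34420, nat_lit 34423, nat_lit 46403, nat_lit 46405, nat_lit 25874, nat_lit 25880, nat_lit 26279, nat_lit 34150, nat_lit 34152, nat_lit 33796, nat_lit 33830, nat_lit 38054, nat_lit 33767, nat_lit 33782, nat_lit 33842, nat_lit 33879, nat_lit 33894, nat_lit 33906, nat_lit 35890, nat_lit 35893, nat_lit 35895, nat_lit 26951, nat_lit 46866, nat_lit 46450, nat_lit 46455, nat_lit 46534, nat_lit 46536, nat_lit 46433, nat_lit 46438, nat_lit 46439, nat_lit 35239, nat_lit 46563, nat_lit 45896, nat_lit 46582, nat_lit 46584, nat_lit 46609, nat_lit 45984, nat_lit 45991, nat_lit 48453, nat_lit 48454, nat_lit 48455, nat_lit 45815, nat_lit 46034, nat_lit 46054, nat_lit 46056, nat_lit 26786, nat_lit 46323, nat_lit 35617, nat_lit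 35621, nat_lit 35622, nat_lit 35623, nat_lit 45968, nat_lit 45974, nat_lit 45975, nat_lit 48870, nat_lit 48871, nat_lit 45426, nat_lit 45431, nat_lit 48390, nat_lit 48946, nat_lit 48951, nat_lit 38246, nat_lit 45410, nat_lit 45415, nat_lit 46003, nat_lit 46007, nat_lit 46022, nat_lit 46024, nat_lit 45602, nat_lit 38210, nat_lit 38215, nat_lit 38369, nat_lit 38371, nat_lit 38375, nat_lit 38438, nat_lit 38440, nat_lit 37858, nat_lit 46135, nat_lit 46308, nat_lit 46311, nat_lit 46246, nat_lit 46248, nat_lit 33314, nat_lit 33320, nat_lit 46260, nat_lit 33299, nat_lit 48593, nat_lit 48595, nat_lit 48599, nat_lit 48984, nat_lit 46068, nat_lit 46071, nat_lit 46086, nat_lit 46088, nat_lit 47762, nat_lit 47794, nat_lit 47799, nat_lit 47063, nat_lit 49729, nat_lit 49735, nat_lit 49462, nat_lit 49464, nat_lit 37794, nat_lit 49655, nat_lit 49719, nat_lit 49510, nat_lit 49512, nat_lit 37874, nat_lit 48004, nat_lit 37217, nat_lit 37219, nat_lit 45750, nat_lit 45779, nat_lit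 45783, nat_lit 45911, nat_lit 45926, nat_lit 45928, nat_lit 45490, nat_lit 45940, nat_lit 47541, nat_lit 47543, nat_lit 47590, nat_lit 47592, nat_lit 47634, nat_lit 47640, nat_lit 47668, nat_lit 45859, nat_lit 47717, nat_lit 45844, nat_lit 36737, nat_lit 36742, nat_lit 37495, nat_lit 48487, nat_lit 45379, nat_lit 45383, nat_lit 45398, nat_lit 49544, nat_lit 38098, nat_lit 38104, nat_lit 26307, nat_lit 25892, nat_lit 36855, nat_lit 47928, nat_lit 35160, nat_lit 38807, nat_lit 47974, nat_lit 47906, nat_lit 47912, nat_lit 47892, nat_lit 46852, nat_lit 35541, nat_lit 25336, nat_lit 47735, nat_lit 37431, nat_lit 48740, nat_lit 48743, nat_lit 48211, nat_lit 48439, nat_lit 49478, nat_lit 47415, nat_lit 48151, nat_lit 47383, nat_lit 48198, nat_lit 48231, nat_lit 48274, nat_lit 35013, nat_lit 48306, nat_lit 48339, nat_lit 9079, nat_lit 9543, nat_lit 10678, nat_lit 10680, nat_lit 6807, nat_lit 7063, nat_lit 9384, nat_lit 9560, nat_lit 37554, nat_lit 26007, nat_lit 26358,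 nat_lit 27223, nat_lit 37704, nat_lit 27015, nat_lit 25512, nat_lit 46642, nat_lit 48530, nat_lit 48609, nat_lit 48614, nat_lit 49591, nat_lit 49606, nat_lit 48663, nat_lit 48695, nat_lit 48791, nat_lit 48822, nat_lit 48930, nat_lit 49175, nat_lit 38343, nat_lit 49140, nat_lit 49143, nat_lit 47509, nat_lit 47511, nat_lit 49878, nat_lit 37283, nat_lit 50082, nat_lit 49047, nat_lit 49078, nat_lit 48359, nat_lit 49126, nat_lit 49235, nat_lit 49237, nat_lit 49239, nat_lit 49270, nat_lit 49205, nat_lit 49207, nat_lit 49318, nat_lit 49346, nat_lit 49394, nat_lit 49427, nat_lit 49522, nat_lit 46739, nat_lit 46755, nat_lit 49687, nat_lit 49782, nat_lit 49830, nat_lit 49974, nat_lit 49976, nat_lit 50002, nat_lit 50035, nat_lit 5969, nat_lit 5971, nat_lit 5976, nat_lit 5991, nat_lit 6019, nat_lit 6036, nat_lit 6040, nat_lit 6148, nat_lit 8101, nat_lit 8104, nat_lit 6136, nat_lit 8022, nat_lit 8116, nat_lit 8132, nat_lit 8135, nat_lit 6199, nat_lit 6311, nat_lit 8166,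 nat_lit 8070, nat_lit 29463, nat_lit 29558, nat_lit 10071, nat_lit 10023, nat_lit 9975, nat_lit 10438, nat_lit 10103, nat_lit 9959, nat_lit 10454, nat_lit 10456, nat_lit 10129, nat_lit 10135, nat_lit 10392, nat_lit 8056, nat_lit 10272, nat_lit 10277, nat_lit 10278, nat_lit 8336, nat_lit 30837, nat_lit 30838, nat_lit 10258, nat_lit 10263, nat_lit 10360, nat_lit 22930, nat_lit 22935, nat_lit 8519, nat_lit 8550, nat_lit 8552, nat_lit 7800, nat_lit 9940, nat_lit 30423, nat_lit 10295, nat_lit 10312, nat_lit 10404, nat_lit 32583, nat_lit 30342, nat_lit 32535, nat_lit 32598, nat_lit 32600, nat_lit 30760, nat_lit 10230, nat_lit 9879, nat_lit 10614, nat_lit 10616, nat_lit 10184, nat_lit 11091, nat_lit 8454, nat_lit 9842, nat_lit 9894, nat_lit 9906, nat_lit 21432, nat_lit 21576, nat_lit 29588, nat_lit 29605, nat_lit 29671, nat_lit 21764, nat_lit 21876, nat_lit 21879, nat_lit 30676, nat_lit 29717, nat_lit 29720, nat_lit 29748, nat_lit 29780, nat_lit 29783, nat_lit 29847,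 nat_lit 22118, nat_lit 22807, nat_lit 29958, nat_lit 29206, nat_lit 40599, nat_lit 41942, nat_lit 41527, nat_lit 40850, nat_lit 40855, nat_lit 40807, nat_lit 41558, nat_lit 41560, nat_lit 41249, nat_lit 41255, nat_lit 40936, nat_lit 40840, nat_lit 40896, nat_lit 40903, nat_lit 43045, nat_lit 43046, nat_lit 41120, nat_lit 43026, nat_lit 43031, nat_lit 41143, nat_lit 41160, nat_lit 32161, nat_lit 32163, nat_lit 32167, nat_lit 32214, nat_lit 32216, nat_lit 32290, nat_lit 41415, nat_lit 41366, nat_lit 41368, nat_lit 28674, nat_lit 28680, nat_lit 40420, nat_lit 28659, nat_lit 28836, nat_lit 43111, nat_lit 42456, nat_lit 41191, nat_lit 41206, nat_lit 41208, nat_lit 41236, nat_lit 40610, nat_lit 40546, nat_lit 44993, nat_lit 44995, nat_lit 44999, nat_lit 43542, nat_lit 30626, nat_lit 44887, nat_lit 44983, nat_lit 45014, nat_lit 45016, nat_lit 43474, nat_lit 43480, nat_lit 43281, nat_lit 43283, nat_lit 43288, nat_lit 40742, nat_lit 40867, nat_lit 40871, nat_lit 41076,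 nat_lit 41079, nat_lit 41094, nat_lit 41096, nat_lit 40994, nat_lit 41000, nat_lit 40979, nat_lit 50679, nat_lit 50726, nat_lit 50728, nat_lit 50770, nat_lit 50776, nat_lit 50804, nat_lit 41027, nat_lit 41032, nat_lit 50869, nat_lit 41012, nat_lit 31397, nat_lit 30950, nat_lit 31670, nat_lit 42177, nat_lit 42183, nat_lit 32343, nat_lit 50903, nat_lit 50392, nat_lit 50480, nat_lit 50486, nat_lit 50487, nat_lit 50647, nat_lit 50374, nat_lit 52055, nat_lit 42935, nat_lit 51078, nat_lit 50226, nat_lit 44210, nat_lit 44215, nat_lit 52103, nat_lit 52422, nat_lit 52424, nat_lit 50167, nat_lit 50503, nat_lit 50518, nat_lit 50520, nat_lit 50274, nat_lit 42231, nat_lit 44711, nat_lit 44743, nat_lit 44790, nat_lit 44792, nat_lit 44274, nat_lit 44280, nat_lit 41828, nat_lit 43713, nat_lit 43715, nat_lit 50630, nat_lit 50887, nat_lit 50822, nat_lit 50824, nat_lit 50738, nat_lit 50744, nat_lit 50836, nat_lit 39827, nat_lit 39832, nat_lit 52135, nat_lit 52007, nat_lit 52150,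 nat_lit 52152, nat_lit 50567, nat_lit 50582, nat_lit 50584, nat_lit 50600, nat_lit 51015, nat_lit 50967, nat_lit 52806, nat_lit 52808, nat_lit 44226, nat_lit 45204, nat_lit 52822, nat_lit 52824, nat_lit 52838, nat_lit 52840, nat_lit 52498, nat_lit 52504, nat_lit 51572, nat_lit 43729, nat_lit 43731, nat_lit 30980, nat_lit 42263, nat_lit 50310, nat_lit 50406, nat_lit 50408, nat_lit 50418, nat_lit 50424, nat_lit 50436, nat_lit 44935, nat_lit 51510, nat_lit 51554, nat_lit 51560, nat_lit 51588, nat_lit 50355, nat_lit 51652, nat_lit 51655, nat_lit 51699, nat_lit 51701, nat_lit 50340, nat_lit 51794, nat_lit 51718, nat_lit 51959, nat_lit 52294, nat_lit 50946, nat_lit 51382, nat_lit 51894, nat_lit 51350, nat_lit 51938, nat_lit 51987, nat_lit 8264, nat_lit 52167, nat_lit 52214, nat_lit 52246, nat_lit 52342, nat_lit 52370, nat_lit 52614, nat_lit 43815, nat_lit 52582, nat_lit 51478, nat_lit 53010, nat_lit 53137, nat_lit 52486, nat_lit 52514, nat_lit 51974, nat_lit 52562,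 nat_lit 43895, nat_lit 51238, nat_lit 52674, nat_lit 52630, nat_lit 52739, nat_lit 51667, nat_lit 52886, nat_lit 52962, nat_lit 53091, nat_lit 7032, nat_lit 7224, nat_lit 9447, nat_lit 7207, nat_lit 9479, nat_lit 7270, nat_lit 35350, nat_lit 10838, nat_lit 10920, nat_lit 9600, nat_lit 36533, nat_lit 27095, nat_lit 9096, nat_lit 9204, nat_lit 37142, nat_lit 35655, nat_lit 35767, nat_lit 46950, nat_lit 47095, nat_lit 47112, nat_lit 47184, nat_lit 47191, nat_lit 47478, nat_lit 48519, nat_lit 47398, nat_lit 47400, nat_lit 38519, nat_lit 38551, nat_lit 38598, nat_lit 38600, nat_lit 38674, nat_lit 38680, nat_lit 47686, nat_lit 47602, nat_lit 47608, nat_lit 46836, nat_lit 34595, nat_lit 34600, nat_lit 48262, nat_lit 48264, nat_lit 47430, nat_lit 47448, nat_lit 47460, nat_lit 49895, nat_lit 48918, nat_lit 36930, nat_lit 49798, nat_lit 49800, nat_lit 49910, nat_lit 49912, nat_lit 49938, nat_lit 49944, nat_lit 48675, nat_lit 47127, nat_lit 47142, nat_lit 47303, nat_lit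 47318, nat_lit 47320, nat_lit 47330, nat_lit 47336, nat_lit 47203, nat_lit 47208, nat_lit 53558, nat_lit 53602, nat_lit 53608, nat_lit 53636, nat_lit 47251, nat_lit 47256, nat_lit 53716, nat_lit 53719, nat_lit 47236, nat_lit 46151, nat_lit 48102, nat_lit 53334, nat_lit 53336, nat_lit 48759, nat_lit 53159, nat_lit 53286, nat_lit 53526, nat_lit 48711, nat_lit 54534, nat_lit 53222, nat_lit 53398, nat_lit 53410, nat_lit 53416, nat_lit 48134, nat_lit 49670, nat_lit 49702, nat_lit 49762, nat_lit 49768, nat_lit 49025, nat_lit 49027, nat_lit 49032, nat_lit 53766, nat_lit 53650, nat_lit 53656, nat_lit 46195, nat_lit 46200, nat_lit 53668, nat_lit 53671, nat_lit 46168, nat_lit 54550, nat_lit 54552, nat_lit 54518, nat_lit 54456, nat_lit 53446, nat_lit 53458, nat_lit 53464, nat_lit 53511, nat_lit 53830, nat_lit 53798, nat_lit 53800, nat_lit 54658, nat_lit 54664, nat_lit 50068, nat_lit 54786, nat_lit 54792, nat_lit 54802, nat_lit 54808, nat_lit 49057, nat_lit 49059, nat_lit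 54292, nat_lit 54295, nat_lit 48166, nat_lit 53352, nat_lit 53364, nat_lit 49846, nat_lit 54274, nat_lit 54164, nat_lit 53300, nat_lit 54387, nat_lit 54391, nat_lit 53926, nat_lit 54674, nat_lit 54466, nat_lit 54499, nat_lit 54610, nat_lit 54882, nat_lit 49158, nat_lit 54850, nat_lit 55041, nat_lit 54339, nat_lit 54962, nat_lit 42278, nat_lit 51110, nat_lit 51112, nat_lit 51174, nat_lit 51158, nat_lit 51368, nat_lit 44902, nat_lit 44950, nat_lit 45042, nat_lit 45048, nat_lit 41315, nat_lit 41320, nat_lit 51060, nat_lit 51063, nat_lit 51928, nat_lit 51444, nat_lit 51447, nat_lit 52390, nat_lit 52354, nat_lit 52936, nat_lit 53026, nat_lit 53032, nat_lit 52227, nat_lit 52951, nat_lit 51126, nat_lit 51286, nat_lit 51298, nat_lit 51304, nat_lit 51192, nat_lit 51335, nat_lit 55298, nat_lit 55345, nat_lit 55352, nat_lit 55380, nat_lit 55413, nat_lit 51220, nat_lit 55479, nat_lit 50662, nat_lit 55128, nat_lit 52310, nat_lit 55062, nat_lit 52262, nat_lit 52898, nat_lit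 52465, nat_lit 52467, nat_lit 52472, nat_lit 52184, nat_lit 55426, nat_lit 55169, nat_lit 55171, nat_lit 50696, nat_lit 55608, nat_lit 55794, nat_lit 55703, nat_lit 55218, nat_lit 55522, nat_lit 55528, nat_lit 52996, nat_lit 55745, nat_lit 55752, nat_lit 55639, nat_lit 55784, nat_lit 55841, nat_lit 53896, nat_lit 47623, nat_lit 49335, nat_lit 54215, nat_lit 54839, nat_lit 54904, nat_lit 54999, nat_lit 54065, nat_lit 54072, nat_lit 56051, nat_lit 56101, nat_lit 56152, nat_lit 53538, nat_lit 53687, nat_lit 54584])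
def ch123 : ℕ × List (List ℕ) × List ℕ := ((nat_lit 2), [[nat_lit 1], [nat_lit 1, nat_lit 0, nat_lit 1], [nat_lit 2, nat_lit 1, nat_lit 2], [nat_lit 3], [nat_lit 5, nat_lit 1, nat_lit 5], [nat_lit 6], [nat_lit 4, nat_lit 3, nat_lit 4], [nat_lit 7, nat_lit 3, nat_lit 7]], [nat_lit 16, nat_lit 17, nat_lit 18, nat_lit 20, nat_lit 34, nat_lit 36, nat_lit 275, nat_lit 276, nat_lit 278, nat_lit 279, nat_lit 293, nat_lit 48, nat_lit 51, nat_lit 52, nat_lit 54, nat_lit 55, nat_lit 96, nat_lit 101, nat_lit 436, nat_lit 672, nat_lit 677, nat_lit 678, nat_lit 679, nat_lit 631, nat_lit 661, nat_lit 471, nat_lit 163, nat_lit 166, nat_lit 167, nat_lit 196, nat_lit 325, nat_lit 326, nat_lit 327, nat_lit 359, nat_lit 373, nat_lit 181, nat_lit 247, nat_lit 928, nat_lit 933, nat_lit 453, nat_lit 454, nat_lit 455, nat_lit 998, nat_lit 999, nat_lit 1255, nat_lit 1365, nat_lit 1298, nat_lit 1299, nat_lit 1301, nat_lit 980, nat_lit 1026, nat_lit 1027, nat_lit 306, nat_lit 482, nat_lit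 487, nat_lit 514, nat_lit 517, nat_lit 501, nat_lit 534, nat_lit 535, nat_lit 727, nat_lit 773, nat_lit 834, nat_lit 835, nat_lit 837, nat_lit 580, nat_lit 340, nat_lit 343, nat_lit 610, nat_lit 611, nat_lit 642, nat_lit 645, nat_lit 1351, nat_lit 692, nat_lit 694, nat_lit 695, nat_lit 898, nat_lit 903, nat_lit 962, nat_lit 965, nat_lit 1815, nat_lit 2866, nat_lit 2867, nat_lit 2869, nat_lit 2594, nat_lit 2595, nat_lit 2597, nat_lit 2004, nat_lit 2704, nat_lit 2709, nat_lit 917, nat_lit 1908, nat_lit 2064, nat_lit 2144, nat_lit 2147, nat_lit 2150, nat_lit 706, nat_lit 710, nat_lit 70, nat_lit 71, nat_lit 1075, nat_lit 1077, nat_lit 229, nat_lit 788, nat_lit 759, nat_lit 1047, nat_lit 1602, nat_lit 1603, nat_lit 1605, nat_lit 1522, nat_lit 1523, nat_lit 1525, nat_lit 1124, nat_lit 1557, nat_lit 565, nat_lit 1204, nat_lit 1648, nat_lit 819, nat_lit 1696, nat_lit 1699, nat_lit 1702, nat_lit 418, nat_lit 422, nat_lit 1333, nat_lit 1334, nat_lit 1335, nat_lit 948,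 nat_lit 951, nat_lit 1430, nat_lit 1431, nat_lit 1266, nat_lit 1271, nat_lit 2018, nat_lit 2019, nat_lit 2021, nat_lit 1859, nat_lit 1861, nat_lit 1957, nat_lit 1396, nat_lit 3538, nat_lit 3539, nat_lit 3541, nat_lit 3968, nat_lit 3973, nat_lit 3974, nat_lit 1989, nat_lit 1990, nat_lit 3940, nat_lit 2661, nat_lit 1829, nat_lit 3572, nat_lit 2976, nat_lit 1893, nat_lit 3732, nat_lit 3735, nat_lit 1316, nat_lit 1319, nat_lit 3776, nat_lit 1409, nat_lit 1410, nat_lit 1473, nat_lit 1475, nat_lit 1476, nat_lit 1478, nat_lit 3046, nat_lit 5187, nat_lit 1440, nat_lit 1446, nat_lit 1490, nat_lit 87, nat_lit 133, nat_lit 741, nat_lit 1572, nat_lit 1232, nat_lit 2178, nat_lit 2179, nat_lit 2181, nat_lit 1638, nat_lit 1109, nat_lit 1110, nat_lit 3200, nat_lit 3205, nat_lit 1061, nat_lit 2228, nat_lit 2260, nat_lit 2263, nat_lit 852, nat_lit 855, nat_lit 3312, nat_lit 550, nat_lit 1171, nat_lit 1174, nat_lit 2374, nat_lit 4259, nat_lit 806, nat_lit 882, nat_lit 1940, nat_lit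 1942, nat_lit 1943, nat_lit 2519, nat_lit 2821, nat_lit 2562, nat_lit 2567, nat_lit 3890, nat_lit 3891, nat_lit 3893, nat_lit 2535, nat_lit 2626, nat_lit 2627, nat_lit 2629, nat_lit 5104, nat_lit 5107, nat_lit 5109, nat_lit 5110, nat_lit 1382, nat_lit 1285, nat_lit 2676, nat_lit 3952, nat_lit 4672, nat_lit 4677, nat_lit 4678, nat_lit 2581, nat_lit 2582, nat_lit 4596, nat_lit 2916, nat_lit 2918, nat_lit 2996, nat_lit 2998, nat_lit 5907, nat_lit 2884, nat_lit 2886, nat_lit 4578, nat_lit 3668, nat_lit 3671, nat_lit 2612, nat_lit 2615, nat_lit 4800, nat_lit 2050, nat_lit 2724, nat_lit 2727, nat_lit 4896, nat_lit 4903, nat_lit 6003, nat_lit 2768, nat_lit 2775, nat_lit 2737, nat_lit 2738, nat_lit 2386, nat_lit 3011, nat_lit 3014, nat_lit 3015, nat_lit 2419, nat_lit 2420, nat_lit 2422, nat_lit 2118, nat_lit 3110, nat_lit 4098, nat_lit 4099, nat_lit 4087, nat_lit 1014, nat_lit 3088, nat_lit 3095, nat_lit 389, nat_lit 1092, nat_lit 1095, nat_lit 2464, nat_lit 4192, nat_lit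 4197, nat_lit 4198, nat_lit 1509, nat_lit 1510, nat_lit 3235, nat_lit 1622, nat_lit 3154, nat_lit 2213, nat_lit 2484, nat_lit 2487, nat_lit 1540, nat_lit 1543, nat_lit 4336, nat_lit 4343, nat_lit 4371, nat_lit 2304, nat_lit 2311, nat_lit 2274, nat_lit 1670, nat_lit 3378, nat_lit 3379, nat_lit 3191, nat_lit 2432, nat_lit 2439, nat_lit 3840, nat_lit 3846, nat_lit 3463, nat_lit 2549, nat_lit 4464, nat_lit 4471, nat_lit 4530, nat_lit 4531, nat_lit 4533, nat_lit 2038, nat_lit 2850, nat_lit 2854, nat_lit 5442, nat_lit 5443, nat_lit 5600, nat_lit 5603, nat_lit 5605, nat_lit 5606, nat_lit 1842, nat_lit 1845, nat_lit 1846, nat_lit 3636, nat_lit 3910, nat_lit 4054, nat_lit 6259, nat_lit 3618, nat_lit 1876, nat_lit 1879, nat_lit 5712, nat_lit 3601, nat_lit 3604, nat_lit 3605, nat_lit 3606, nat_lit 5812, nat_lit 5814, nat_lit 5815, nat_lit 3556, nat_lit 3558, nat_lit 3559, nat_lit 5142, nat_lit 5154, nat_lit 5155, nat_lit 1782, nat_lit 4947, nat_lit 4839, nat_lit 4022,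 nat_lit 5650, nat_lit 5776, nat_lit 5783, nat_lit 5888, nat_lit 3712, nat_lit 3682, nat_lit 4038, nat_lit 5968, nat_lit 5975, nat_lit 4930, nat_lit 4931, nat_lit 3745, nat_lit 3746, nat_lit 3751, nat_lit 6787, nat_lit 4886, nat_lit 1921, nat_lit 1922, nat_lit 1927, nat_lit 4386, nat_lit 6035, nat_lit 6038, nat_lit 6039, nat_lit 5075, nat_lit 5078, nat_lit 4070, nat_lit 6179, nat_lit 6183, nat_lit 2966, nat_lit 5094, nat_lit 4738, nat_lit 4739, nat_lit 3122, nat_lit 5954, nat_lit 5955, nat_lit 6211, nat_lit 6215, nat_lit 3058, nat_lit 3063, nat_lit 2161, nat_lit 2164, nat_lit 2167, nat_lit 5285, nat_lit 1730, nat_lit 3140, nat_lit 3142, nat_lit 2198, nat_lit 2247, nat_lit 4242, nat_lit 2790, nat_lit 3473, nat_lit 3479, nat_lit 7426, nat_lit 7427, nat_lit 7429, nat_lit 6544, nat_lit 6547, nat_lit 6549, nat_lit 6550, nat_lit 3522, nat_lit 3525, nat_lit 3526, nat_lit 5540, nat_lit 4723, nat_lit 5554, nat_lit 7504, nat_lit 7510, nat_lit 4454, nat_lit 4561, nat_lit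 4563, nat_lit 4564, nat_lit 4565, nat_lit 4566, nat_lit 6502, nat_lit 2644, nat_lit 2647, nat_lit 6482, nat_lit 6483, nat_lit 5239, nat_lit 6576, nat_lit 6583, nat_lit 4663, nat_lit 4754, nat_lit 5300, nat_lit 5302, nat_lit 5797, nat_lit 5798, nat_lit 4708, nat_lit 4710, nat_lit 5826, nat_lit 6672, nat_lit 6722, nat_lit 6723, nat_lit 8019, nat_lit 8023, nat_lit 3986, nat_lit 3991, nat_lit 6848, nat_lit 4692, nat_lit 4786, nat_lit 6918, nat_lit 6919, nat_lit 4865, nat_lit 4866, nat_lit 4871, nat_lit 7970, nat_lit 7971, nat_lit 7973, nat_lit 7094, nat_lit 3766, nat_lit 4994, nat_lit 4963, nat_lit 4966, nat_lit 4967, nat_lit 6066, nat_lit 3346, nat_lit 3831, nat_lit 3794, nat_lit 6976, nat_lit 6979, nat_lit 6982, nat_lit 6983, nat_lit 7143, nat_lit 8311, nat_lit 9603, nat_lit 9605, nat_lit 3862, nat_lit 5491, nat_lit 5175, nat_lit 6322, nat_lit 4418, nat_lit 7840, nat_lit 7847, nat_lit 5255, nat_lit 8096, nat_lit 8103, nat_lit 4855, nat_lit 6743, nat_lit 9299,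 nat_lit 9301, nat_lit 3591, nat_lit 6082, nat_lit 4167, nat_lit 4178, nat_lit 4434, nat_lit 5463, nat_lit 6370, nat_lit 6371, nat_lit 6373, nat_lit 8688, nat_lit 8693, nat_lit 8694, nat_lit 6357, nat_lit 6358, nat_lit 5569, nat_lit 5571, nat_lit 5572, nat_lit 5573, nat_lit 5574, nat_lit 7636, nat_lit 7639, nat_lit 5478, nat_lit 7664, nat_lit 6401, nat_lit 6404, nat_lit 6406, nat_lit 8179, nat_lit 6563, nat_lit 6564, nat_lit 6566, nat_lit 5524, nat_lit 5526, nat_lit 7701, nat_lit 7702, nat_lit 5636, nat_lit 7586, nat_lit 5703, nat_lit 8503, nat_lit 6882, nat_lit 6885, nat_lit 5620, nat_lit 5623, nat_lit 9141, nat_lit 7877, nat_lit 6246, nat_lit 7984, nat_lit 7989, nat_lit 7990, nat_lit 4914, nat_lit 6868, nat_lit 6870, nat_lit 6871, nat_lit 8034, nat_lit 7606, nat_lit 6931, nat_lit 6935, nat_lit 9239, nat_lit 5751, nat_lit 9111, nat_lit 8963, nat_lit 8965, nat_lit 5202, nat_lit 6837, nat_lit 5926, nat_lit 5927, nat_lit 7319, nat_lit 8355, nat_lit 8357, nat_lit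 7027, nat_lit 7058, nat_lit 7061, nat_lit 9536, nat_lit 9541, nat_lit 9542, nat_lit 7045, nat_lit 9587, nat_lit 8115, nat_lit 6135, nat_lit 8386, nat_lit 8387, nat_lit 8389, nat_lit 7715, nat_lit 7718, nat_lit 5591, nat_lit 6197, nat_lit 7158, nat_lit 6118, nat_lit 8839, nat_lit 8133, nat_lit 7730, nat_lit 7731, nat_lit 7733, nat_lit 8325, nat_lit 8326, nat_lit 10596, nat_lit 7394, nat_lit 7397, nat_lit 8560, nat_lit 6903, nat_lit 8707, nat_lit 8709, nat_lit 7925, nat_lit 7941, nat_lit 7942, nat_lit 10452, nat_lit 6709, nat_lit 7126, nat_lit 6306, nat_lit 6309, nat_lit 6294, nat_lit 6343, nat_lit 7253, nat_lit 9920, nat_lit 9925, nat_lit 9926, nat_lit 5426, nat_lit 5429, nat_lit 7492, nat_lit 7461, nat_lit 10006, nat_lit 10007, nat_lit 7446, nat_lit 7684, nat_lit 6452, nat_lit 6597, nat_lit 8819, nat_lit 7620, nat_lit 9077, nat_lit 10082, nat_lit 8885, nat_lit 8886, nat_lit 9028, nat_lit 9030, nat_lit 9031, nat_lit 6757, nat_lit 7765, nat_lit 10144, nat_lit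 10149, nat_lit 8997, nat_lit 7829, nat_lit 6802, nat_lit 6805, nat_lit 9382, nat_lit 9383, nat_lit 5986, nat_lit 8758, nat_lit 9330, nat_lit 9335, nat_lit 8674, nat_lit 10101, nat_lit 6997, nat_lit 10133, nat_lit 10180, nat_lit 6279, nat_lit 9477, nat_lit 9733, nat_lit 9445, nat_lit 9652, nat_lit 8199, nat_lit 10291, nat_lit 10293, nat_lit 8241, nat_lit 8245, nat_lit 10566, nat_lit 10567, nat_lit 8231, nat_lit 8279, nat_lit 10277, nat_lit 7205, nat_lit 9700, nat_lit 7477, nat_lit 7268, nat_lit 9013, nat_lit 9492, nat_lit 9365, nat_lit 8949, nat_lit 8950, nat_lit 9092, nat_lit 9620, nat_lit 9200, nat_lit 9797, nat_lit 9973, nat_lit 10021, nat_lit 10036, nat_lit 9318, nat_lit 8517, nat_lit 8613, nat_lit 8452, nat_lit 10806, nat_lit 10807, nat_lit 7413, nat_lit 9861, nat_lit 7653, nat_lit 8373, nat_lit 10327, nat_lit 10119, nat_lit 10359, nat_lit 10307, nat_lit 9813, nat_lit 8007, nat_lit 7074, nat_lit 10706, nat_lit 9426, nat_lit 10787, nat_lit 10790, nat_lit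 9877, nat_lit 9556, nat_lit 9831, nat_lit 9907, nat_lit 9781, nat_lit 10484, nat_lit 10164, nat_lit 10167, nat_lit 9751, nat_lit 10496])
def ch223 : ℕ × List (List ℕ) × List ℕ := ((nat_lit 3), [[nat_lit 3], [nat_lit 3, nat_lit 2, nat_lit 3], [nat_lit 4, nat_lit 3, nat_lit 4], [nat_lit 7, nat_lit 3, nat_lit 7], [nat_lit 6], [nat_lit 6, nat_lit 5, nat_lit 6], [nat_lit 1, nat_lit 5, nat_lit 3, nat_lit 2, nat_lit 1, nat_lit 0, nat_lit 1, nat_lit 2, nat_lit 3, nat_lit 5, nat_lit 1]], [nat_lit 48, nat_lit 49, nat_lit 50, nat_lit 51, nat_lit 54, nat_lit 66, nat_lit 67, nat_lit 70, nat_lit 355, nat_lit 358, nat_lit 372, nat_lit 373, nat_lit 374, nat_lit 1332, nat_lit 1333, nat_lit 80, nat_lit 83, nat_lit 86, nat_lit 128, nat_lit 132, nat_lit 133, nat_lit 134, nat_lit 672, nat_lit 676, nat_lit 677, nat_lit 832, nat_lit 836, nat_lit 837, nat_lit 838, nat_lit 2512, nat_lit 2516, nat_lit 2517, nat_lit 582, nat_lit 870, nat_lit 2816, nat_lit 2820, nat_lit 2821, nat_lit 1939,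 nat_lit 2787, nat_lit 388, nat_lit 389, nat_lit 390, nat_lit 1252, nat_lit 1253, nat_lit 228, nat_lit 229, nat_lit 262, nat_lit 422, nat_lit 1364, nat_lit 1365, nat_lit 932, nat_lit 933, nat_lit 995, nat_lit 1427, nat_lit 564, nat_lit 565, nat_lit 1206, nat_lit 1734, nat_lit 2548, nat_lit 2549, nat_lit 1796, nat_lit 1797, nat_lit 3459, nat_lit 4435, nat_lit 3860, nat_lit 2805, nat_lit 1956, nat_lit 1957, nat_lit 2083, nat_lit 1443, nat_lit 598, nat_lit 886, nat_lit 2592, nat_lit 2596, nat_lit 2597, nat_lit 1811, nat_lit 2563, nat_lit 403, nat_lit 611, nat_lit 851, nat_lit 854, nat_lit 1219, nat_lit 1222, nat_lit 6464, nat_lit 6468, nat_lit 5536, nat_lit 5541, nat_lit 3507, nat_lit 3027, nat_lit 2531, nat_lit 2534, nat_lit 3475, nat_lit 3478, nat_lit 4496, nat_lit 5488, nat_lit 5648, nat_lit 6480, nat_lit 1828, nat_lit 1829, nat_lit 3536, nat_lit 4528, nat_lit 117, nat_lit 1749, nat_lit 1750, nat_lit 7520, nat_lit 7525, nat_lit 2486, nat_lit 8704, nat_lit 5585,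 nat_lit 5587, nat_lit 5588, nat_lit 4545, nat_lit 4547, nat_lit 4549, nat_lit 5552, nat_lit 4576, nat_lit 5440, nat_lit 5445, nat_lit 5446, nat_lit 8565, nat_lit 6368, nat_lit 6374, nat_lit 3489, nat_lit 3494, nat_lit 4481, nat_lit 4486, nat_lit 5121, nat_lit 5123, nat_lit 5505, nat_lit 5507, nat_lit 2611, nat_lit 2614, nat_lit 3587, nat_lit 3590, nat_lit 2577, nat_lit 2582, nat_lit 3521, nat_lit 3526, nat_lit 8912, nat_lit 8916, nat_lit 8821, nat_lit 7840, nat_lit 6644, nat_lit 7476, nat_lit 4611, nat_lit 7589, nat_lit 3555, nat_lit 4513, nat_lit 4518, nat_lit 3921, nat_lit 3926, nat_lit 4453, nat_lit 9360, nat_lit 9364, nat_lit 8272, nat_lit 7460, nat_lit 6677, nat_lit 5685, nat_lit 5686, nat_lit 6005, nat_lit 6710, nat_lit 7109, nat_lit 10066, nat_lit 10068, nat_lit 10883, nat_lit 9234, nat_lit 8739, nat_lit 8742, nat_lit 5638, nat_lit 5988, nat_lit 6630, nat_lit 6390, nat_lit 8758, nat_lit 3732, nat_lit 9379, nat_lit 10902, nat_lit 6774, nat_lit 10784, nat_lit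 10704])
def ch323 : ℕ × List (List ℕ) × List ℕ := ((nat_lit 5), [[nat_lit 6], [nat_lit 6, nat_lit 5, nat_lit 6], [nat_lit 7, nat_lit 6, nat_lit 7], [nat_lit 6, nat_lit 1, nat_lit 5, nat_lit 2, nat_lit 1, nat_lit 0, nat_lit 1, nat_lit 2, nat_lit 5, nat_lit 1, nat_lit 6], [nat_lit 6, nat_lit 3, nat_lit 7, nat_lit 4, nat_lit 3, nat_lit 2, nat_lit 3, nat_lit 4, nat_lit 7, nat_lit 3, nat_lit 6], [nat_lit 6, nat_lit 3, nat_lit 2, nat_lit 1, nat_lit 5, nat_lit 4, nat_lit 3, nat_lit 2, nat_lit 1, nat_lit 0, nat_lit 1, nat_lit 2, nat_lit 3, nat_lit 4, nat_lit 5, nat_lit 1, nat_lit 2, nat_lit 3, nat_lit 6]], [nat_lit 96, nat_lit 97, nat_lit 98, nat_lit 99, nat_lit 100, nat_lit 101, nat_lit 114, nat_lit 115, nat_lit 116, nat_lit 117, nat_lit 419, nat_lit 420, nat_lit 421, nat_lit 1428, nat_lit 1429, nat_lit 1733, nat_lit 128, nat_lit 131, nat_lit 132, nat_lit 133, nat_lit 672, nat_lit 676, nat_lit 677, nat_lit 832, nat_lit 837, nat_lit 2512, nat_lit 2816, nat_lit 2820,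 nat_lit 2821, nat_lit 3200, nat_lit 3205, nat_lit 6384, nat_lit 10880, nat_lit 10885, nat_lit 10640, nat_lit 2592, nat_lit 1444, nat_lit 1445, nat_lit 1749, nat_lit 8821, nat_lit 9237, nat_lit 10896, nat_lit 10901, nat_lit 10656, nat_lit 6768, nat_lit 7072, nat_lit 2704])
def ch423 : ℕ × List (List ℕ) × List ℕ := ((nat_lit 4), [[nat_lit 1, nat_lit 5, nat_lit 2, nat_lit 1, nat_lit 2, nat_lit 5, nat_lit 6, nat_lit 7, nat_lit 6, nat_lit 5, nat_lit 6, nat_lit 7, nat_lit 3, nat_lit 7, nat_lit 1, nat_lit 5, nat_lit 3, nat_lit 2, nat_lit 1, nat_lit 0, nat_lit 1, nat_lit 2, nat_lit 3, nat_lit 5, nat_lit 1, nat_lit 7, nat_lit 6, nat_lit 7, nat_lit 6, nat_lit 5, nat_lit 6, nat_lit 7, nat_lit 1, nat_lit 2, nat_lit 1, nat_lit 0, nat_lit 1, nat_lit 2, nat_lit 3, nat_lit 7, nat_lit 1, nat_lit 5, nat_lit 3, nat_lit 2, nat_lit 1, nat_lit 0, nat_lit 1, nat_lit 2, nat_lit 3, nat_lit 5, nat_lit 1, nat_lit 7]], [nat_lit 80, nat_lit 10784])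
def wl23 : List (ℕ × List ℕ) := [((nat_lit 0), []), ((nat_lit 8), []), ((nat_lit 64), []), ((nat_lit 128), []), ((nat_lit 1024), []), ((nat_lit 72), []), ((nat_lit 136), []), ((nat_lit 192), []), ((nat_lit 1032), []), ((nat_lit 1088), []), ((nat_lit 1152), []), ((nat_lit 200), []), ((nat_lit 1096), []), ((nat_lit 1160), []), ((nat_lit 1216), []), ((nat_lit 1224), []), ((nat_lit 0), [nat_lit 0]), ((nat_lit 8), [nat_lit 0]), ((nat_lit 64), [nat_lit 0]), ((nat_lit 128), [nat_lit 0]), ((nat_lit 1024), [nat_lit 0]), ((nat_lit 72), [nat_lit 0]), ((nat_lit 136), [nat_lit 0]), ((nat_lit 192), [nat_lit 0]), ((nat_lit 1032), [nat_lit 0]), ((nat_lit 1088), [nat_lit 0]), ((nat_lit 1152), [nat_lit 0]), ((nat_lit 200), [nat_lit 0]), ((nat_lit 1096), [nat_lit 0]), ((nat_lit 1160), [nat_lit 0]), ((nat_lit 1216), [nat_lit 0]), ((nat_lit 1224), [nat_lit 0]), ((nat_lit 0), [nat_lit 1]), ((nat_lit 8), [nat_lit 1]), ((nat_lit 64), [nat_lit 1]), ((nat_lit 128), [nat_lit 1]), ((nat_lit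 1024), [nat_lit 1]), ((nat_lit 72), [nat_lit 1]), ((nat_lit 136), [nat_lit 1]), ((nat_lit 192), [nat_lit 1]), ((nat_lit 1032), [nat_lit 1]), ((nat_lit 1088), [nat_lit 1]), ((nat_lit 1152), [nat_lit 1]), ((nat_lit 200), [nat_lit 1]), ((nat_lit 1096), [nat_lit 1]), ((nat_lit 1160), [nat_lit 1]), ((nat_lit 1216), [nat_lit 1]), ((nat_lit 1224), [nat_lit 1]), ((nat_lit 0), [nat_lit 2]), ((nat_lit 8), [nat_lit 2]), ((nat_lit 64), [nat_lit 2]), ((nat_lit 128), [nat_lit 2]), ((nat_lit 1024), [nat_lit 2]), ((nat_lit 72), [nat_lit 2]), ((nat_lit 136), [nat_lit 2]), ((nat_lit 192), [nat_lit 2]), ((nat_lit 1032), [nat_lit 2]), ((nat_lit 1088), [nat_lit 2]), ((nat_lit 1152), [nat_lit 2]), ((nat_lit 200), [nat_lit 2]), ((nat_lit 1096), [nat_lit 2]), ((nat_lit 1160), [nat_lit 2]), ((nat_lit 1216), [nat_lit 2]), ((nat_lit 1224), [nat_lit 2]), ((nat_lit 0), [nat_lit 5]), ((nat_lit 8), [nat_lit 5]), ((nat_lit 64), [nat_lit 5]), ((nat_lit 128), [nat_lit 5]), ((nat_lit 1024), [nat_lit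 5]), ((nat_lit 72), [nat_lit 5]), ((nat_lit 136), [nat_lit 5]), ((nat_lit 192), [nat_lit 5]), ((nat_lit 1032), [nat_lit 5]), ((nat_lit 1088), [nat_lit 5]), ((nat_lit 1152), [nat_lit 5]), ((nat_lit 200), [nat_lit 5]), ((nat_lit 1096), [nat_lit 5]), ((nat_lit 1160), [nat_lit 5]), ((nat_lit 1216), [nat_lit 5]), ((nat_lit 1224), [nat_lit 5]), ((nat_lit 0), [nat_lit 12]), ((nat_lit 8), [nat_lit 12]), ((nat_lit 64), [nat_lit 12]), ((nat_lit 128), [nat_lit 12]), ((nat_lit 1024), [nat_lit 12]), ((nat_lit 72), [nat_lit 12]), ((nat_lit 136), [nat_lit 12]), ((nat_lit 192), [nat_lit 12]), ((nat_lit 1032), [nat_lit 12]), ((nat_lit 1088), [nat_lit 12]), ((nat_lit 1152), [nat_lit 12]), ((nat_lit 200), [nat_lit 12]), ((nat_lit 1096), [nat_lit 12]), ((nat_lit 1160), [nat_lit 12]), ((nat_lit 1216), [nat_lit 12]), ((nat_lit 1224), [nat_lit 12]), ((nat_lit 0), [nat_lit 14]), ((nat_lit 8), [nat_lit 14]), ((nat_lit 64), [nat_lit 14]), ((nat_lit 128), [nat_lit 14]), ((nat_lit 1024),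 [nat_lit 14]), ((nat_lit 72), [nat_lit 14]), ((nat_lit 136), [nat_lit 14]), ((nat_lit 192), [nat_lit 14]), ((nat_lit 1032), [nat_lit 14]), ((nat_lit 1088), [nat_lit 14]), ((nat_lit 1152), [nat_lit 14]), ((nat_lit 200), [nat_lit 14]), ((nat_lit 1096), [nat_lit 14]), ((nat_lit 1160), [nat_lit 14]), ((nat_lit 1216), [nat_lit 14]), ((nat_lit 1224), [nat_lit 14]), ((nat_lit 0), [nat_lit 17]), ((nat_lit 8), [nat_lit 17]), ((nat_lit 64), [nat_lit 17]), ((nat_lit 128), [nat_lit 17]), ((nat_lit 1024), [nat_lit 17]), ((nat_lit 72), [nat_lit 17]), ((nat_lit 136), [nat_lit 17]), ((nat_lit 192), [nat_lit 17]), ((nat_lit 1032), [nat_lit 17]), ((nat_lit 1088), [nat_lit 17]), ((nat_lit 1152), [nat_lit 17]), ((nat_lit 200), [nat_lit 17]), ((nat_lit 1096), [nat_lit 17]), ((nat_lit 1160), [nat_lit 17]), ((nat_lit 1216), [nat_lit 17]), ((nat_lit 1224), [nat_lit 17])]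
noncomputable def L23 : LD := ⟨X22, (nat_lit 23), (nat_lit 11), bp23, c23, (nat_lit 10), gp23, gq23, P23, (nat_lit 4), (nat_lit 7), tp23, mt23,
  [[], [], [nat_lit 4, nat_lit 1, nat_lit 0, nat_lit 4], [nat_lit 6, nat_lit 8, nat_lit 4], [nat_lit 2, nat_lit 4, nat_lit 3, nat_lit 4], [nat_lit 3, nat_lit 7, nat_lit 3, nat_lit 4, nat_lit 1, nat_lit 0, nat_lit 4], [nat_lit 1, nat_lit 5], [nat_lit 4, nat_lit 3, nat_lit 4], [], [], [], [], [], [], [], [], [], [], [nat_lit 1, nat_lit 6, nat_lit 8, nat_lit 4], [], [nat_lit 2, nat_lit 9, nat_lit 2, nat_lit 9], [], [nat_lit 6, nat_lit 8, nat_lit 1, nat_lit 6], [], [], [], [nat_lit 3, nat_lit 4, nat_lit 1, nat_lit 0, nat_lit 4], [], [nat_lit 5], [nat_lit 1, nat_lit 4, nat_lit 3, nat_lit 4], [nat_lit 9, nat_lit 8, nat_lit 4, nat_lit 3, nat_lit 1, nat_lit 0, nat_lit 4], [], [], [nat_lit 7, nat_lit 3, nat_lit 4, nat_lit 1, nat_lit 0, nat_lit 4], [nat_lit 4, nat_lit 8, nat_lit 4], [], [], [], [nat_lit 7, nat_lit 9], [], [],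 [], [], [], [], [], [], [], [], [], [nat_lit 3, nat_lit 5, nat_lit 3, nat_lit 5], [], [], [nat_lit 9], [], [], [], [], [], [], [], [], [], [], [], [], [], [nat_lit 9, nat_lit 2, nat_lit 9], [], [], [], [nat_lit 1, nat_lit 3, nat_lit 6, nat_lit 8, nat_lit 1, nat_lit 6], [nat_lit 3, nat_lit 6, nat_lit 8, nat_lit 1, nat_lit 6], [], [nat_lit 9, nat_lit 0, nat_lit 9, nat_lit 5], [], [], [], [], [], [nat_lit 2, nat_lit 1, nat_lit 4, nat_lit 3, nat_lit 4], [nat_lit 3, nat_lit 5], [], [], [], [], [], [], [], [], [], [], [], [], [], [], [], [nat_lit 2, nat_lit 9], [nat_lit 1, nat_lit 2, nat_lit 9], [], [], [nat_lit 5, nat_lit 3, nat_lit 5], [nat_lit 3, nat_lit 4, nat_lit 8, nat_lit 4], [], [], [], [], [], [], [], [nat_lit 7, nat_lit 4, nat_lit 3, nat_lit 4], [], [], [], [], [], [], [nat_lit 3, nat_lit 1, nat_lit 3, nat_lit 5], [], [], [], [], [nat_lit 6, nat_lit 8, nat_lit 3, nat_lit 2, nat_lit 4], [nat_lit 1, nat_lit 3, nat_lit 5], [], [], [nat_lit 5, nat_lit 3, nat_lit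 4, nat_lit 8, nat_lit 4], [nat_lit 5, nat_lit 1, nat_lit 3, nat_lit 5]],
  [[], [nat_lit 1, nat_lit 2, nat_lit 4, nat_lit 32, nat_lit 24, nat_lit 320, nat_lit 640], [nat_lit 1, nat_lit 8, nat_lit 16, nat_lit 32, nat_lit 64, nat_lit 256, nat_lit 6], [nat_lit 1, nat_lit 2, nat_lit 4, nat_lit 32, nat_lit 192, nat_lit 768, nat_lit 344], [nat_lit 1, nat_lit 2, nat_lit 4, nat_lit 8, nat_lit 16, nat_lit 960, nat_lit 1440], [nat_lit 1, nat_lit 32, nat_lit 6, nat_lit 24, nat_lit 320, nat_lit 712, nat_lit 1162], [nat_lit 1, nat_lit 2, nat_lit 4, nat_lit 32, nat_lit 384, nat_lit 576, nat_lit 216], [nat_lit 1, nat_lit 2, nat_lit 4, nat_lit 1024, nat_lit 24, nat_lit 232, nat_lit 808], [], [], [], [], [], [], [], [], [], [], [nat_lit 1, nat_lit 2, nat_lit 4, nat_lit 32, nat_lit 136, nat_lit 528, nat_lit 344], [], [nat_lit 1, nat_lit 2, nat_lit 4, nat_lit 8, nat_lit 16, nat_lit 640, nat_lit 1248], [], [nat_lit 1, nat_lit 32, nat_lit 128, nat_lit 512, nat_lit 6, nat_lit 72,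 nat_lit 272], [], [], [], [nat_lit 1, nat_lit 8, nat_lit 16, nat_lit 6, nat_lit 320, nat_lit 1536, nat_lit 674], [], [nat_lit 1, nat_lit 2, nat_lit 4, nat_lit 32, nat_lit 144, nat_lit 520, nat_lit 344], [nat_lit 1, nat_lit 2, nat_lit 4, nat_lit 128, nat_lit 512, nat_lit 24, nat_lit 1320], [nat_lit 1, nat_lit 32, nat_lit 1024, nat_lit 6, nat_lit 80, nat_lit 264, nat_lit 640], [], [], [nat_lit 1, nat_lit 64, nat_lit 256, nat_lit 6, nat_lit 24, nat_lit 1152, nat_lit 674], [nat_lit 1, nat_lit 2, nat_lit 4, nat_lit 32, nat_lit 72, nat_lit 272, nat_lit 664], [], [], [], [nat_lit 1, nat_lit 2, nat_lit 4, nat_lit 8, nat_lit 16, nat_lit 320, nat_lit 1632], [], [], [], [], [], [], [], [], [], [], [], [nat_lit 1, nat_lit 2, nat_lit 4, nat_lit 32, nat_lit 80, nat_lit 264, nat_lit 664], [], [], [nat_lit 1, nat_lit 2, nat_lit 4, nat_lit 64, nat_lit 256, nat_lit 24, nat_lit 1192], [], [], [], [], [], [], [], [], [], [], [], [], [], [nat_lit 1, nat_lit 2, nat_lit 4, nat_lit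 1024, nat_lit 320, nat_lit 232, nat_lit 624], [], [], [], [nat_lit 1, nat_lit 128, nat_lit 512, nat_lit 1024, nat_lit 6, nat_lit 58, nat_lit 344], [nat_lit 1, nat_lit 6, nat_lit 640, nat_lit 58, nat_lit 210, nat_lit 344, nat_lit 1098], [], [nat_lit 1, nat_lit 2, nat_lit 4, nat_lit 32, nat_lit 1280, nat_lit 344, nat_lit 664], [], [], [], [], [], [nat_lit 1, nat_lit 2, nat_lit 4, nat_lit 64, nat_lit 256, nat_lit 664, nat_lit 1200], [nat_lit 1, nat_lit 2, nat_lit 4, nat_lit 32, nat_lit 1088, nat_lit 344, nat_lit 664], [], [], [], [], [], [], [], [], [], [], [], [], [], [], [], [nat_lit 1, nat_lit 2, nat_lit 4, nat_lit 128, nat_lit 512, nat_lit 344, nat_lit 1136], [nat_lit 1, nat_lit 2, nat_lit 4, nat_lit 1024, nat_lit 640, nat_lit 232, nat_lit 344], [], [], [nat_lit 1, nat_lit 2, nat_lit 4, nat_lit 32, nat_lit 1536, nat_lit 344, nat_lit 664], [nat_lit 1, nat_lit 2, nat_lit 4, nat_lit 32, nat_lit 1152, nat_lit 344, nat_lit 664], [], [], [], [], [], [], [], [nat_lit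 1, nat_lit 2, nat_lit 4, nat_lit 128, nat_lit 512, nat_lit 320, nat_lit 1128], [], [], [], [], [], [], [nat_lit 1, nat_lit 2, nat_lit 4, nat_lit 32, nat_lit 1032, nat_lit 344, nat_lit 664], [], [], [], [], [nat_lit 1, nat_lit 2, nat_lit 4, nat_lit 64, nat_lit 256, nat_lit 640, nat_lit 1200], [nat_lit 1, nat_lit 2, nat_lit 4, nat_lit 32, nat_lit 1040, nat_lit 344, nat_lit 664], [], [], [nat_lit 1, nat_lit 2, nat_lit 4, nat_lit 32, nat_lit 344, nat_lit 664, nat_lit 1232], [nat_lit 1, nat_lit 2, nat_lit 4, nat_lit 32, nat_lit 344, nat_lit 664, nat_lit 1224]],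
  [clA23, clB23, clC23, clD23, clE23], [nat_lit 0, nat_lit 1, nat_lit 2, nat_lit 5, nat_lit 12, nat_lit 14, nat_lit 17], wl23, [nat_lit 3, nat_lit 2],
  [ch023, ch123, ch223, ch323, ch423], 129123503308800⟩
def sw23 : List (List ℕ) := [[nat_lit 3, nat_lit 2], [nat_lit 7, nat_lit 6, nat_lit 1, nat_lit 6], [nat_lit 1, nat_lit 5, nat_lit 1, nat_lit 0], [nat_lit 4, nat_lit 3, nat_lit 4, nat_lit 0]]
noncomputable def psi22 (i : ℕ) : ℕ := fld (nat_lit 0xdb3db0db5db2db1db4d65daddaedabdacd6ad6cb89da7da6da2da4da3da5da1ccfd93cdbd9dd9bd9cd84d97d95d99cedd98d92d9fd94c65c5ac7fcbecc0d7cd89d8ad8bcead87d86d7dd9ad7ed82d81cd7d7fd83d85d8cce8a16c63d78cf0c81abbc4bd73c7ca04d69d6fd6ed6dda9d64daad70d67d68d66dafd6bd63d56c0cd55d5fd5ebfac06ba1b47c31beab8ed62d60d46d53bf8d4fb40d51c34d30c26d4bd17d3bd2ec0bd54d44d45c2cc32d3cd3ed3fd40d35d41d49d10d1dc29b9fd33d3dd34d36d2dd0dd4dd16d48d32b95d01b49d0fd28822d26d00b86bfdbe0be2c22d1ed1fd39d14d1bb9cd19d0ed4ad2fd15d1cc00d12b88d3ad29d18d31c20872d0ab4a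c39d07c0991ed03d04b32d2bd25cffb8282982c865864ce2cf8cf7cf6cf5cd2cf3cdcceed77cefcf1d96cd5cebd88cd6d7bcc1abccbfa969bbcf9ce1cdfce0c96c60cf2d9ec86c59cd8d80ce9cecc9acd3cf4cc9cd0da0cceacf9b6aadab5cd1cc3a18c4f9b9afdcc8a08ce7d8dce5d8ecbdaaccbbcb26ff9b56c89bd6c44df6c6cbab04c849baaffcadc8eaefcaaca8ca9ca7ca5ca6b026fba024f9af9ac7c9dc9ec8fc9bcd4c99c67c90cdec88c64c91c92c93c97c9ccacc5bc83af6c8aa19c95c87cdac80cb0c8cc62d76c85d8fc48a0fd72c5cc7a9c46cac77c76c45a01ac9ab0a8fa9da91298790aecc6ac6ba14c68c98c66d91c94d79c82c61cddab2c5ea03c7bc8dd90cd9aea7004dbc559be9ac4e1b09c50cc6ab979bc4ad74c4c9adc7e709c46c75c4470b9ff9c19fb9fa6f96cc6f74f7c19d08c38c37c36c35d4ebfbd42d59916c0791bc2ad43c2bc2dd38bfec27d4cbe38f991fd20bffd0cbe15d65b6962824b41c3a932befbebc1596f904869c10c11ba5ba2c0dd61d47b9ed06b45c2fd5cb46b8db3f871c01d13c21c28d23bfcc33d5dbf9d52bf793ebf55b381f93fbe5876c175b4439450c16d58873b3682196bbf1868c25d21c1fd22bdf975bddbce5e35e45dd86e5df5da82e5b58235b76905d92b0bdc934b8b987b54971bc887444844a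96cbc3b9795ebc030dbbc38fbbe39038e97ab98b48bb4bb5bb692fb42b4d98326123e2348668631995d794e969931c0fba4b96c0ed5bba0d37c0ab8fd1ab99b9ab9bbb8bc2ba3d2cb8a967b9287744fb9dd57c04b87bccb94da8d11b8cd24b2d86fb2ecfeb43b80b7fb1d82a5ac5b944987881d5b087ab1b2b2b739502afb33b6fb6eb1a2b1b5393593692c91826290d90e9016a32566716722ad25f65c65d25964522e652b3143bbcab6bb5297e5f6436b4ebb1b4c892d09d2abb7d5ac05c08b44b81bb2c1ad50c0381b5afb3cb3b81a5b897cb37be891d66cb70d02b568985e5b83b854465d45ad223601b23815861897b27b22240603879b1eb7e25eb75b6d2ab86082785d2315d8196b0c7beb0a79cac4b0db129c7b10c51b08b07b06b05cb1ad2ca47b1b00caeaaecc4a93ab6af7ca0af8afac8bab17e0af3a9e77aaf0caba97348c6c33fc586bd6c56f66c97d3ae49b72e8acaac8a1e7aa28baa97ab7fa7867f578527f59b7681e0b03aa2ad0ccd7e17dcaa16faae1c73ae0c9fa3a71eb0ea1aac23c63c53bc3cc343ce6d75a15c4ea0e9b8afbccaa07344c5faf5c72aafafeccbcbc7b8723adc7d6aa74fe4ff4fb6c3ad1acc7019b0af2c703c95014dd4e04e2aeece49af403afc3fcc6f3fec71295a6ea6851351450c50e7e2a861e74fd7076c16fd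7d56c04141e127d6cb1021df4137dfa74773a762b3a727c29e4a6fa8d7eb2b42852b57a4a8c2972157f7a067f2a1da497e97217dda5d702a104f46ba15915c4f807c0f17daa52a12347a4f3293fda433bd7e7a611570f315a0da346a4c3be3c82162911f82897e5a3bac6a099bca35a36a379b17a89c59c879aa057ef20c2142791e81da16027e2879fe27c6f81dd0733cb7bdadfa62a1ca11ac3c89cc7a17d7aabac69a13a51a1ba5bc7dab89aaa0ca0b500a39cc2ab4a64a2fd71c5dca2c7471bc42a257059a8c40c3f9f99956b99934d94e34f56bb4dc2741ed9ee72b7109986be7089cb991990290a707c07c17bb2809ae9de9ca9dc2867a57a679827b7821dc21156656728a20d5572080895629e89dd4e4a31b0b71fa32c7972c517c417253d9c54cb6a38ce3cafcc5ab7ae3ccccb86bf9b36c7a34a9fa959dfc49c53515a0d6f19fc9a77246f44f24f61db6b76e670c1e999d99c7069979999eb99a2889f89949f62969e79e62786f31de07f97f94966797dbcb66d94c97bbb092d05e98098bb51988b38984bb997913c056976bde96593c972bc9940c1493a96dbc4be6393ba738db939669748df963c1c90531238cbc136e3693635fa5de81968b8203119542fd0c21cbb722a0ba893998587c29e98a9126a48e969f9112334b06a2970bf2bf64b1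9734a096e94d8965f5b69b6abcd374c18ba6893bb388c982b6892b11f19536c45143743a11b11943c0b20afc23d05b35394c2e36a49bb6749ac3045b45c4589489445f7890b64b6569190b19d44d5e25b15dc961c1381c3a0b6311d19f44e13e198118397c2444743844c8d88f38f48d28d06988cc1ad45a5fe5ff5f29465f44ad2386a58e419c23c5e139f9644af0c02321474ae8d98f58d78d629b2a18d38f28d18f129f2372ae8ef2600c16a76a08c169d8b049c8ad6968c75f887f5d268e8bc8701935d30b41970a13958b436d43d6948c51923108c30b319411a3961cc1ca2510c324e0d31ae24214623d37312889c23b89a87bb30b2493886a82d930b4b89190f87d65b86792e25825d22c23a19e2a78852ac2aa85f2300a58bf45288f94b899b76b1fb79b91bf0875bc7be9d0bc028bbb84bd881686c5e0895c12be488dbaccfbcfabab862b25b18882814b1685c8118018175aa5d05ae22d4634618525ec1a38046005eb8038358428337ff24b66f67066a23f84a83484025c65922f06524d1c649625b1c20c784b8418495bc1a1809462bd5894cfc460b7dcfd604b17826465c1bbd3d27be7956bf381eb78903b3eb3a9585d585986db2685e8135cf85b5cd80f5d11a080c60580a8308085e78062a684f84c2a485a2a384822b0b97fc7ecada7b6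7eaa657b9ad87b47e8a637bc34da2e0fe0457fba6d7f8a607f3a4a401a3c1567e3a87aceaf4a777dea5eacd3fba533c43bb7d7aa8a8034fae532f3ba50d71d58e6fe34e7cb32e08635c35a35b104187162a719e29e326ab11a1f7f19e12687f6aab5797f956d7f4577569b015784f316e3d33d4adbade720a3371a9d99daa6910a0990e311432d3d53d6b0fc4da3056a9d80dd1613ca0f215b0dc402c6d3c74da4de59316b3d151151250bad9ad771c4109d618959c77f15e1e64fc34caf14120f615f158405772a7577475d7581f45a076416a1f751040fad45281e328476d0971e541110128f75e77175c75b26529477026904928308759e75259974a56b73e4e66ee59175070f1d86f24047450f41d90de3cd1d734a74e18207e18134b0f518a1fe1031fc35e1001861ec51616f3d772a9c39ed72d28221327a7269c09a6aaa70aa5f7a99c6ac57cf784a007a72762811e429328d7142922770e49ec7495041ea99fc43722c479e9a8399b9fd70451ea5caa0c57cb97cda816fcca3acbc3ea23c3cae76f59a598e7479a96b66ef74c6b46ec6b81635193d851b9a06d36b15056ad1f96e06d26da21056426d6de20b09420f18320a0966e56df6d16d05036b051ac3da7bc78ae6cb79b2cb3ae8cb5aa355ea82a7f9b49eaae96bc9f2a599f76eb9a16f0561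6ed5026b26e46ce6af2716e226e26c0fb6a96a88c96998e5947b629416978c894539c8c639e3a81436a68f06a18c249e8b144569290cbd14998bd4353a29573764c65f34cd3a168537531f05c3b031e3af3b53b13b43b36661c83b74951491a266b668b5fb6084584621a986b346748444b667398967a5ce5b215012612937145e45fb5bb5c88e4aa83e0c60d50a412737249fb575ab13d11e11c44b14a4d16411241ac45939bb594ac19a1c764a0b819b39d14024a63963a63b6291a924863506f1ab46d06a2360d462e62d62c24925563803325405d06b4cf6234a161b4b35be22861d39962122913f22a4541201c10b61c039a06413a0b71481b53b21443ad5e61af5f946480b828b20602b2884e8eb8ec25a25223995a6078c0910b509378e86888ea2352a524525012a85184d5ea5e95e8807609b2fbdabdb9088e186bbd7959bd9906493bd6bd0b14ba9c1e818b2b8b98be80e8578126658104534665ca5bd5a521d5c61c521c0682221c40690bf61f5c98325bb5a8b7bb39bd2c1dbd4beebf4664907b77b3d856b2ab7c6518584c55ba5a72215c821f1410be5a176e59f753594780ad540b75140e41f41b41d59d78c56874b4f14167ce4d83db42d4095874155893da2f604035f4292f558042a35d42842742f57a7b77b07b35561881eb56542e425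42c3f81747b556374f7997b25929d29d35736dc56c9cc6b541a55f6c210810b0e116d3d240a9cf5760881090fd0e24fa15d54f10543016818554a09516940d0931e20fa5425435381f320453e04d1f209c09820554102620304a4075334175065302700f81fd4080fc21216476720709117f0f909242b18442642270351d51c6e76cd6e920e9c27309aba8aa8b78878976a209a887d0a8978727326f1670ff5316e370e6cf6b3a9ba0aaa5aa6a8477caa4551ca1a56c3b9a39f3a5a7af9a45904e54d61d44ed1d00480843571d308574d4f09c99f4a98c52a99cb478da9a9f1c5678e9f558d3564ef1d20f74d34d264b4a56244a96874a84ba4bc4b54b84b26895a94693b64a34c14683aa4673214ca2da4cb3204c84b76694c94b46204c793d9428de8da8e76441c965a4ce4cc48c1b34d04974c247662293b6536953ae8c491991768f3ac4a48396773a65db4920d60c414f0bb1254a70bc0c513948748814b1454840671a80d10d21bc47e0361b906e0191bb0373a34a23a44742260ba24f12e12f2246320661be0cc4c44c04be5cb82560685482f85382b65e65f1c39149158ed6479133ab2201236175cc87e927becb908fe9098f664dbc5b7abc68f8b2c69331b44318e05b31c1910bd8b2922b55925bed8f7926b4f68d3981900b543154d57b57258b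57052257f58257d57c52057142440651f4214205972f759541c59656041841953258f588a7ea787797617837695985471fa59a55858a52c534423775746a947917e6358359a90a4da927db3fa35256f3533f61061130811070ee0ef17d3ee04717b09002417704c00e0253503e33e41d50802060e804620008c58c5869bf6e872e79d79e7ac7ad55978a3d01d60e0741abea20795a9ca4178fac1ac07d92f31540833550dba42a4babf7d87d134907d6784c367e67c67b60c67d68167f49d60a4984574bf3a769b3a94943a547547768c6869028e069c63e69e64661261c4348fa8a98b591c96a31d362bbbbbdbba96895f38b31538838914d05814c0ad03113406301703501831337c0572250a803006068a68493389e6546603700a395d8b392836b91a95c31a0b136409f36695b39130f05558373457e7c87c67c73ff4004e94d73c03543f73f93513e57d47cc7f077b73a73f3b9aeda50a44328ab3abd33e323327aeb34233d2ec33b03d1110780200440232ea33303c0750427d27ca79f32c07232aa4e34534007a3243253412e64bd4b968368039244044436809e0a00ae31638a31437d9609558ae3612fabbf30c3082f92f830b3072d330502905202e2d13000502fe9532fc2fb30e30a30941e5855810f03c30710d907b0700792ed33c2eb3342dd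ae22dc3222e52e32e42c52e10392df2de2e92e713b4bb04f11704e0540532d43062cc3012d02cf2ce2cd2d204115503803b03a2c32e22c42c602d02f0270282be01e01f01b01601300d00c004a6aa6ca73b74b6cbcfb718cdb5e884b198832a91a78868055f080280029d8d494f8cf94a2a229c8d529a008c6ea67992a8e759716713a3f9e575f28e7151f1add9d1a3d996a269dba6b7657557297189e0ad6a27a7ca249d7727a2b98f7127192759f050a1666ae52f5096ac6db6ab2677bf7577ba26b26675a264010b66baf8cbb5db1c88a83f8385fdb5a88b257b6162a6272475fc8a65ee4718a483b24c84763c62b6362532465ef2441a68a1241b21843bae89f8e289b8885fb8e68ce6305f1bad9438dcb1588183db588558897fe61861a61e12247337a46eb295c25a64565a421e5c75c421966e21b21801aa40a66a2c72852a9d46dd6d75189d0a2d6d96d550f9ce5273e053953f5362021f63dd0e773752d73517340c6e1a3e76b2011f576f54053c28c1f01ef1ee9ef73157470d99ea2aa8577d762717766545a7dad3a7998da229d59a2a297437487403cf3e24ee4e84d51d14ec1ce1cf0228a89518a74ab67964283a5c55c145d8376156131aa46b12d47f4791ba47c1b80d70cb60d1b44a61b21b11426088a28ee6486331bf6374822a82431a4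1a585067583180d8ff88790a8e363f643baa8fc8b7b139298ab8ba8af43f43318f44218d03202c7387815757c473254b5216d673d73b16c52517e3ef17c3ec17a11210e3e917609a56e1fb17117210d72f7ae55a18078b76c54854c5082721655296ea7c3796a2877777e550a57793a46a58776a487e42ca3c215303f13866348f13738738548664c67660e8db8a048560b69a1b05a363d6198fd6509782db61048915114e1351363821330cf13106c46f4701bd12c0ca5ed66189d65566248d64945522712161692a64f90064e9248aa9238fb2d811605a7a03f41793390ed10f17817010c55c7a355455d3f23f554e7c5736a7a7607335077ee55352b6aa54452452e4d4778739744a47794a542f43f03f11100ec0eb08e04b3df1ff0e608b7117a155255b3ce0df7427977923bfa452f10821b749165762f8a34804810d01320ac0cd46a1b612b0c90c883665848a4908a59528ca8dd5bf5a243e48b48e4727fd64060f6144328b88ac92136709d9203173840ce0ab0620343790a705f88065636f0a28b63183653190b053b09b1757a253a7636d45496d85465235263eb08f0ea08d3dc0e508a9cd5557547c94e74ea3c10d83f33e198c73c3b8a552f03262ee338077043331074a2132b2f22ef63447b06d1306256315c05c348346c83c6113810aa0613770a698162668244111505938637b9773602d62d53030512ff2d92d753d3e80e95357564eb3ed3de7ed3360763302cb58415203e33a3322c82c72e02c947847d37f0a962818c3833782c13022c218b02b02a3042bf2c05373e63ea3351cd01d3372bc2bd02101c2bb21747a37e3802ba0150122b901401126300f3e72b82b700b00900a2990070060002b6001002003005)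 (Nat.mul (nat_lit 12) i) (nat_lit 4095)
def ce23 : List (List (ℕ × List ℕ)) := [[], [((nat_lit 8430), [nat_lit 0])], [((nat_lit 8430), []), ((nat_lit 8430), [nat_lit 0]), ((nat_lit 8430), [nat_lit 3]), ((nat_lit 1572895), [nat_lit 1, nat_lit 5])], [((nat_lit 8430), [])], [((nat_lit 1572895), [nat_lit 4, nat_lit 3, nat_lit 1, nat_lit 5])], [((nat_lit 8430), []), ((nat_lit 1572895), [nat_lit 5]), ((nat_lit 1572895), [nat_lit 7]), ((nat_lit 1572895), [nat_lit 1, nat_lit 5])], [((nat_lit 1572895), [nat_lit 5]), ((nat_lit 1572895), [nat_lit 7])], [((nat_lit 8430), []), ((nat_lit 1572895), [nat_lit 9, nat_lit 5])], [((nat_lit 1572895), [nat_lit 5])], [((nat_lit 1572895), [nat_lit 8, nat_lit 1, nat_lit 5])], [((nat_lit 1572895), []), ((nat_lit 1572895), [nat_lit 5]), ((nat_lit 1572895), [nat_lit 7]), ((nat_lit 1572895), [nat_lit 1, nat_lit 2]), ((nat_lit 1572895), [nat_lit 5, nat_lit 2]), ((nat_lit 1572895), [nat_lit 1, nat_lit 5])], [((nat_lit 8430), []), ((nat_lit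 1572895), [nat_lit 2]), ((nat_lit 8430), [nat_lit 0])], [((nat_lit 8430), [nat_lit 6, nat_lit 2, nat_lit 1, nat_lit 5, nat_lit 3])]]
def cp1 : List (ℕ × List ℕ) := [((nat_lit 1572895), [])]
def cp2 : List (ℕ × List ℕ) := [((nat_lit 8430), []), ((nat_lit 1572895), [nat_lit 9, nat_lit 5])]
def cs0 : List (ℕ × List ℕ) := [((nat_lit 8430), [])]
def cs1 : List (ℕ × List ℕ) := [((nat_lit 1572894), [nat_lit 4, nat_lit 3, nat_lit 1, nat_lit 5])]
def cs2 : List (ℕ × List ℕ) := [((nat_lit 8430), []), ((nat_lit 1572894), [nat_lit 9, nat_lit 5])]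
theorem L23_B : L23.chkB = true := by decide +kernel
theorem L23_G : L23.chkG = true := by decide +kernel
theorem L23_C : L23.chkC = true := by decide +kernel
theorem L23_Cl : L23.chkCl = true := by decide +kernel
theorem L23_Ch : L23.chkCh L23.ch [] = true := by decide +kernel
theorem L23_T : L23.chkT = true := by decide +kernel
theorem L23_J : L23.chkJ = true := by decide +kernel
theorem L23_I : L23.chkI = true := by decide +kernel
theorem L23_ok : L23.Ok := ⟨L23_B, L23_G, L23_C, L23_Cl, L23_Ch, L23_T, L23_J, L23_I, by decide +kernel, by decide +kernel, by decide +kernel⟩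
end CA.Cov

theorem CA.realizeEqns_Cov_D23 : True := by
  have := @CA.Cov.P23.eq_1
  have := @CA.Cov.P23.eq_def
  have := @CA.Cov.P23.congr_simp
  have := @CA.Cov.ch323.eq_1
  have := @CA.Cov.ch323.eq_def
  have := @CA.Cov.ch323.congr_simp
  have := @CA.Cov.cp2.eq_1
  have := @CA.Cov.cp2.eq_def
  have := @CA.Cov.cp2.congr_simp
  have := @CA.Cov.L23.eq_1
  have := @CA.Cov.L23.eq_def
  have := @CA.Cov.L23.congr_simp
  have := @CA.Cov.ch423.eq_1
  have := @CA.Cov.ch423.eq_def
  have := @CA.Cov.ch423.congr_simp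
  have := @CA.Cov.cp1.eq_1
  have := @CA.Cov.cp1.eq_def
  have := @CA.Cov.cp1.congr_simp
  have := @CA.Cov.cs1.eq_1
  have := @CA.Cov.cs1.eq_def
  have := @CA.Cov.cs1.congr_simp
  have := @CA.Cov.ch223.eq_1
  have := @CA.Cov.ch223.eq_def
  have := @CA.Cov.ch223.congr_simp
  have := @CA.Cov.clB23.eq_1
  have := @CA.Cov.clB23.eq_def
  have := @CA.Cov.clB23.congr_simp
  have := @CA.Cov.mC23.eq_1
  have := @CA.Cov.mC23.eq_def
  have := @CA.Cov.mC23.congr_simp
  have := @CA.Cov.ch023.eq_1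
  have := @CA.Cov.ch023.eq_def
  have := @CA.Cov.ch023.congr_simp
  have := @CA.Cov.ce23.eq_1
  have := @CA.Cov.ce23.eq_def
  have := @CA.Cov.ce23.congr_simp
  have := @CA.Cov.clD23.eq_1
  have := @CA.Cov.clD23.eq_def
  have := @CA.Cov.clD23.congr_simp
  have := @CA.Cov.gq23.eq_1
  have := @CA.Cov.gq23.eq_def
  have := @CA.Cov.gq23.congr_simp
  have := @CA.Cov.cs2.eq_1
  have := @CA.Cov.cs2.eq_def
  have := @CA.Cov.cs2.congr_simp
  have := @CA.Cov.wl23.eq_1
  have := @CA.Cov.wl23.eq_def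
  have := @CA.Cov.wl23.congr_simp
  have := @CA.Cov.clA23.eq_1
  have := @CA.Cov.clA23.eq_def
  have := @CA.Cov.clA23.congr_simp
  have := @CA.Cov.mE23.eq_1
  have := @CA.Cov.mE23.eq_def
  have := @CA.Cov.mE23.congr_simp
  have := @CA.Cov.mD23.eq_1
  have := @CA.Cov.mD23.eq_def
  have := @CA.Cov.mD23.congr_simp
  have := @CA.Cov.bp23.eq_1
  have := @CA.Cov.bp23.eq_def
  have := @CA.Cov.bp23.congr_simp
  have := @CA.Cov.c23.eq_1
  have := @CA.Cov.c23.eq_def
  have := @CA.Cov.c23.congr_simp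
  have := @CA.Cov.tp23.eq_1
  have := @CA.Cov.tp23.eq_def
  have := @CA.Cov.tp23.congr_simp
  have := @CA.Cov.sw23.eq_1
  have := @CA.Cov.sw23.eq_def
  have := @CA.Cov.sw23.congr_simp
  have := @CA.Cov.gp23.eq_1
  have := @CA.Cov.gp23.eq_def
  have := @CA.Cov.gp23.congr_simp
  have := @CA.Cov.psi22.eq_1
  have := @CA.Cov.psi22.eq_def
  have := @CA.Cov.psi22.congr_simp
  have := @CA.Cov.ch123.eq_1
  have := @CA.Cov.ch123.eq_def
  have := @CA.Cov.ch123.congr_simp
  have := @CA.Cov.mA23.eq_1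
  have := @CA.Cov.mA23.eq_def
  have := @CA.Cov.mA23.congr_simp
  have := @CA.Cov.mB23.eq_1
  have := @CA.Cov.mB23.eq_def
  have := @CA.Cov.mB23.congr_simp
  have := @CA.Cov.clE23.eq_1
  have := @CA.Cov.clE23.eq_def
  have := @CA.Cov.clE23.congr_simp
  have := @CA.Cov.clC23.eq_1
  have := @CA.Cov.clC23.eq_def
  have := @CA.Cov.clC23.congr_simp
  have := @CA.Cov.mt23.eq_1
  have := @CA.Cov.mt23.eq_def
  have := @CA.Cov.mt23.congr_simp
  have := @CA.Cov.cs0.eq_1
  have := @CA.Cov.cs0.eq_def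
  have := @CA.Cov.cs0.congr_simp
  trivial
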