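import Cfsg.Agent.Cov.NuK1
import Cfsg.Agent.Cov.NuK2
set_option autoImplicit false
set_option maxRecDepth 100000
namespace CA.Cov
open CA.TC
theorem nu7_c : ∀ p < 19008, nu7.chk p = true := by
  intro p hp
  by_cases h : p < 4096
  · exact rng_spec nu7_c_0 p (by omega) h
  by_cases h : p < 8192
  · exact rng_spec nu7_c_1 p (by omega) h
  by_cases h : p < 12288
  · exact rng_spec nu7_c_2 p (by omega) h
  by_cases h : p < 16384
  · exact rng_spec nu7_c_3 p (by omega) h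
  exact rng_spec nu7_c_4 p (by omega) hp
theorem nu7_z : ∀ p < 19008, chkZ nu7 6336 p = true := by
  intro p hp
  by_cases h : p < 8192
  · exact rng_spec nu7_z_0 p (by omega) h
  by_cases h : p < 16384
  · exact rng_spec nu7_z_1 p (by omega) h
  exact rng_spec nu7_z_2 p (by omega) hp
noncomputable def nu6at : BT Nat := (.node (.node (.leaf (nat_lit 0x309519f3e652243c88f1e3c60b9d3284d233a8ce184070ba24258d973680d943454d1d34689993a64a9f327cc1c306099e3a4899b2870b9636589162c588153444c952a68790285ca143238b9320609922e38b0f244861122548912254594184c8101e5058f243478e264870b1c3868d123468f144440c203060c16407881c2458a141c50a14344891a1848b0e2060816203080e1c5050e1c4860c1848410142850a1c1850c102040818203060c1830a0820202081020608002020408102040000000000)) (.leaf (nat_lit 0xcf7efdbcd6b2d7c98af5eb18f1ddc376eddaf5ae58c16715cc56ebdfb75b0e0ab6ab5abf6a9d9a966e59b34ac5cb152f58bd5edd7af4aedca34ad53b75aadaab46ad5ab3ea59a162a54b33a7d3ad4e9d89b5a94faf4a8d69b56751a32e850a942850a92a9cba53e7cea72a751993a6d2a33654d9b326489932749a11e5cf972e5ca9f3a3cd912a4c98d264c9992244c8b225468f2e3ca8f163c68d262468d222c58b221c789122448d0a245870e1c38b0e142850a144830e0c083060c282fe0c08102040)))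 (.node (.leaf (nat_lit 0x80fdfbf7efdfbe7df5bbe7cf9ebd6ff1b3d7af1e3c78f1afb76eddb6f4d1dba66e9d34f2d597872e5cb373dd93870e1c386eddebe62ddbb66cc5dbd60d9aae6ad57bc74d16b460e9daf58e99b35ae573970c993258c98b16cc5bab62c14ab68c1b2a5ea17aa6abda276ab97285ccd3345aa59ad50cd62c5899927569182b56c52aa46957aa54c113048b54a946817a846b90ad5c9d3a7409d62d4c9912c4c8129f54952a556795a9489121f38a8fa846754a944793224470da142750a842a1020389cda6)) (.leaf (nat_lit 0x3efd7ddbefdfbf3e767bd7e7cf7efdfbf7d1e7af5ebabbe7ebcf2f3e79bae9c5cf8f1e397871c7bf7efdfbf6edf3ef0eddbaf5e1ebe6febd36f4e9bbdf9e7b39eff3eb76bf3cb96cf1b7c77e3c78ebe3c3875e1db570dfa3573dfd74eecfbb4f4ddcf374dbb73ede5979ecd1cb667e5af5ebcbc736ac7bf56ae1934e2c9bb4e9df877e3d9a3462bfbb3e2db8366dcd9b35fcdaf665cb875e5bf92f69c99326abbab463c78ef5bd37b3e2b9a3461bb970e1b76b060b9833e0))))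
noncomputable def nu6ar (p : Nat) : Nat :=
  Nat.land (Nat.shiftRight (frc (Nat.shiftRight p (nat_lit 5)) (BT.sel nu6at)) (Nat.mul (nat_lit 49) (Nat.land p (nat_lit 31)))) (nat_lit 0x1ffffffffffff)
noncomputable def nu6act (g p : Nat) : Nat := Nat.land (Nat.shiftRight (nu6ar p) (Nat.mul (nat_lit 7) g)) (nat_lit 127)
noncomputable def nu6ut : BT Nat := (.node (.node (.leaf (nat_lit 0x2f0108000e2b24974901011960001124914a260a4f24084bc0430140482c604c0464d4590003890242231090210002e8000108a40610950003451580860240919286948249a4ac043012386c900480464d2510003881e32286c80210002a8000108a101181200034494d4a8001f1c085c24225da49c0430103860483464104d04d0000211420c9183788688268000108118638910003441315a4000084000409e21fa08c04300ecd22c65ce40e4ce450000210230c2023087687222b4000010bd40118123f39093a0000001c98085a9c11c78acea8e042f4e20e1c604c3d0000211480231267466861da938000000108000413b30d1599518085e98419e1829466a4ca0c000042e0c046048314260001e70006c50216e515a92a82800010b828428318a9395194d18000084000108449c88c868a000042d48046204c44442452850003c40210ca119c18f2112000010800054d8808450c30c48c001a0c1c042000cc4c845c44044c4000006206005e05c05a0580))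 (.leaf (nat_lit 0x550142389a90000108000212d15ac0b0085ec844838c09968054aa4042f64224f2414ab352b39100002100008277159815289000010b890118122c40a80007cc001b44085bc5749da8e4000e62042d640a4bc56d3920217b30230247f25e0162a9810bd98898718132ec0b0000000084000209dc97a6e20422a8046264ea4d24c456f4730210001027937f361017000000399010b59829b100b8000085ed008c091fcd8a6e4042046184046126d26cb5315147d2021714094774660180000108000813ca3fa334dcc08408c34c488001a519a6e60422841aa306f28d28d14343941e32346d4021000698190003e9810b8a84abbab54dd008450808c090001a55b09aa8aa48a52b06a7aa042d94353950242231150210006e9ba8108aa06109b00034b381359158098a14458f58085c286c72c3ea048000042000e84d74572560260003d70217527ba3b9ab39b010b5b811bc93e11e0d5dcdc084000109f28720003f0470db0042df1050000211590d9139759699))) (.node (.leaf (nat_lit 0x87010c0d33d32d17d10d13d20d4b5434000085c34235db5049da8da05c000042d5a09a8142d38d1ed22d6cd02100040a169c68f68160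00010b76a14db40845343340900000990c042000cdac9a5da4044da8500002114d0cd12d74d68d3d2762361a6800010b560261e50b0e300b08ac000085bb0fa6d804229819804800054a7d36c02114c02a1830000243f0108003363261710118121e40000007b08b1b30085bb0e28567163d6458000042dd67536b02102a30912c0000243a9b58108a58140c1ba61519d80840019ad92cb88830c8cec042000cd60500464184c47200046c34b72b021000042369b50109648658958000121b4da80840a0c1c4add2ca8cdc0420000502ce5d64164c46e02100066a026023202023350002359a5395010b558119a000112c928098000f2c084ca6d204258e194254e94546660210001c764a2ea20a262330108000130b2975101011980001128098a14428f28084cc043016cd20485d60464d66100038a1e9024000021000)) (.leaf (nat_lit 0x118adca9c04281e21cf1cfdc8b52e50e0000213ed08e76e442672271271474171e3810a293b91b8d38000084e941391285c7063dc45c0000420008d02302114e0ce12e00068e470108003373271771071372515bd53c0840c12bde3dfbd26a5ea1e00004205c90eede904cf44524f28f00002802149277a329a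7800010813011a4508c0907bc8bc0000840012a6c404229e19e25e000d1e9c5705500217af0300e97f04da98283800010b87814031a693c119cd40000084f3c1093098a04c4a052000079e0429a4e50263500000216af0234c8121c78f81180000108002915c5524085ec04400a829546a62a12000042e20120048a3527028000021710090063512738141a8800010800021280099140944a44000f400854404c8e06a2000042d60046ac57254b0217b1111791026562b4815010bd8888bc8852aad4a40a8000085c4408c09156050a22000042e221220c6a94293901f20006d00216f0))))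
noncomputable def nu6ur (p : Nat) : Nat :=
  Nat.land (Nat.shiftRight (frc (Nat.shiftRight p (nat_lit 5)) (BT.sel nu6ut)) (Nat.mul (nat_lit 93) (Nat.land p (nat_lit 31)))) (nat_lit 0x1fffffffffffffffffffffff)
noncomputable def nu6rk (g p : Nat) : Nat := Nat.land (Nat.shiftRight (nu6ur p) (Nat.mul (nat_lit 12) g)) (nat_lit 31)
noncomputable def nu6ru (g p : Nat) : Nat := Nat.land (Nat.shiftRight (nu6ur p) (Nat.add (Nat.mul (nat_lit 12) g) (nat_lit 5))) (nat_lit 127)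
noncomputable def nu6tg (p : Nat) : Nat := Nat.land (Nat.shiftRight (nu6ur p) (nat_lit 84)) (nat_lit 7)
noncomputable def nu6dp (p : Nat) : Nat := Nat.shiftRight (nu6ur p) (nat_lit 87)
noncomputable def nu6rules : BT Rule := (.node (.node (.node (.node (.node (.node (.leaf (.cyc (nat_lit 0) [(nat_lit 2), (nat_lit 0), (nat_lit 2)] (nat_lit 1) (nat_lit 3))) (.leaf (.cyc (nat_lit 5) [(nat_lit 0), (nat_lit 5), (nat_lit 0)] (nat_lit 4) (nat_lit 2)))) (.node (.leaf (.cyc (nat_lit 4) [(nat_lit 0), (nat_lit 4), (nat_lit 0)] (nat_lit 3) (nat_lit 2))) (.leaf (.cyc (nat_lit 3) [(nat_lit 6), (nat_lit 3), (nat_lit 6)] (nat_lit 17) (nat_lit 3))))) (.node (.node (.leaf (.cyc (nat_lit 4) [(nat_lit 5), (nat_lit 4), (nat_lit 5)] (nat_lit 18) (nat_lit 3))) (.leaf (.cyc (nat_lit 5) [(nat_lit 4), (nat_lit 5), (nat_lit 4)] (nat_lit 18) (nat_lit 2)))) (.node (.leaf (.cyc (nat_lit 4) [(nat_lit 2), (nat_lit 4),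 (nat_lit 2)] (nat_lit 12) (nat_lit 2))) (.leaf (.cyc (nat_lit 1) [(nat_lit 5), (nat_lit 1), (nat_lit 5), (nat_lit 1), (nat_lit 5)] (nat_lit 9) (nat_lit 4)))))) (.node (.node (.node (.leaf (.cyc (nat_lit 3) [(nat_lit 5), (nat_lit 3), (nat_lit 5)] (nat_lit 16) (nat_lit 3))) (.leaf (.cyc (nat_lit 6) [(nat_lit 0), (nat_lit 6), (nat_lit 0)] (nat_lit 5) (nat_lit 2)))) (.node (.leaf (.cyc (nat_lit 4) [(nat_lit 5), (nat_lit 4), (nat_lit 5)] (nat_lit 18) (nat_lit 1))) (.leaf (.cyc (nat_lit 2) [(nat_lit 1), (nat_lit 2), (nat_lit 1), (nat_lit 2), (nat_lit 1)] (nat_lit 6) (nat_lit 3))))) (.node (.node (.leaf (.cyc (nat_lit 4) [(nat_lit 6), (nat_lit 4), (nat_lit 6)] (nat_lit 19) (nat_lit 1))) (.leaf (.pin (nat_lit 2) (nat_lit 0) [] [] (nat_lit 0) (nat_lit 2)))) (.node (.leaf (.cyc (nat_lit 1) [(nat_lit 0), (nat_lit 1), (nat_lit 0), (nat_lit 1), (nat_lit 0)] (nat_lit 0) (nat_lit 3))) (.leaf (.cyc (nat_lit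 4) [(nat_lit 3), (nat_lit 4), (nat_lit 3), (nat_lit 4), (nat_lit 3)] (nat_lit 15) (nat_lit 3))))))) (.node (.node (.node (.node (.leaf (.cyc (nat_lit 1) [(nat_lit 3), (nat_lit 1), (nat_lit 3)] (nat_lit 7) (nat_lit 3))) (.leaf (.cyc (nat_lit 1) [(nat_lit 3), (nat_lit 1), (nat_lit 3)] (nat_lit 7) (nat_lit 1)))) (.node (.leaf (.cyc (nat_lit 3) [(nat_lit 0), (nat_lit 3), (nat_lit 0)] (nat_lit 2) (nat_lit 2))) (.leaf (.cyc (nat_lit 0) [(nat_lit 5), (nat_lit 0), (nat_lit 5)] (nat_lit 4) (nat_lit 3))))) (.node (.node (.leaf (.cyc (nat_lit 2) [(nat_lit 5), (nat_lit 2), (nat_lit 5)] (nat_lit 13) (nat_lit 1))) (.leaf (.pin (nat_lit 0) (nat_lit 0) [] [] (nat_lit 0) (nat_lit 0)))) (.node (.leaf (.cyc (nat_lit 5) [(nat_lit 1), (nat_lit 5), (nat_lit 1), (nat_lit 5), (nat_lit 1)] (nat_lit 9) (nat_lit 3))) (.leaf (.cyc (nat_lit 1) [(nat_lit 4), (nat_lit 1), (nat_lit 4)] (nat_lit 8) (nat_lit 3)))))) (.node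 (.node (.node (.leaf (.cyc (nat_lit 2) [(nat_lit 4), (nat_lit 2), (nat_lit 4)] (nat_lit 12) (nat_lit 3))) (.leaf (.cyc (nat_lit 5) [(nat_lit 3), (nat_lit 5), (nat_lit 3)] (nat_lit 16) (nat_lit 2)))) (.node (.leaf (.cyc (nat_lit 3) [(nat_lit 5), (nat_lit 3), (nat_lit 5)] (nat_lit 16) (nat_lit 1))) (.leaf (.cyc (nat_lit 2) [(nat_lit 3), (nat_lit 2), (nat_lit 3), (nat_lit 2), (nat_lit 3)] (nat_lit 11) (nat_lit 4))))) (.node (.node (.leaf (.cyc (nat_lit 1) [(nat_lit 6), (nat_lit 1), (nat_lit 6)] (nat_lit 10) (nat_lit 3))) (.leaf (.pin (nat_lit 4) (nat_lit 0) [] [] (nat_lit 0) (nat_lit 4)))) (.node (.leaf (.cyc (nat_lit 3) [(nat_lit 4), (nat_lit 3), (nat_lit 4), (nat_lit 3), (nat_lit 4)] (nat_lit 15) (nat_lit 2))) (.leaf (.cyc (nat_lit 5) [(nat_lit 6), (nat_lit 5), (nat_lit 6), (nat_lit 5), (nat_lit 6)] (nat_lit 20) (nat_lit 4)))))))) (.node (.node (.node (.node (.node (.leaf (.cyc (nat_lit 0)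 [(nat_lit 3), (nat_lit 0), (nat_lit 3)] (nat_lit 2) (nat_lit 1))) (.leaf (.cyc (nat_lit 5) [(nat_lit 2), (nat_lit 5), (nat_lit 2)] (nat_lit 13) (nat_lit 2)))) (.node (.leaf (.cyc (nat_lit 0) [(nat_lit 6), (nat_lit 0), (nat_lit 6)] (nat_lit 5) (nat_lit 3))) (.leaf (.cyc (nat_lit 4) [(nat_lit 6), (nat_lit 4), (nat_lit 6)] (nat_lit 19) (nat_lit 3))))) (.node (.node (.leaf (.cyc (nat_lit 3) [(nat_lit 6), (nat_lit 3), (nat_lit 6)] (nat_lit 17) (nat_lit 1))) (.leaf (.cyc (nat_lit 6) [(nat_lit 4), (nat_lit 6), (nat_lit 4)] (nat_lit 19) (nat_lit 2)))) (.node (.leaf (.cyc (nat_lit 6) [(nat_lit 5), (nat_lit 6), (nat_lit 5), (nat_lit 6), (nat_lit 5)] (nat_lit 20) (nat_lit 3))) (.leaf (.cyc (nat_lit 0) [(nat_lit 3), (nat_lit 0), (nat_lit 3)] (nat_lit 2) (nat_lit 3)))))) (.node (.node (.node (.leaf (.cyc (nat_lit 1) [(nat_lit 4), (nat_lit 1), (nat_lit 4)] (nat_lit 8) (nat_lit 1))) (.leaf (.cyc (nat_lit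 6) [(nat_lit 2), (nat_lit 6), (nat_lit 2)] (nat_lit 14) (nat_lit 2)))) (.node (.leaf (.cyc (nat_lit 2) [(nat_lit 6), (nat_lit 2), (nat_lit 6)] (nat_lit 14) (nat_lit 3))) (.leaf (.cyc (nat_lit 0) [(nat_lit 1), (nat_lit 0), (nat_lit 1), (nat_lit 0), (nat_lit 1)] (nat_lit 0) (nat_lit 4))))) (.node (.node (.leaf (.cyc (nat_lit 4) [(nat_lit 1), (nat_lit 4), (nat_lit 1)] (nat_lit 8) (nat_lit 2))) (.leaf (.pin (nat_lit 3) (nat_lit 0) [] [] (nat_lit 0) (nat_lit 3)))) (.node (.leaf (.cyc (nat_lit 2) [(nat_lit 3), (nat_lit 2), (nat_lit 3), (nat_lit 2), (nat_lit 3)] (nat_lit 11) (nat_lit 2))) (.leaf (.cyc (nat_lit 0) [(nat_lit 4), (nat_lit 0), (nat_lit 4)] (nat_lit 3) (nat_lit 3))))))) (.node (.node (.node (.node (.leaf (.cyc (nat_lit 0) [(nat_lit 4), (nat_lit 0), (nat_lit 4)] (nat_lit 3) (nat_lit 1))) (.leaf (.cyc (nat_lit 2) [(nat_lit 4), (nat_lit 2), (nat_lit 4)] (nat_lit 12) (nat_lit 1)))) (.node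 (.leaf (.cyc (nat_lit 0) [(nat_lit 5), (nat_lit 0), (nat_lit 5)] (nat_lit 4) (nat_lit 1))) (.leaf (.cyc (nat_lit 1) [(nat_lit 2), (nat_lit 1), (nat_lit 2), (nat_lit 1), (nat_lit 2)] (nat_lit 6) (nat_lit 4))))) (.node (.node (.leaf (.cyc (nat_lit 2) [(nat_lit 6), (nat_lit 2), (nat_lit 6)] (nat_lit 14) (nat_lit 1))) (.leaf (.pin (nat_lit 1) (nat_lit 0) [] [] (nat_lit 0) (nat_lit 1)))) (.node (.leaf (.cyc (nat_lit 1) [(nat_lit 2), (nat_lit 1), (nat_lit 2), (nat_lit 1), (nat_lit 2)] (nat_lit 6) (nat_lit 2))) (.leaf (.cyc (nat_lit 3) [(nat_lit 4), (nat_lit 3), (nat_lit 4), (nat_lit 3), (nat_lit 4)] (nat_lit 15) (nat_lit 4)))))) (.node (.node (.node (.leaf (.cyc (nat_lit 2) [(nat_lit 5), (nat_lit 2), (nat_lit 5)] (nat_lit 13) (nat_lit 3))) (.leaf (.cyc (nat_lit 6) [(nat_lit 3), (nat_lit 6), (nat_lit 3)] (nat_lit 17) (nat_lit 2)))) (.node (.leaf (.cyc (nat_lit 0) [(nat_lit 6), (nat_lit 0), (nat_lit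 6)] (nat_lit 5) (nat_lit 1))) (.leaf (.cyc (nat_lit 3) [(nat_lit 2), (nat_lit 3), (nat_lit 2), (nat_lit 3), (nat_lit 2)] (nat_lit 11) (nat_lit 3))))) (.node (.node (.leaf (.cyc (nat_lit 3) [(nat_lit 1), (nat_lit 3), (nat_lit 1)] (nat_lit 7) (nat_lit 2))) (.leaf (.pin (nat_lit 5) (nat_lit 0) [] [] (nat_lit 0) (nat_lit 5)))) (.node (.leaf (.cyc (nat_lit 6) [(nat_lit 1), (nat_lit 6), (nat_lit 1)] (nat_lit 10) (nat_lit 2))) (.leaf (.cyc (nat_lit 2) [(nat_lit 0), (nat_lit 2), (nat_lit 0)] (nat_lit 1) (nat_lit 2)))))))))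
def nu6qs : List (Nat × List Nat × Nat) := [(0, [1, 0], 1), (0, [2], 0), (0, [3], 0), (0, [4], 0), (0, [5], 0), (0, [6], 0), (1, [2, 1], 2), (1, [3], 1), (1, [4], 1), (1, [5, 1], 5), (1, [6], 1), (2, [3, 2], 3), (2, [4], 2), (2, [5], 2), (2, [6], 2), (3, [4, 3], 4), (3, [5], 3), (3, [6], 3), (4, [5], 4), (4, [6], 4), (5, [6, 5], 6)]
def nu6rels : List (List Nat) := nu6qs.map qword ++ []
noncomputable def nu6 : Cert := ⟨(nat_lit 126), (nat_lit 7), nu6act, fun g => g, nu6tg, nu6dp, nu6rk, nu6ru, nu6rules, nu6rels, [(0, [0], 0), (0, [1], 0), (0, [2], 0), (0, [3], 0), (0, [4], 0), (0, [5], 0)]⟩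
theorem nu6_c_0 : rng (nu6.chk) 0 126 1 = true := by decide +kernel
theorem nu6_c : ∀ p < 126, nu6.chk p = true := by
  intro p hp
  exact rng_spec nu6_c_0 p (by omega) hp
theorem nu6_z_0 : rng (chkZ nu6 63) 0 126 1 = true := by decide +kernel
theorem nu6_z : ∀ p < 126, chkZ nu6 63 p = true := by
  intro p hp
  exact rng_spec nu6_z_0 p (by omega) hp
noncomputable def nu5at : BT Nat := (.leaf (nat_lit 0xf7fffffffef7bbeef7bbf739ce6b9ddef3ddeb5ab72fbce379cdb19c6313a5eb7d5ed3d5ab9846f2b56f4852949da738e1cf956526d62f9c6ada3a10549717be4a7418e8c1aa6b588631c93adeb5adee3b50a499294b10c2a14659d4729cc9218c829503390843088518c651884211023004211042000000))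
noncomputable def nu5ar (p : Nat) : Nat :=
  Nat.land (Nat.shiftRight (frc (Nat.shiftRight p (nat_lit 5)) (BT.sel nu5at)) (Nat.mul (nat_lit 30) (Nat.land p (nat_lit 31)))) (nat_lit 0x3fffffff)
noncomputable def nu5act (g p : Nat) : Nat := Nat.land (Nat.shiftRight (nu5ar p) (Nat.mul (nat_lit 5) g)) (nat_lit 31)
noncomputable def nu5ut : BT Nat := (.leaf (nat_lit 0xfa08958361390e2b9c40032cdb6ec1176f5336fd414088001162669f9824116a813c0c51d20b000bd02365693201400011002c3120b1ea44af208d0620e53e2885e011aa0894e31132002b34568050d3220110026822510260a000ac4b00266045e81223892b39866bb6e088011411288682ce4755e2822098cc49000abc4000110008291e777a0882631026232acf0000465704c149d9d0000040a08b4c133489811958861cc166a0894e0992b0aaaacc0000011000428d5644a08caa42c8a2aab71400045e504c14520018c0036808ba88dc400011790440cd1328fa80008800111a64df40001168c1330c19c87a000b9822456230cd3000110006822510c449000a900001404c12044100))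
noncomputable def nu5ur (p : Nat) : Nat :=
  Nat.land (Nat.shiftRight (frc (Nat.shiftRight p (nat_lit 5)) (BT.sel nu5ut)) (Nat.mul (nat_lit 67) (Nat.land p (nat_lit 31)))) (nat_lit 0x7ffffffffffffffff)
noncomputable def nu5rk (g p : Nat) : Nat := Nat.land (Nat.shiftRight (nu5ur p) (Nat.mul (nat_lit 10) g)) (nat_lit 15)
noncomputable def nu5ru (g p : Nat) : Nat := Nat.land (Nat.shiftRight (nu5ur p) (Nat.add (Nat.mul (nat_lit 10) g) (nat_lit 4))) (nat_lit 63)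
noncomputable def nu5tg (p : Nat) : Nat := Nat.land (Nat.shiftRight (nu5ur p) (nat_lit 60)) (nat_lit 7)
noncomputable def nu5dp (p : Nat) : Nat := Nat.shiftRight (nu5ur p) (nat_lit 63)
noncomputable def nu5rules : BT Rule := (.node (.node (.node (.node (.node (.node (.leaf (.cyc (nat_lit 0) [(nat_lit 2), (nat_lit 0), (nat_lit 2)] (nat_lit 1) (nat_lit 3))) (.leaf (.cyc (nat_lit 5) [(nat_lit 4), (nat_lit 5), (nat_lit 4)] (nat_lit 14) (nat_lit 2)))) (.node (.leaf (.pin (nat_lit 2) (nat_lit 0) [] [] (nat_lit 0) (nat_lit 2))) (.leaf (.cyc (nat_lit 0) [(nat_lit 2), (nat_lit 0), (nat_lit 2)] (nat_lit 1) (nat_lit 3))))) (.node (.node (.leaf (.cyc (nat_lit 4) [(nat_lit 5), (nat_lit 4), (nat_lit 5)] (nat_lit 14) (nat_lit 3))) (.leaf (.cyc (nat_lit 0) [(nat_lit 2), (nat_lit 0), (nat_lit 2)] (nat_lit 1) (nat_lit 3)))) (.node (.leaf (.cyc (nat_lit 1) [(nat_lit 2), (nat_lit 1), (nat_lit 2), (nat_lit 1),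 (nat_lit 2)] (nat_lit 5) (nat_lit 4))) (.leaf (.cyc (nat_lit 0) [(nat_lit 2), (nat_lit 0), (nat_lit 2)] (nat_lit 1) (nat_lit 3)))))) (.node (.node (.node (.leaf (.cyc (nat_lit 3) [(nat_lit 5), (nat_lit 3), (nat_lit 5)] (nat_lit 13) (nat_lit 3))) (.leaf (.cyc (nat_lit 4) [(nat_lit 3), (nat_lit 4), (nat_lit 3), (nat_lit 4), (nat_lit 3)] (nat_lit 12) (nat_lit 3)))) (.node (.leaf (.cyc (nat_lit 5) [(nat_lit 1), (nat_lit 5), (nat_lit 1), (nat_lit 5), (nat_lit 1)] (nat_lit 8) (nat_lit 3))) (.leaf (.cyc (nat_lit 0) [(nat_lit 2), (nat_lit 0), (nat_lit 2)] (nat_lit 1) (nat_lit 3))))) (.node (.node (.leaf (.cyc (nat_lit 4) [(nat_lit 0), (nat_lit 4), (nat_lit 0)] (nat_lit 3) (nat_lit 2))) (.leaf (.cyc (nat_lit 0) [(nat_lit 2), (nat_lit 0), (nat_lit 2)] (nat_lit 1) (nat_lit 3)))) (.node (.leaf (.cyc (nat_lit 2) [(nat_lit 3), (nat_lit 2), (nat_lit 3), (nat_lit 2), (nat_lit 3)] (nat_lit 9) (nat_lit 4)))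 (.leaf (.cyc (nat_lit 0) [(nat_lit 2), (nat_lit 0), (nat_lit 2)] (nat_lit 1) (nat_lit 3))))))) (.node (.node (.node (.node (.leaf (.cyc (nat_lit 1) [(nat_lit 3), (nat_lit 1), (nat_lit 3)] (nat_lit 6) (nat_lit 3))) (.leaf (.cyc (nat_lit 1) [(nat_lit 4), (nat_lit 1), (nat_lit 4)] (nat_lit 7) (nat_lit 3)))) (.node (.leaf (.pin (nat_lit 4) (nat_lit 0) [] [] (nat_lit 0) (nat_lit 4))) (.leaf (.cyc (nat_lit 0) [(nat_lit 2), (nat_lit 0), (nat_lit 2)] (nat_lit 1) (nat_lit 3))))) (.node (.node (.leaf (.cyc (nat_lit 4) [(nat_lit 1), (nat_lit 4), (nat_lit 1)] (nat_lit 7) (nat_lit 2))) (.leaf (.cyc (nat_lit 0) [(nat_lit 2), (nat_lit 0), (nat_lit 2)] (nat_lit 1) (nat_lit 3)))) (.node (.leaf (.cyc (nat_lit 5) [(nat_lit 3), (nat_lit 5), (nat_lit 3)] (nat_lit 13) (nat_lit 2))) (.leaf (.cyc (nat_lit 0) [(nat_lit 2), (nat_lit 0), (nat_lit 2)] (nat_lit 1) (nat_lit 3)))))) (.node (.node (.node (.leaf (.cyc (nat_lit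 2) [(nat_lit 4), (nat_lit 2), (nat_lit 4)] (nat_lit 10) (nat_lit 3))) (.leaf (.cyc (nat_lit 2) [(nat_lit 0), (nat_lit 2), (nat_lit 0)] (nat_lit 1) (nat_lit 2)))) (.node (.leaf (.cyc (nat_lit 5) [(nat_lit 0), (nat_lit 5), (nat_lit 0)] (nat_lit 4) (nat_lit 2))) (.leaf (.cyc (nat_lit 0) [(nat_lit 2), (nat_lit 0), (nat_lit 2)] (nat_lit 1) (nat_lit 3))))) (.node (.node (.leaf (.pin (nat_lit 0) (nat_lit 0) [] [] (nat_lit 0) (nat_lit 0))) (.leaf (.cyc (nat_lit 0) [(nat_lit 2), (nat_lit 0), (nat_lit 2)] (nat_lit 1) (nat_lit 3)))) (.node (.leaf (.cyc (nat_lit 3) [(nat_lit 2), (nat_lit 3), (nat_lit 2), (nat_lit 3), (nat_lit 2)] (nat_lit 9) (nat_lit 3))) (.leaf (.cyc (nat_lit 0) [(nat_lit 2), (nat_lit 0), (nat_lit 2)] (nat_lit 1) (nat_lit 3)))))))) (.node (.node (.node (.node (.node (.leaf (.cyc (nat_lit 0) [(nat_lit 3), (nat_lit 0), (nat_lit 3)] (nat_lit 2) (nat_lit 1))) (.leaf (.cyc (nat_lit 0) [(nat_lit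 3), (nat_lit 0), (nat_lit 3)] (nat_lit 2) (nat_lit 3)))) (.node (.leaf (.pin (nat_lit 3) (nat_lit 0) [] [] (nat_lit 0) (nat_lit 3))) (.leaf (.cyc (nat_lit 0) [(nat_lit 2), (nat_lit 0), (nat_lit 2)] (nat_lit 1) (nat_lit 3))))) (.node (.node (.leaf (.cyc (nat_lit 2) [(nat_lit 5), (nat_lit 2), (nat_lit 5)] (nat_lit 11) (nat_lit 1))) (.leaf (.cyc (nat_lit 0) [(nat_lit 2), (nat_lit 0), (nat_lit 2)] (nat_lit 1) (nat_lit 3)))) (.node (.leaf (.cyc (nat_lit 2) [(nat_lit 1), (nat_lit 2), (nat_lit 1), (nat_lit 2), (nat_lit 1)] (nat_lit 5) (nat_lit 3))) (.leaf (.cyc (nat_lit 0) [(nat_lit 2), (nat_lit 0), (nat_lit 2)] (nat_lit 1) (nat_lit 3)))))) (.node (.node (.node (.leaf (.cyc (nat_lit 1) [(nat_lit 4), (nat_lit 1), (nat_lit 4)] (nat_lit 7) (nat_lit 1))) (.leaf (.cyc (nat_lit 0) [(nat_lit 4), (nat_lit 0), (nat_lit 4)] (nat_lit 3) (nat_lit 3)))) (.node (.leaf (.cyc (nat_lit 1) [(nat_lit 0), (nat_lit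 1), (nat_lit 0), (nat_lit 1), (nat_lit 0)] (nat_lit 0) (nat_lit 3))) (.leaf (.cyc (nat_lit 0) [(nat_lit 2), (nat_lit 0), (nat_lit 2)] (nat_lit 1) (nat_lit 3))))) (.node (.node (.leaf (.cyc (nat_lit 3) [(nat_lit 0), (nat_lit 3), (nat_lit 0)] (nat_lit 2) (nat_lit 2))) (.leaf (.cyc (nat_lit 0) [(nat_lit 2), (nat_lit 0), (nat_lit 2)] (nat_lit 1) (nat_lit 3)))) (.node (.leaf (.cyc (nat_lit 4) [(nat_lit 2), (nat_lit 4), (nat_lit 2)] (nat_lit 10) (nat_lit 2))) (.leaf (.cyc (nat_lit 0) [(nat_lit 2), (nat_lit 0), (nat_lit 2)] (nat_lit 1) (nat_lit 3))))))) (.node (.node (.node (.node (.leaf (.cyc (nat_lit 0) [(nat_lit 4), (nat_lit 0), (nat_lit 4)] (nat_lit 3) (nat_lit 1))) (.leaf (.cyc (nat_lit 3) [(nat_lit 4), (nat_lit 3), (nat_lit 4), (nat_lit 3), (nat_lit 4)] (nat_lit 12) (nat_lit 4)))) (.node (.leaf (.cyc (nat_lit 0) [(nat_lit 5), (nat_lit 0), (nat_lit 5)] (nat_lit 4) (nat_lit 3))) (.leaf (.cyc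 (nat_lit 0) [(nat_lit 2), (nat_lit 0), (nat_lit 2)] (nat_lit 1) (nat_lit 3))))) (.node (.node (.leaf (.cyc (nat_lit 3) [(nat_lit 1), (nat_lit 3), (nat_lit 1)] (nat_lit 6) (nat_lit 2))) (.leaf (.cyc (nat_lit 0) [(nat_lit 2), (nat_lit 0), (nat_lit 2)] (nat_lit 1) (nat_lit 3)))) (.node (.leaf (.cyc (nat_lit 0) [(nat_lit 1), (nat_lit 0), (nat_lit 1), (nat_lit 0), (nat_lit 1)] (nat_lit 0) (nat_lit 4))) (.leaf (.cyc (nat_lit 0) [(nat_lit 2), (nat_lit 0), (nat_lit 2)] (nat_lit 1) (nat_lit 3)))))) (.node (.node (.node (.leaf (.cyc (nat_lit 2) [(nat_lit 5), (nat_lit 2), (nat_lit 5)] (nat_lit 11) (nat_lit 3))) (.leaf (.cyc (nat_lit 0) [(nat_lit 2), (nat_lit 0), (nat_lit 2)] (nat_lit 1) (nat_lit 3)))) (.node (.leaf (.cyc (nat_lit 5) [(nat_lit 2), (nat_lit 5), (nat_lit 2)] (nat_lit 11) (nat_lit 2))) (.leaf (.cyc (nat_lit 0) [(nat_lit 2), (nat_lit 0), (nat_lit 2)] (nat_lit 1) (nat_lit 3))))) (.node (.node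 (.leaf (.pin (nat_lit 1) (nat_lit 0) [] [] (nat_lit 0) (nat_lit 1))) (.leaf (.cyc (nat_lit 0) [(nat_lit 2), (nat_lit 0), (nat_lit 2)] (nat_lit 1) (nat_lit 3)))) (.node (.leaf (.cyc (nat_lit 1) [(nat_lit 5), (nat_lit 1), (nat_lit 5), (nat_lit 1), (nat_lit 5)] (nat_lit 8) (nat_lit 4))) (.leaf (.cyc (nat_lit 0) [(nat_lit 2), (nat_lit 0), (nat_lit 2)] (nat_lit 1) (nat_lit 3)))))))))
def nu5qs : List (Nat × List Nat × Nat) := [(0, [1, 0], 1), (0, [2], 0), (0, [3], 0), (0, [4], 0), (0, [5], 0), (1, [2, 1], 2), (1, [3], 1), (1, [4], 1), (1, [5, 1], 5), (2, [3, 2], 3), (2, [4], 2), (2, [5], 2), (3, [4, 3], 4), (3, [5], 3), (4, [5], 4)]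
def nu5rels : List (List Nat) := nu5qs.map qword ++ []
noncomputable def nu5 : Cert := ⟨(nat_lit 32), (nat_lit 6), nu5act, fun g => g, nu5tg, nu5dp, nu5rk, nu5ru, nu5rules, nu5rels, [(0, [0], 0), (0, [1], 0), (0, [2], 0), (0, [3], 0), (0, [4], 0)]⟩
theorem nu5_c_0 : rng (nu5.chk) 0 32 0 = true := by decide +kernel
theorem nu5_c : ∀ p < 32, nu5.chk p = true := by
  intro p hp
  exact rng_spec nu5_c_0 p (by omega) hp
noncomputable def nu4at : BT Nat := (.leaf (nat_lit 0x2db6491d6d468b482249000))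
noncomputable def nu4ar (p : Nat) : Nat :=
  Nat.land (Nat.shiftRight (frc (Nat.shiftRight p (nat_lit 5)) (BT.sel nu4at)) (Nat.mul (nat_lit 15) (Nat.land p (nat_lit 31)))) (nat_lit 0x7fff)
noncomputable def nu4act (g p : Nat) : Nat := Nat.land (Nat.shiftRight (nu4ar p) (Nat.mul (nat_lit 3) g)) (nat_lit 7)
noncomputable def nu4ut : BT Nat := (.leaf (nat_lit 0xa2b69676542618c847c090069ad8c2401d134a09005b5330240108e8c800028201810))
noncomputable def nu4ur (p : Nat) : Nat :=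
  Nat.land (Nat.shiftRight (frc (Nat.shiftRight p (nat_lit 5)) (BT.sel nu4ut)) (Nat.mul (nat_lit 46) (Nat.land p (nat_lit 31)))) (nat_lit 0x3fffffffffff)
noncomputable def nu4rk (g p : Nat) : Nat := Nat.land (Nat.shiftRight (nu4ur p) (Nat.mul (nat_lit 8) g)) (nat_lit 7)
noncomputable def nu4ru (g p : Nat) : Nat := Nat.land (Nat.shiftRight (nu4ur p) (Nat.add (Nat.mul (nat_lit 8) g) (nat_lit 3))) (nat_lit 31)
noncomputable def nu4tg (p : Nat) : Nat := Nat.land (Nat.shiftRight (nu4ur p) (nat_lit 40)) (nat_lit 7)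
noncomputable def nu4dp (p : Nat) : Nat := Nat.shiftRight (nu4ur p) (nat_lit 43)
noncomputable def nu4rules : BT Rule := (.node (.node (.node (.node (.node (.leaf (.pin (nat_lit 0) (nat_lit 0) [] [] (nat_lit 0) (nat_lit 0))) (.leaf (.cyc (nat_lit 1) [(nat_lit 0), (nat_lit 1), (nat_lit 0), (nat_lit 1), (nat_lit 0)] (nat_lit 0) (nat_lit 3)))) (.node (.leaf (.cyc (nat_lit 0) [(nat_lit 3), (nat_lit 0), (nat_lit 3)] (nat_lit 2) (nat_lit 3))) (.leaf (.pin (nat_lit 0) (nat_lit 0) [] [] (nat_lit 0) (nat_lit 0))))) (.node (.node (.leaf (.cyc (nat_lit 0) [(nat_lit 4), (nat_lit 0), (nat_lit 4)] (nat_lit 3) (nat_lit 3))) (.leaf (.pin (nat_lit 0) (nat_lit 0) [] [] (nat_lit 0) (nat_lit 0)))) (.node (.leaf (.cyc (nat_lit 0) [(nat_lit 2), (nat_lit 0), (nat_lit 2)] (nat_lit 1) (nat_lit 3))) (.leaf (.pin (nat_lit 0) (nat_lit 0) [] [] (nat_lit 0) (nat_lit 0)))))) (.node (.node (.node (.leaf (.pin (nat_lit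 2) (nat_lit 0) [] [] (nat_lit 0) (nat_lit 2))) (.leaf (.cyc (nat_lit 3) [(nat_lit 0), (nat_lit 3), (nat_lit 0)] (nat_lit 2) (nat_lit 2)))) (.node (.leaf (.cyc (nat_lit 3) [(nat_lit 2), (nat_lit 3), (nat_lit 2), (nat_lit 3), (nat_lit 2)] (nat_lit 7) (nat_lit 3))) (.leaf (.pin (nat_lit 0) (nat_lit 0) [] [] (nat_lit 0) (nat_lit 0))))) (.node (.node (.leaf (.cyc (nat_lit 2) [(nat_lit 4), (nat_lit 2), (nat_lit 4)] (nat_lit 8) (nat_lit 3))) (.leaf (.pin (nat_lit 0) (nat_lit 0) [] [] (nat_lit 0) (nat_lit 0)))) (.node (.leaf (.cyc (nat_lit 3) [(nat_lit 1), (nat_lit 3), (nat_lit 1)] (nat_lit 5) (nat_lit 2))) (.leaf (.pin (nat_lit 0) (nat_lit 0) [] [] (nat_lit 0) (nat_lit 0))))))) (.node (.node (.node (.node (.leaf (.pin (nat_lit 1) (nat_lit 0) [] [] (nat_lit 0) (nat_lit 1))) (.leaf (.cyc (nat_lit 2) [(nat_lit 0), (nat_lit 2), (nat_lit 0)] (nat_lit 1) (nat_lit 2)))) (.node (.leaf (.cyc (nat_lit 1)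 [(nat_lit 3), (nat_lit 1), (nat_lit 3)] (nat_lit 5) (nat_lit 3))) (.leaf (.pin (nat_lit 0) (nat_lit 0) [] [] (nat_lit 0) (nat_lit 0))))) (.node (.node (.leaf (.cyc (nat_lit 1) [(nat_lit 4), (nat_lit 1), (nat_lit 4)] (nat_lit 6) (nat_lit 3))) (.leaf (.pin (nat_lit 0) (nat_lit 0) [] [] (nat_lit 0) (nat_lit 0)))) (.node (.leaf (.cyc (nat_lit 2) [(nat_lit 1), (nat_lit 2), (nat_lit 1), (nat_lit 2), (nat_lit 1)] (nat_lit 4) (nat_lit 3))) (.leaf (.pin (nat_lit 0) (nat_lit 0) [] [] (nat_lit 0) (nat_lit 0)))))) (.node (.node (.node (.leaf (.pin (nat_lit 3) (nat_lit 0) [] [] (nat_lit 0) (nat_lit 3))) (.leaf (.cyc (nat_lit 4) [(nat_lit 0), (nat_lit 4), (nat_lit 0)] (nat_lit 3) (nat_lit 2)))) (.node (.leaf (.cyc (nat_lit 4) [(nat_lit 2), (nat_lit 4), (nat_lit 2)] (nat_lit 8) (nat_lit 2))) (.leaf (.pin (nat_lit 0) (nat_lit 0) [] [] (nat_lit 0) (nat_lit 0))))) (.node (.node (.leaf (.cyc (nat_lit 4) [(nat_lit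 3), (nat_lit 4), (nat_lit 3), (nat_lit 4), (nat_lit 3)] (nat_lit 9) (nat_lit 3))) (.leaf (.pin (nat_lit 0) (nat_lit 0) [] [] (nat_lit 0) (nat_lit 0)))) (.node (.leaf (.cyc (nat_lit 4) [(nat_lit 1), (nat_lit 4), (nat_lit 1)] (nat_lit 6) (nat_lit 2))) (.leaf (.pin (nat_lit 0) (nat_lit 0) [] [] (nat_lit 0) (nat_lit 0))))))))
def nu4qs : List (Nat × List Nat × Nat) := [(0, [1, 0], 1), (0, [2], 0), (0, [3], 0), (0, [4], 0), (1, [2, 1], 2), (1, [3], 1), (1, [4], 1), (2, [3, 2], 3), (2, [4], 2), (3, [4, 3], 4)]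
def nu4rels : List (List Nat) := nu4qs.map qword ++ []
noncomputable def nu4 : Cert := ⟨(nat_lit 6), (nat_lit 5), nu4act, fun g => g, nu4tg, nu4dp, nu4rk, nu4ru, nu4rules, nu4rels, [(0, [0], 0), (0, [1], 0), (0, [2], 0), (0, [3], 0)]⟩
theorem nu4_c_0 : rng (nu4.chk) 0 6 0 = true := by decide +kernel
theorem nu4_c : ∀ p < 6, nu4.chk p = true := by
  intro p hp
  exact rng_spec nu4_c_0 p (by omega) hp
noncomputable def nu3at : BT Nat := (.leaf (nat_lit 0x9236d445a089200))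
noncomputable def nu3ar (p : Nat) : Nat :=
  Nat.land (Nat.shiftRight (frc (Nat.shiftRight p (nat_lit 5)) (BT.sel nu3at)) (Nat.mul (nat_lit 12) (Nat.land p (nat_lit 31)))) (nat_lit 0xfff)
noncomputable def nu3act (g p : Nat) : Nat := Nat.land (Nat.shiftRight (nu3ar p) (Nat.mul (nat_lit 3) g)) (nat_lit 7)
noncomputable def nu3ut : BT Nat := (.leaf (nat_lit 0x10d992e096d39624029d09010ce240325400080c10))
noncomputable def nu3ur (p : Nat) : Nat :=
  Nat.land (Nat.shiftRight (frc (Nat.shiftRight p (nat_lit 5)) (BT.sel nu3ut)) (Nat.mul (nat_lit 33) (Nat.land p (nat_lit 31)))) (nat_lit 0x1ffffffff)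
noncomputable def nu3rk (g p : Nat) : Nat := Nat.land (Nat.shiftRight (nu3ur p) (Nat.mul (nat_lit 7) g)) (nat_lit 7)
noncomputable def nu3ru (g p : Nat) : Nat := Nat.land (Nat.shiftRight (nu3ur p) (Nat.add (Nat.mul (nat_lit 7) g) (nat_lit 3))) (nat_lit 15)
noncomputable def nu3tg (p : Nat) : Nat := Nat.land (Nat.shiftRight (nu3ur p) (nat_lit 28)) (nat_lit 3)
noncomputable def nu3dp (p : Nat) : Nat := Nat.shiftRight (nu3ur p) (nat_lit 30)
noncomputable def nu3rules : BT Rule := (.node (.node (.node (.node (.leaf (.pin (nat_lit 0) (nat_lit 0) [] [] (nat_lit 0) (nat_lit 0))) (.leaf (.cyc (nat_lit 3) [(nat_lit 1), (nat_lit 3), (nat_lit 1)] (nat_lit 4) (nat_lit 2)))) (.node (.leaf (.cyc (nat_lit 1) [(nat_lit 3), (nat_lit 1), (nat_lit 3)] (nat_lit 4) (nat_lit 3))) (.leaf (.pin (nat_lit 0) (nat_lit 0) [] [] (nat_lit 0) (nat_lit 0))))) (.node (.node (.leaf (.pin (nat_lit 2) (nat_lit 0) [] [] (nat_lit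 0) (nat_lit 2))) (.leaf (.cyc (nat_lit 2) [(nat_lit 0), (nat_lit 2), (nat_lit 0)] (nat_lit 1) (nat_lit 2)))) (.node (.leaf (.cyc (nat_lit 0) [(nat_lit 2), (nat_lit 0), (nat_lit 2)] (nat_lit 1) (nat_lit 3))) (.leaf (.pin (nat_lit 0) (nat_lit 0) [] [] (nat_lit 0) (nat_lit 0)))))) (.node (.node (.node (.leaf (.pin (nat_lit 1) (nat_lit 0) [] [] (nat_lit 0) (nat_lit 1))) (.leaf (.cyc (nat_lit 1) [(nat_lit 0), (nat_lit 1), (nat_lit 0), (nat_lit 1), (nat_lit 0)] (nat_lit 0) (nat_lit 3)))) (.node (.leaf (.cyc (nat_lit 3) [(nat_lit 2), (nat_lit 3), (nat_lit 2), (nat_lit 3), (nat_lit 2)] (nat_lit 5) (nat_lit 3))) (.leaf (.pin (nat_lit 0) (nat_lit 0) [] [] (nat_lit 0) (nat_lit 0))))) (.node (.node (.leaf (.cyc (nat_lit 0) [(nat_lit 3), (nat_lit 0), (nat_lit 3)] (nat_lit 2) (nat_lit 3))) (.leaf (.cyc (nat_lit 3) [(nat_lit 0), (nat_lit 3), (nat_lit 0)] (nat_lit 2) (nat_lit 2)))) (.node (.leaf (.cyc (nat_lit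 2) [(nat_lit 1), (nat_lit 2), (nat_lit 1), (nat_lit 2), (nat_lit 1)] (nat_lit 3) (nat_lit 3))) (.leaf (.pin (nat_lit 0) (nat_lit 0) [] [] (nat_lit 0) (nat_lit 0)))))))
def nu3qs : List (Nat × List Nat × Nat) := [(0, [1, 0], 1), (0, [2], 0), (0, [3], 0), (1, [2, 1], 2), (1, [3], 1), (2, [3, 2], 3)]
def nu3rels : List (List Nat) := nu3qs.map qword ++ []
noncomputable def nu3 : Cert := ⟨(nat_lit 5), (nat_lit 4), nu3act, fun g => g, nu3tg, nu3dp, nu3rk, nu3ru, nu3rules, nu3rels, [(0, [0], 0), (0, [1], 0), (0, [2], 0)]⟩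
theorem nu3_c_0 : rng (nu3.chk) 0 5 0 = true := by decide +kernel
theorem nu3_c : ∀ p < 5, nu3.chk p = true := by
  intro p hp
  exact rng_spec nu3_c_0 p (by omega) hp
noncomputable def nu2at : BT Nat := (.leaf (nat_lit 0xfa7250))
noncomputable def nu2ar (p : Nat) : Nat :=
  Nat.land (Nat.shiftRight (frc (Nat.shiftRight p (nat_lit 5)) (BT.sel nu2at)) (Nat.mul (nat_lit 6) (Nat.land p (nat_lit 31)))) (nat_lit 0x3f)
noncomputable def nu2act (g p : Nat) : Nat := Nat.land (Nat.shiftRight (nu2ar p) (Nat.mul (nat_lit 2) g)) (nat_lit 3)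
noncomputable def nu2ut : BT Nat := (.leaf (nat_lit 0xcfecb362818a0900188))
noncomputable def nu2ur (p : Nat) : Nat :=
  Nat.land (Nat.shiftRight (frc (Nat.shiftRight p (nat_lit 5)) (BT.sel nu2ut)) (Nat.mul (nat_lit 19) (Nat.land p (nat_lit 31)))) (nat_lit 0x7ffff)
noncomputable def nu2rk (g p : Nat) : Nat := Nat.land (Nat.shiftRight (nu2ur p) (Nat.mul (nat_lit 5) g)) (nat_lit 3)
noncomputable def nu2ru (g p : Nat) : Nat := Nat.land (Nat.shiftRight (nu2ur p) (Nat.add (Nat.mul (nat_lit 5) g) (nat_lit 2))) (nat_lit 7)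
noncomputable def nu2tg (p : Nat) : Nat := Nat.land (Nat.shiftRight (nu2ur p) (nat_lit 15)) (nat_lit 3)
noncomputable def nu2dp (p : Nat) : Nat := Nat.shiftRight (nu2ur p) (nat_lit 17)
noncomputable def nu2rules : BT Rule := (.node (.node (.node (.leaf (.pin (nat_lit 0) (nat_lit 0) [] [] (nat_lit 0) (nat_lit 0))) (.leaf (.cyc (nat_lit 1) [(nat_lit 0), (nat_lit 1), (nat_lit 0), (nat_lit 1), (nat_lit 0)] (nat_lit 0) (nat_lit 3)))) (.node (.leaf (.cyc (nat_lit 0) [(nat_lit 2), (nat_lit 0), (nat_lit 2)] (nat_lit 1) (nat_lit 3))) (.leaf (.pin (nat_lit 0) (nat_lit 0) [] [] (nat_lit 0) (nat_lit 0))))) (.node (.node (.leaf (.pin (nat_lit 1) (nat_lit 0) [] [] (nat_lit 0) (nat_lit 1))) (.leaf (.cyc (nat_lit 2) [(nat_lit 0), (nat_lit 2), (nat_lit 0)] (nat_lit 1) (nat_lit 2)))) (.node (.leaf (.cyc (nat_lit 2) [(nat_lit 1), (nat_lit 2), (nat_lit 1), (nat_lit 2), (nat_lit 1)] (nat_lit 2) (nat_lit 3)))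 (.leaf (.pin (nat_lit 0) (nat_lit 0) [] [] (nat_lit 0) (nat_lit 0))))))
def nu2qs : List (Nat × List Nat × Nat) := [(0, [1, 0], 1), (0, [2], 0), (1, [2, 1], 2)]
def nu2rels : List (List Nat) := nu2qs.map qword ++ []
noncomputable def nu2 : Cert := ⟨(nat_lit 4), (nat_lit 3), nu2act, fun g => g, nu2tg, nu2dp, nu2rk, nu2ru, nu2rules, nu2rels, [(0, [0], 0), (0, [1], 0)]⟩
theorem nu2_c_0 : rng (nu2.chk) 0 4 0 = true := by decide +kernel
theorem nu2_c : ∀ p < 4, nu2.chk p = true := by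
  intro p hp
  exact rng_spec nu2_c_0 p (by omega) hp
noncomputable def nu1at : BT Nat := (.leaf (nat_lit 0x924))
noncomputable def nu1ar (p : Nat) : Nat :=
  Nat.land (Nat.shiftRight (frc (Nat.shiftRight p (nat_lit 5)) (BT.sel nu1at)) (Nat.mul (nat_lit 4) (Nat.land p (nat_lit 31)))) (nat_lit 0xf)
noncomputable def nu1act (g p : Nat) : Nat := Nat.land (Nat.shiftRight (nu1ar p) (Nat.mul (nat_lit 2) g)) (nat_lit 3)
noncomputable def nu1ut : BT Nat := (.leaf (nat_lit 0x1395a8008))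
noncomputable def nu1ur (p : Nat) : Nat :=
  Nat.land (Nat.shiftRight (frc (Nat.shiftRight p (nat_lit 5)) (BT.sel nu1ut)) (Nat.mul (nat_lit 11) (Nat.land p (nat_lit 31)))) (nat_lit 0x7ff)
noncomputable def nu1rk (g p : Nat) : Nat := Nat.land (Nat.shiftRight (nu1ur p) (Nat.mul (nat_lit 4) g)) (nat_lit 3)
noncomputable def nu1ru (g p : Nat) : Nat := Nat.land (Nat.shiftRight (nu1ur p) (Nat.add (Nat.mul (nat_lit 4) g) (nat_lit 2))) (nat_lit 3)
noncomputable def nu1tg (p : Nat) : Nat := Nat.land (Nat.shiftRight (nu1ur p) (nat_lit 8)) (nat_lit 1)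
noncomputable def nu1dp (p : Nat) : Nat := Nat.shiftRight (nu1ur p) (nat_lit 9)
noncomputable def nu1rules : BT Rule := (.node (.leaf (.pin (nat_lit 0) (nat_lit 0) [] [] (nat_lit 0) (nat_lit 0))) (.leaf (.cyc (nat_lit 1) [(nat_lit 0), (nat_lit 1), (nat_lit 0), (nat_lit 1), (nat_lit 0)] (nat_lit 0) (nat_lit 3))))
def nu1qs : List (Nat × List Nat × Nat) := [(0, [1, 0], 1)]
def nu1rels : List (List Nat) := nu1qs.map qword ++ []
noncomputable def nu1 : Cert := ⟨(nat_lit 3), (nat_lit 2), nu1act, fun g => g, nu1tg, nu1dp, nu1rk, nu1ru, nu1rules, nu1rels, [(0, [0], 0)]⟩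
theorem nu1_c_0 : rng (nu1.chk) 0 3 0 = true := by decide +kernel
theorem nu1_c : ∀ p < 3, nu1.chk p = true := by
  intro p hp
  exact rng_spec nu1_c_0 p (by omega) hp
def baerW : List (Nat × List Nat) := [(0, []), (2, []), (4, []), (5, []), (0, [1, 2, 5, 1]), (0, [1, 2, 3, 4, 5, 1, 2, 3]), (0, [1, 2, 3, 4, 5, 1, 2, 3, 6, 5, 1, 0, 2, 1, 5, 6])]
end CA.Cov

theorem CA.realizeEqns_Cov_NuK : True := by
  have := @CA.Cov.nu5rules.eq_1
  have := @CA.Cov.nu5rules.eq_def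
  have := @CA.Cov.nu5rules.congr_simp
  have := @CA.Cov.nu3rk.eq_1
  have := @CA.Cov.nu3rk.eq_def
  have := @CA.Cov.nu3rk.congr_simp
  have := @CA.Cov.nu2.eq_1
  have := @CA.Cov.nu2.eq_def
  have := @CA.Cov.nu2.congr_simp
  have := @CA.Cov.nu3tg.eq_1
  have := @CA.Cov.nu3tg.eq_def
  have := @CA.Cov.nu3tg.congr_simp
  have := @CA.Cov.nu6ru.eq_1
  have := @CA.Cov.nu6ru.eq_def
  have := @CA.Cov.nu6ru.congr_simp
  have := @CA.Cov.nu2tg.eq_1
  have := @CA.Cov.nu2tg.eq_def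
  have := @CA.Cov.nu2tg.congr_simp
  have := @CA.Cov.nu6rels.eq_1
  have := @CA.Cov.nu6rels.eq_def
  have := @CA.Cov.nu6rels.congr_simp
  have := @CA.Cov.nu6tg.eq_1
  have := @CA.Cov.nu6tg.eq_def
  have := @CA.Cov.nu6tg.congr_simp
  have := @CA.Cov.nu6act.eq_1
  have := @CA.Cov.nu6act.eq_def
  have := @CA.Cov.nu6act.congr_simp
  have := @CA.Cov.nu5rk.eq_1
  have := @CA.Cov.nu5rk.eq_def
  have := @CA.Cov.nu5rk.congr_simp
  have := @CA.Cov.nu1ru.eq_1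
  have := @CA.Cov.nu1ru.eq_def
  have := @CA.Cov.nu1ru.congr_simp
  have := @CA.Cov.nu4ut.eq_1
  have := @CA.Cov.nu4ut.eq_def
  have := @CA.Cov.nu4ut.congr_simp
  have := @CA.Cov.nu5at.eq_1
  have := @CA.Cov.nu5at.eq_def
  have := @CA.Cov.nu5at.congr_simp
  have := @CA.Cov.nu1at.eq_1
  have := @CA.Cov.nu1at.eq_def
  have := @CA.Cov.nu1at.congr_simp
  have := @CA.Cov.nu6at.eq_1
  have := @CA.Cov.nu6at.eq_def
  have := @CA.Cov.nu6at.congr_simp
  have := @CA.Cov.nu4at.eq_1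
  have := @CA.Cov.nu4at.eq_def
  have := @CA.Cov.nu4at.congr_simp
  have := @CA.Cov.baerW.eq_1
  have := @CA.Cov.baerW.eq_def
  have := @CA.Cov.baerW.congr_simp
  have := @CA.Cov.nu2dp.eq_1
  have := @CA.Cov.nu2dp.eq_def
  have := @CA.Cov.nu2dp.congr_simp
  have := @CA.Cov.nu3rels.eq_1
  have := @CA.Cov.nu3rels.eq_def
  have := @CA.Cov.nu3rels.congr_simp
  have := @CA.Cov.nu6rk.eq_1
  have := @CA.Cov.nu6rk.eq_def
  have := @CA.Cov.nu6rk.congr_simp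
  have := @CA.Cov.nu2at.eq_1
  have := @CA.Cov.nu2at.eq_def
  have := @CA.Cov.nu2at.congr_simp
  have := @CA.Cov.nu5tg.eq_1
  have := @CA.Cov.nu5tg.eq_def
  have := @CA.Cov.nu5tg.congr_simp
  have := @CA.Cov.nu3at.eq_1
  have := @CA.Cov.nu3at.eq_def
  have := @CA.Cov.nu3at.congr_simp
  have := @CA.Cov.nu2qs.eq_1
  have := @CA.Cov.nu2qs.eq_def
  have := @CA.Cov.nu2qs.congr_simp
  have := @CA.Cov.nu3act.eq_1
  have := @CA.Cov.nu3act.eq_def
  have := @CA.Cov.nu3act.congr_simp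
  have := @CA.Cov.nu1.eq_1
  have := @CA.Cov.nu1.eq_def
  have := @CA.Cov.nu1.congr_simp
  have := @CA.Cov.nu6dp.eq_1
  have := @CA.Cov.nu6dp.eq_def
  have := @CA.Cov.nu6dp.congr_simp
  have := @CA.Cov.nu6qs.eq_1
  have := @CA.Cov.nu6qs.eq_def
  have := @CA.Cov.nu6qs.congr_simp
  have := @CA.Cov.nu3ru.eq_1
  have := @CA.Cov.nu3ru.eq_def
  have := @CA.Cov.nu3ru.congr_simp
  have := @CA.Cov.nu5ur.eq_1
  have := @CA.Cov.nu5ur.eq_def
  have := @CA.Cov.nu5ur.congr_simp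
  have := @CA.Cov.nu2ru.eq_1
  have := @CA.Cov.nu2ru.eq_def
  have := @CA.Cov.nu2ru.congr_simp
  have := @CA.Cov.nu1rules.eq_1
  have := @CA.Cov.nu1rules.eq_def
  have := @CA.Cov.nu1rules.congr_simp
  have := @CA.Cov.nu4rules.eq_1
  have := @CA.Cov.nu4rules.eq_def
  have := @CA.Cov.nu4rules.congr_simp
  have := @CA.Cov.nu4rels.eq_1
  have := @CA.Cov.nu4rels.eq_def
  have := @CA.Cov.nu4rels.congr_simp
  have := @CA.Cov.nu5act.eq_1
  have := @CA.Cov.nu5act.eq_def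
  have := @CA.Cov.nu5act.congr_simp
  have := @CA.Cov.nu1ur.eq_1
  have := @CA.Cov.nu1ur.eq_def
  have := @CA.Cov.nu1ur.congr_simp
  have := @CA.Cov.nu2rels.eq_1
  have := @CA.Cov.nu2rels.eq_def
  have := @CA.Cov.nu2rels.congr_simp
  have := @CA.Cov.nu1tg.eq_1
  have := @CA.Cov.nu1tg.eq_def
  have := @CA.Cov.nu1tg.congr_simp
  have := @CA.Cov.nu6ar.eq_1
  have := @CA.Cov.nu6ar.eq_def
  have := @CA.Cov.nu6ar.congr_simp
  have := @CA.Cov.nu3.eq_1
  have := @CA.Cov.nu3.eq_def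
  have := @CA.Cov.nu3.congr_simp
  have := @CA.Cov.nu5rels.eq_1
  have := @CA.Cov.nu5rels.eq_def
  have := @CA.Cov.nu5rels.congr_simp
  have := @CA.Cov.nu2ut.eq_1
  have := @CA.Cov.nu2ut.eq_def
  have := @CA.Cov.nu2ut.congr_simp
  have := @CA.Cov.nu6ur.eq_1
  have := @CA.Cov.nu6ur.eq_def
  have := @CA.Cov.nu6ur.congr_simp
  have := @CA.Cov.nu4qs.eq_1
  have := @CA.Cov.nu4qs.eq_def
  have := @CA.Cov.nu4qs.congr_simp
  have := @CA.Cov.nu1dp.eq_1
  have := @CA.Cov.nu1dp.eq_def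
  have := @CA.Cov.nu1dp.congr_simp
  have := @CA.Cov.nu1rels.eq_1
  have := @CA.Cov.nu1rels.eq_def
  have := @CA.Cov.nu1rels.congr_simp
  have := @CA.Cov.nu1ut.eq_1
  have := @CA.Cov.nu1ut.eq_def
  have := @CA.Cov.nu1ut.congr_simp
  have := @CA.Cov.nu4dp.eq_1
  have := @CA.Cov.nu4dp.eq_def
  have := @CA.Cov.nu4dp.congr_simp
  have := @CA.Cov.nu5ut.eq_1
  have := @CA.Cov.nu5ut.eq_def
  have := @CA.Cov.nu5ut.congr_simp
  have := @CA.Cov.nu5.eq_1
  have := @CA.Cov.nu5.eq_def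
  have := @CA.Cov.nu5.congr_simp
  have := @CA.Cov.nu4tg.eq_1
  have := @CA.Cov.nu4tg.eq_def
  have := @CA.Cov.nu4tg.congr_simp
  have := @CA.Cov.nu3ar.eq_1
  have := @CA.Cov.nu3ar.eq_def
  have := @CA.Cov.nu3ar.congr_simp
  have := @CA.Cov.nu3dp.eq_1
  have := @CA.Cov.nu3dp.eq_def
  have := @CA.Cov.nu3dp.congr_simp
  have := @CA.Cov.nu6rules.eq_1
  have := @CA.Cov.nu6rules.eq_def
  have := @CA.Cov.nu6rules.congr_simp
  have := @CA.Cov.nu1rk.eq_1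
  have := @CA.Cov.nu1rk.eq_def
  have := @CA.Cov.nu1rk.congr_simp
  have := @CA.Cov.nu5ru.eq_1
  have := @CA.Cov.nu5ru.eq_def
  have := @CA.Cov.nu5ru.congr_simp
  have := @CA.Cov.nu4ru.eq_1
  have := @CA.Cov.nu4ru.eq_def
  have := @CA.Cov.nu4ru.congr_simp
  have := @CA.Cov.nu4ur.eq_1
  have := @CA.Cov.nu4ur.eq_def
  have := @CA.Cov.nu4ur.congr_simp
  have := @CA.Cov.nu2rules.eq_1
  have := @CA.Cov.nu2rules.eq_def
  have := @CA.Cov.nu2rules.congr_simp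
  have := @CA.Cov.nu5ar.eq_1
  have := @CA.Cov.nu5ar.eq_def
  have := @CA.Cov.nu5ar.congr_simp
  have := @CA.Cov.nu3ut.eq_1
  have := @CA.Cov.nu3ut.eq_def
  have := @CA.Cov.nu3ut.congr_simp
  have := @CA.Cov.nu1act.eq_1
  have := @CA.Cov.nu1act.eq_def
  have := @CA.Cov.nu1act.congr_simp
  have := @CA.Cov.nu4act.eq_1
  have := @CA.Cov.nu4act.eq_def
  have := @CA.Cov.nu4act.congr_simp
  have := @CA.Cov.nu3rules.eq_1
  have := @CA.Cov.nu3rules.eq_def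
  have := @CA.Cov.nu3rules.congr_simp
  have := @CA.Cov.nu2ar.eq_1
  have := @CA.Cov.nu2ar.eq_def
  have := @CA.Cov.nu2ar.congr_simp
  have := @CA.Cov.nu5dp.eq_1
  have := @CA.Cov.nu5dp.eq_def
  have := @CA.Cov.nu5dp.congr_simp
  have := @CA.Cov.nu2act.eq_1
  have := @CA.Cov.nu2act.eq_def
  have := @CA.Cov.nu2act.congr_simp
  have := @CA.Cov.nu3ur.eq_1
  have := @CA.Cov.nu3ur.eq_def
  have := @CA.Cov.nu3ur.congr_simp
  have := @CA.Cov.nu3qs.eq_1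
  have := @CA.Cov.nu3qs.eq_def
  have := @CA.Cov.nu3qs.congr_simp
  have := @CA.Cov.nu4rk.eq_1
  have := @CA.Cov.nu4rk.eq_def
  have := @CA.Cov.nu4rk.congr_simp
  have := @CA.Cov.nu4.eq_1
  have := @CA.Cov.nu4.eq_def
  have := @CA.Cov.nu4.congr_simp
  have := @CA.Cov.nu5qs.eq_1
  have := @CA.Cov.nu5qs.eq_def
  have := @CA.Cov.nu5qs.congr_simp
  have := @CA.Cov.nu1qs.eq_1
  have := @CA.Cov.nu1qs.eq_def
  have := @CA.Cov.nu1qs.congr_simp
  have := @CA.Cov.nu4ar.eq_1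
  have := @CA.Cov.nu4ar.eq_def
  have := @CA.Cov.nu4ar.congr_simp
  have := @CA.Cov.nu1ar.eq_1
  have := @CA.Cov.nu1ar.eq_def
  have := @CA.Cov.nu1ar.congr_simp
  have := @CA.Cov.nu2ur.eq_1
  have := @CA.Cov.nu2ur.eq_def
  have := @CA.Cov.nu2ur.congr_simp
  have := @CA.Cov.nu2rk.eq_1
  have := @CA.Cov.nu2rk.eq_def
  have := @CA.Cov.nu2rk.congr_simp
  have := @CA.Cov.nu6.eq_1
  have := @CA.Cov.nu6.eq_def
  have := @CA.Cov.nu6.congr_simp
  have := @CA.Cov.nu6ut.eq_1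
  have := @CA.Cov.nu6ut.eq_def
  have := @CA.Cov.nu6ut.congr_simp
  trivial
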