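import Cfsg.Agent.Cov.Loc
import Cfsg.Agent.Fi.KU
set_option autoImplicit false
set_option maxRecDepth 100000
namespace CA.Cov
open CA.TC
noncomputable def bp22 (i : ℕ) : ℕ := fld (nat_lit 0xaa2a7a869ca66986e5a631caf2a0a16389c0cc2901c050100200000) (Nat.mul (nat_lit 10) i) (nat_lit 1023)
noncomputable def c22 (i : ℕ) : ℕ := fld (nat_lit 0xf53efcf7329655ebea972f0777c59b8010020040080100200400801) (Nat.mul (nat_lit 10) i) (nat_lit 1023)
noncomputable def gp22 (i : ℕ) : ℕ := fld (nat_lit 0x40600c03004010040300c01) (Nat.mul (nat_lit 10) i) (nat_lit 1023)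
noncomputable def gq22 (i : ℕ) : ℕ := fld (nat_lit 0x1401905815044108681714813) (Nat.mul (nat_lit 10) i) (nat_lit 1023)
noncomputable def P22 (j i : ℕ) : ℕ := fld (nat_lit 0x4c9d47c23333044aa02d2a86b382959ca115a8e67b9096b085188204b9f19427469968aa86c110e5081c994df08d5aa5b2862a0e410c20a56299c1cf5b1a79214228466201ee94d30ad14c3b628590a6184405b4860c0eaa32ae121f22cc69882958be70925a8599cc1286429c209c6aea41326956778d4261106081cf4c650a54ec52e68684a2190c0) (Nat.mul (nat_lit 5) (Nat.add (Nat.mul (nat_lit 22) j) i)) (nat_lit 31)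
noncomputable def tp22 (j i : ℕ) : ℕ := fld (nat_lit 0xa56329c1ee2142248cc76350a58132751f08cccc112a80b4aa1ace08ce92ac1ee0a0874b1421aca6680246a97011a6c8c8e84b8b41bea073d33942b43144188c8b6290d38271abe909242c209c831cab1a9a073d3594271520e4a302d198ab100c23ad502052c945a89d4af1d1c0925f1742953204d9b1641a8a138024699703aa289bc4c724752ca807ba514c295114c498c2d61d0b50046504f06adc37c4859d512651206ac26240ea9962910e4f6510ea80ea310505b5cc7d028accb21c520308e45416d78dd3096344259590081589b051e688b8cc7c8742a6a08ce8eac132230267a04a2b467582b49be309248309dc55090d6196051c4d3402448e54596b343d9170046534f00924c4cd688d0ae1d5e03a8cb1408190d356969143993782958ba704c823229e53990b609a0091a75c0c2a968e50df26450998271aca907b963699251290161c80a56299c1cf5b1a79214228466202b49ba304c968689ec31c612a88051c4b34081721f36b2341c8b5482b49a63073c2521a431298b41da05b4870c0c298e2f515c945192a8147110d05b6454c4239d58e451e06ac2224147ab28f321c92c472981ab0a89011a239b8e57c915626803a8cd140247a1d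15b2751a4b4902497d5d09c44c3068822ca71b5404c9d17c29550ce19948b4198d10081599b03aaa3a48454b91163e60205676c0c28b2695224f2d46ea00246897051e83aa4c593d1363a20925f3742b438d448942d4098b3004652cf0205e5751a3acd894464073d349423310ccda956441d81501ee94d30ad14c3b628590a618440308e1541ab92134232b31b8b1780ea304506ad2594c838d18f455c0119443c16d4a2550b2911bcb370271aa69073c880aa4c3986d28960308ed54024715f558e9164913481ee955309c4c312e856850a610e08ce8fac249595aa70ce6605022016d2283011aa8a24ec93c712ba605b4820c1478967230d2e6550fa01ab09c9030a88ac94c4b8732be207ba544c2333a141ab08b188ad300815a9b011a85abce37259344a208ce89ac1cf68d62914c74118a08132755f09c4e55368359182404c051c41341ab7b1d5222912a4739013274df0ad04832e2c6846729140925f474233514eba8da1619041016d218303aa8cab8487c8b31a620a562f9c2496a1667304a190a708271aba904c9a559de3509844182073d31942953b14b9a1a128864302b49ca307b9ac5a928398a418820) (Nat.mul (nat_lit 5) (Nat.add (Nat.mul (nat_lit 22) j) i)) (nat_lit 31)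
noncomputable def mt22 (j i : ℕ) : ℕ := fld (nat_lit 0x66b1b2f446d29e2af4a1d7e58c92788cbbe208079c4239c8d5ced3aa16e1a2874258885ac9bb50cc02ab52992033e08d18024c88018283845ce5d363af5f252cf0c94404d11b24fc89f3090d0f4c9dc2a1ac4633582dd8a60a5aab10dc3b464bd68550111a13c701172a0480e00243035ed55293c90c982e69f15428899c7e48f914af5e261ea15ba1cc998c5aec5b014d9cb86e21a0762b96064e8c2203a6c196284008d12002826ae9bb848f933c7a55f9c2884d133c5d19b404089d2ce473b5a3592b18bd43458c448a5c9db3360194aa0a9511f0660c8208487871620001) (Nat.mul (nat_lit 7) (Nat.add (Nat.mul (nat_lit 64) j) i)) (nat_lit 127)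
def mA22 : ℕ := (nat_lit 0x800000100000000000000000000000000000000000002004000000000000040000000000000000000000008000000000000002000000000000000000000100020000000000000000000008000000000000004000000000000000000000010000000000000000100000000000000100800000000000010000000100010114)
def clA22 : ℕ × List ℕ × ℕ × ℕ := ((nat_lit 2), [nat_lit 32, nat_lit 35, nat_lit 36, nat_lit 37, nat_lit 41, nat_lit 1026, nat_lit 1027, nat_lit 1030, nat_lit 1031, nat_lit 1033, nat_lit 9617, nat_lit 9618, nat_lit 9620, nat_lit 9622, nat_lit 9624, nat_lit 70, nat_lit 71, nat_lit 73, nat_lit 6579, nat_lit 16114], mA22, (nat_lit 1))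
def mB22 : ℕ := (nat_lit 0x400000200000000000000000000000000000000000001008000000000000080000000000000000000000004000000000000001000000000000000000000200010000000000000000000004000000000000008000000000000000000000020000000000000000200000000000000200400000000000020000000200020228)
def clB22 : ℕ × List ℕ × ℕ × ℕ := ((nat_lit 3), [nat_lit 48, nat_lit 51, nat_lit 52, nat_lit 53, nat_lit 57, nat_lit 1042, nat_lit 1043, nat_lit 1046, nat_lit 1047, nat_lit 1049, nat_lit 9601, nat_lit 9602, nat_lit 9604, nat_lit 9606, nat_lit 9608, nat_lit 86, nat_lit 87, nat_lit 89, nat_lit 6563, nat_lit 16098], mB22, (nat_lit 1))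
def mC22 : ℕ := (nat_lit 0x8412288010418214200481180990400220048142421804208661200420041881410484210690100814820240802824810690100828028241200448214281011402289006481201801842042082082841418208101440600920044281482101141482024020044821411090091881011480282481428101141881011401149440)
def clC22 : ℕ × List ℕ × ℕ × ℕ := ((nat_lit 6), [nat_lit 96, nat_lit 97, nat_lit 98, nat_lit 99, nat_lit 102, nat_lit 103, nat_lit 105, nat_lit 1281, nat_lit 1282, nat_lit 1283, nat_lit 1286, nat_lit 1287, nat_lit 1288, nat_lit 1289, nat_lit 1058, nat_lit 1059, nat_lit 1062, nat_lit 1063, nat_lit 1065, nat_lit 2080, nat_lit 2083, nat_lit 2084, nat_lit 2088, nat_lit 1425, nat_lit 1426, nat_lit 1431, nat_lit 1432, nat_lit 1433, nat_lit 160, nat_lit 163, nat_lit 164, nat_lit 165, nat_lit 169, nat_lit 544, nat_lit 547, nat_lit 548, nat_lit 549, nat_lit 552, nat_lit 553, nat_lit 5905, nat_lit 5910, nat_lit 5911, nat_lit 5912, nat_lit 322, nat_lit 323, nat_lit 6328,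 nat_lit 241, nat_lit 249, nat_lit 4352, nat_lit 4355, nat_lit 4356, nat_lit 4360, nat_lit 4361, nat_lit 1648, nat_lit 1651, nat_lit 1652, nat_lit 1657, nat_lit 1394, nat_lit 1398, nat_lit 1399, nat_lit 4726, nat_lit 4727, nat_lit 4728, nat_lit 6544, nat_lit 6547, nat_lit 6548, nat_lit 6552, nat_lit 5810, nat_lit 5816, nat_lit 4131, nat_lit 4136, nat_lit 4137, nat_lit 1875, nat_lit 1881, nat_lit 966, nat_lit 967, nat_lit 4035, nat_lit 2609, nat_lit 2612, nat_lit 2616, nat_lit 8024, nat_lit 3040, nat_lit 3043, nat_lit 3044, nat_lit 3045, nat_lit 4440, nat_lit 6824, nat_lit 1505, nat_lit 1506, nat_lit 1510, nat_lit 1511, nat_lit 4840, nat_lit 1154, nat_lit 1155, nat_lit 1160, nat_lit 9489, nat_lit 9490, nat_lit 9492, nat_lit 9493, nat_lit 9495, nat_lit 9497, nat_lit 392, nat_lit 393, nat_lit 1539, nat_lit 10129, nat_lit 10134, nat_lit 10135, nat_lit 10136, nat_lit 10137, nat_lit 291, nat_lit 2568, nat_lit 1702, nat_lit 1703, nat_lit 1704,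 nat_lit 7443, nat_lit 7448, nat_lit 8083, nat_lit 9312, nat_lit 9313, nat_lit 9314, nat_lit 9316, nat_lit 9317, nat_lit 9318, nat_lit 9319, nat_lit 9321, nat_lit 11121, nat_lit 11124, nat_lit 11126, nat_lit 11127, nat_lit 5176, nat_lit 4163, nat_lit 4168, nat_lit 9172, nat_lit 9174, nat_lit 9175, nat_lit 9177, nat_lit 5128, nat_lit 8705, nat_lit 8706, nat_lit 8711, nat_lit 2488, nat_lit 13478, nat_lit 13479, nat_lit 13480, nat_lit 13481, nat_lit 7880, nat_lit 4528, nat_lit 4536, nat_lit 1091, nat_lit 7112, nat_lit 8560, nat_lit 8567, nat_lit 8569, nat_lit 2952, nat_lit 10576, nat_lit 10577, nat_lit 10579, nat_lit 10582, nat_lit 10583, nat_lit 10585, nat_lit 7288, nat_lit 9920, nat_lit 9921, nat_lit 9922, nat_lit 9924, nat_lit 9925, nat_lit 9929, nat_lit 13721, nat_lit 8225, nat_lit 8227, nat_lit 8229, nat_lit 7928, nat_lit 2803, nat_lit 2804, nat_lit 2805, nat_lit 2809, nat_lit 12256, nat_lit 12257, nat_lit 12265, nat_lit 3075, nat_lit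 3078, nat_lit 7010, nat_lit 7014, nat_lit 7015, nat_lit 6648, nat_lit 8784, nat_lit 8789, nat_lit 8791, nat_lit 10851, nat_lit 10853, nat_lit 5474, nat_lit 4576, nat_lit 13222, nat_lit 12018, nat_lit 12760, nat_lit 15141, nat_lit 641, nat_lit 10153, nat_lit 13152, nat_lit 5697, nat_lit 2755, nat_lit 2756, nat_lit 2757, nat_lit 1750, nat_lit 11937, nat_lit 11205, nat_lit 14563, nat_lit 15608, nat_lit 13635], mC22, (nat_lit 1))
def mD22 : ℕ := (nat_lit 0x4821144020824128100842240660800110084281812408104992100810082442820848120960200428410180401418420960200414014182100884128142022801146009842102402481081041041482824104202880900610088142841202282841018010088412822060062442022840141842814202282442022802286880)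
def clD22 : ℕ × List ℕ × ℕ × ℕ := ((nat_lit 7), [nat_lit 112, nat_lit 113, nat_lit 114, nat_lit 115, nat_lit 118, nat_lit 119, nat_lit 121, nat_lit 1297, nat_lit 1298, nat_lit 1299, nat_lit 1302, nat_lit 1303, nat_lit 1304, nat_lit 1305, nat_lit 1074, nat_lit 1075, nat_lit 1078, nat_lit 1079, nat_lit 1081, nat_lit 2096, nat_lit 2099, nat_lit 2100, nat_lit 2104, nat_lit 1409, nat_lit 1410, nat_lit 1415, nat_lit 1416, nat_lit 1417, nat_lit 176, nat_lit 179, nat_lit 180, nat_lit 181, nat_lit 185, nat_lit 560, nat_lit 563, nat_lit 564, nat_lit 565, nat_lit 568, nat_lit 569, nat_lit 5889, nat_lit 5894, nat_lit 5895, nat_lit 5896, nat_lit 338, nat_lit 339, nat_lit 6312, nat_lit 225, nat_lit 233, nat_lit 4368, nat_lit 4371, nat_lit 4372, nat_lit 4376, nat_lit 4377, nat_lit 1632, nat_lit 1635, nat_lit 1636, nat_lit 1641, nat_lit 1378, nat_lit 1382, nat_lit 1383, nat_lit 4710, nat_lit 4711, nat_lit 4712, nat_lit 6528, nat_lit 6531, nat_lit 6532,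 nat_lit 6536, nat_lit 5794, nat_lit 5800, nat_lit 4147, nat_lit 4152, nat_lit 4153, nat_lit 1859, nat_lit 1865, nat_lit 982, nat_lit 983, nat_lit 4051, nat_lit 2593, nat_lit 2596, nat_lit 2600, nat_lit 8008, nat_lit 3056, nat_lit 3059, nat_lit 3060, nat_lit 3061, nat_lit 4424, nat_lit 6840, nat_lit 1521, nat_lit 1522, nat_lit 1526, nat_lit 1527, nat_lit 4856, nat_lit 1170, nat_lit 1171, nat_lit 1176, nat_lit 9473, nat_lit 9474, nat_lit 9476, nat_lit 9477, nat_lit 9479, nat_lit 9481, nat_lit 408, nat_lit 409, nat_lit 1555, nat_lit 10113, nat_lit 10118, nat_lit 10119, nat_lit 10120, nat_lit 10121, nat_lit 307, nat_lit 2584, nat_lit 1718, nat_lit 1719, nat_lit 1720, nat_lit 7427, nat_lit 7432, nat_lit 8067, nat_lit 9328, nat_lit 9329, nat_lit 9330, nat_lit 9332, nat_lit 9333, nat_lit 9334, nat_lit 9335, nat_lit 9337, nat_lit 11105, nat_lit 11108, nat_lit 11110, nat_lit 11111, nat_lit 5160, nat_lit 4179, nat_lit 4184, nat_lit 9156, nat_lit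 9158, nat_lit 9159, nat_lit 9161, nat_lit 5144, nat_lit 8721, nat_lit 8722, nat_lit 8727, nat_lit 2472, nat_lit 13494, nat_lit 13495, nat_lit 13496, nat_lit 13497, nat_lit 7896, nat_lit 4512, nat_lit 4520, nat_lit 1107, nat_lit 7128, nat_lit 8544, nat_lit 8551, nat_lit 8553, nat_lit 2968, nat_lit 10560, nat_lit 10561, nat_lit 10563, nat_lit 10566, nat_lit 10567, nat_lit 10569, nat_lit 7272, nat_lit 9936, nat_lit 9937, nat_lit 9938, nat_lit 9940, nat_lit 9941, nat_lit 9945, nat_lit 13705, nat_lit 8241, nat_lit 8243, nat_lit 8245, nat_lit 7912, nat_lit 2787, nat_lit 2788, nat_lit 2789, nat_lit 2793, nat_lit 12272, nat_lit 12273, nat_lit 12281, nat_lit 3091, nat_lit 3094, nat_lit 7026, nat_lit 7030, nat_lit 7031, nat_lit 6632, nat_lit 8768, nat_lit 8773, nat_lit 8775, nat_lit 10867, nat_lit 10869, nat_lit 5490, nat_lit 4592, nat_lit 13238, nat_lit 12002, nat_lit 12744, nat_lit 15157, nat_lit 657, nat_lit 10169, nat_lit 13168, nat_lit 5713,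 nat_lit 2771, nat_lit 2772, nat_lit 2773, nat_lit 1734, nat_lit 11953, nat_lit 11221, nat_lit 14579, nat_lit 15592, nat_lit 13651], mD22, (nat_lit 1))
def mE22 : ℕ := (nat_lit 0x33cc033fcf0c3cc3cff33cc3f00f3ffccff33c3c3cc3f3cf0000cff3cff3c33c30f333ccf00fcff3c33cfc3f3f03c33cf00fcff3c0fc3c3ccff333cc3c3cfcc0fcc00ff033ccfc3fc33cf3cf30f3c33c3c3cf3cf033f0ff0cff33c3c33ccfcc0c33cfc3fcff333cc0ccf0ff0c33cfcc03f03c33c3c3cfcc0c33cfcc0fcc00000)
def clE22 : ℕ × List ℕ × ℕ × ℕ := ((nat_lit 22), [nat_lit 352, nat_lit 353, nat_lit 354, nat_lit 355, nat_lit 356, nat_lit 358, nat_lit 359, nat_lit 360, nat_lit 361, nat_lit 1346, nat_lit 1347, nat_lit 1350, nat_lit 1351, nat_lit 1352, nat_lit 1353, nat_lit 1314, nat_lit 1315, nat_lit 1318, nat_lit 1319, nat_lit 1320, nat_lit 1321, nat_lit 2336, nat_lit 2339, nat_lit 2340, nat_lit 2344, nat_lit 2345, nat_lit 13889, nat_lit 13890, nat_lit 13892, nat_lit 13894, nat_lit 13895, nat_lit 13896, nat_lit 13897, nat_lit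 1126, nat_lit 1128, nat_lit 1129, nat_lit 416, nat_lit 419, nat_lit 424, nat_lit 425, nat_lit 800, nat_lit 803, nat_lit 809, nat_lit 608, nat_lit 609, nat_lit 610, nat_lit 611, nat_lit 617, nat_lit 3750, nat_lit 3751, nat_lit 3752, nat_lit 4272, nat_lit 4275, nat_lit 4276, nat_lit 4280, nat_lit 8434, nat_lit 8438, nat_lit 8439, nat_lit 8440, nat_lit 8441, nat_lit 4480, nat_lit 4483, nat_lit 4484, nat_lit 4488, nat_lit 4489, nat_lit 1139, nat_lit 1140, nat_lit 1145, nat_lit 1330, nat_lit 1331, nat_lit 3430, nat_lit 3431, nat_lit 3432, nat_lit 6296, nat_lit 9574, nat_lit 9575, nat_lit 9577, nat_lit 4392, nat_lit 4393, nat_lit 1616, nat_lit 1624, nat_lit 1363, nat_lit 1369, nat_lit 6774, nat_lit 6775, nat_lit 6776, nat_lit 3971, nat_lit 3976, nat_lit 14817, nat_lit 14820, nat_lit 14824, nat_lit 7000, nat_lit 2528, nat_lit 2529, nat_lit 2530, nat_lit 2531, nat_lit 2532, nat_lit 2533, nat_lit 2534, nat_lit 2535, nat_lit 4504, nat_lit 11282,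 nat_lit 11286, nat_lit 11287, nat_lit 11288, nat_lit 16184, nat_lit 14007, nat_lit 14008, nat_lit 8816, nat_lit 8819, nat_lit 8820, nat_lit 8821, nat_lit 8824, nat_lit 8825, nat_lit 8640, nat_lit 8643, nat_lit 8644, nat_lit 8645, nat_lit 8648, nat_lit 8649, nat_lit 13872, nat_lit 13873, nat_lit 13874, nat_lit 13875, nat_lit 13877, nat_lit 13878, nat_lit 13879, nat_lit 13881, nat_lit 15254, nat_lit 15255, nat_lit 15256, nat_lit 4259, nat_lit 4264, nat_lit 1808, nat_lit 1810, nat_lit 1811, nat_lit 1814, nat_lit 1817, nat_lit 7382, nat_lit 7383, nat_lit 7384, nat_lit 1224, nat_lit 5832, nat_lit 672, nat_lit 673, nat_lit 675, nat_lit 676, nat_lit 677, nat_lit 678, nat_lit 681, nat_lit 4408, nat_lit 1608, nat_lit 5192, nat_lit 1794, nat_lit 1795, nat_lit 1798, nat_lit 1801, nat_lit 850, nat_lit 851, nat_lit 857, nat_lit 2208, nat_lit 2211, nat_lit 2212, nat_lit 1937, nat_lit 1938, nat_lit 1942, nat_lit 1943, nat_lit 1945, nat_lit 5393, nat_lit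 6755, nat_lit 6760, nat_lit 3987, nat_lit 3992, nat_lit 3344, nat_lit 3345, nat_lit 3347, nat_lit 3348, nat_lit 3349, nat_lit 3351, nat_lit 3353, nat_lit 13576, nat_lit 4312, nat_lit 8368, nat_lit 8369, nat_lit 8370, nat_lit 8371, nat_lit 8373, nat_lit 8374, nat_lit 8377, nat_lit 9032, nat_lit 15872, nat_lit 15875, nat_lit 15876, nat_lit 15877, nat_lit 15880, nat_lit 15881, nat_lit 14195, nat_lit 14196, nat_lit 14197, nat_lit 14200, nat_lit 4336, nat_lit 4337, nat_lit 4338, nat_lit 4339, nat_lit 4342, nat_lit 4343, nat_lit 4345, nat_lit 4291, nat_lit 4296, nat_lit 9044, nat_lit 9046, nat_lit 9047, nat_lit 9048, nat_lit 9049, nat_lit 5256, nat_lit 8832, nat_lit 8841, nat_lit 2360, nat_lit 13988, nat_lit 13991, nat_lit 13992, nat_lit 13993, nat_lit 7368, nat_lit 6275, nat_lit 9585, nat_lit 9591, nat_lit 1240, nat_lit 3792, nat_lit 3793, nat_lit 3794, nat_lit 3797, nat_lit 3798, nat_lit 3799, nat_lit 3801, nat_lit 11088, nat_lit 11089, nat_lit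 11091, nat_lit 11092, nat_lit 11093, nat_lit 11094, nat_lit 11095, nat_lit 11097, nat_lit 12115, nat_lit 12120, nat_lit 14611, nat_lit 14612, nat_lit 14376, nat_lit 8737, nat_lit 8738, nat_lit 8739, nat_lit 8741, nat_lit 8743, nat_lit 440, nat_lit 1572, nat_lit 1577, nat_lit 8417, nat_lit 6979, nat_lit 6984, nat_lit 10929, nat_lit 10930, nat_lit 10931, nat_lit 10933, nat_lit 10934, nat_lit 10935, nat_lit 10937, nat_lit 11736, nat_lit 3888, nat_lit 3889, nat_lit 3890, nat_lit 3891, nat_lit 3893, nat_lit 3894, nat_lit 11880, nat_lit 14624, nat_lit 14625, nat_lit 14626, nat_lit 14627, nat_lit 14628, nat_lit 14629, nat_lit 14631, nat_lit 14633, nat_lit 10384, nat_lit 10385, nat_lit 10386, nat_lit 10387, nat_lit 10388, nat_lit 10389, nat_lit 10390, nat_lit 10393, nat_lit 3585, nat_lit 3586, nat_lit 3216, nat_lit 3218, nat_lit 3222, nat_lit 3223, nat_lit 2912, nat_lit 2917, nat_lit 6498, nat_lit 6503, nat_lit 7158, nat_lit 7160, nat_lit 7190,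 nat_lit 7191, nat_lit 2980, nat_lit 8848, nat_lit 8849, nat_lit 8851, nat_lit 8852, nat_lit 8853, nat_lit 8857, nat_lit 11496, nat_lit 15011, nat_lit 15016, nat_lit 7329, nat_lit 7331, nat_lit 16256, nat_lit 16259, nat_lit 16260, nat_lit 16261, nat_lit 16262, nat_lit 16263, nat_lit 11252, nat_lit 14017, nat_lit 14018, nat_lit 14019, nat_lit 14023, nat_lit 14025, nat_lit 1985, nat_lit 1991, nat_lit 4464, nat_lit 4465, nat_lit 4466, nat_lit 4467, nat_lit 4468, nat_lit 4469, nat_lit 4471, nat_lit 4473, nat_lit 10312, nat_lit 12824, nat_lit 4888, nat_lit 14216, nat_lit 4801, nat_lit 4802, nat_lit 4803, nat_lit 4804, nat_lit 4805, nat_lit 4806, nat_lit 4809, nat_lit 15208, nat_lit 9697, nat_lit 9699, nat_lit 9702, nat_lit 10274, nat_lit 10275, nat_lit 10277, nat_lit 10279, nat_lit 14083, nat_lit 14084, nat_lit 14085, nat_lit 1249, nat_lit 1250, nat_lit 1253, nat_lit 1255, nat_lit 8310, nat_lit 8311, nat_lit 8896, nat_lit 8901, nat_lit 9203,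 nat_lit 9204, nat_lit 9209, nat_lit 11409, nat_lit 11415, nat_lit 11416, nat_lit 14419, nat_lit 14422, nat_lit 14423, nat_lit 14425, nat_lit 8352, nat_lit 8361, nat_lit 626, nat_lit 6176, nat_lit 6179, nat_lit 6180, nat_lit 738, nat_lit 743, nat_lit 6416, nat_lit 6419, nat_lit 6420, nat_lit 6421, nat_lit 4193, nat_lit 4200, nat_lit 5848, nat_lit 5208, nat_lit 11361, nat_lit 11365, nat_lit 11367, nat_lit 1968, nat_lit 1969, nat_lit 1972, nat_lit 1973, nat_lit 9909, nat_lit 9910, nat_lit 9911, nat_lit 1673, nat_lit 5968, nat_lit 5973, nat_lit 5974, nat_lit 5976, nat_lit 5977, nat_lit 710, nat_lit 711, nat_lit 2149, nat_lit 8753, nat_lit 8755, nat_lit 8757, nat_lit 1587, nat_lit 10041, nat_lit 758, nat_lit 760, nat_lit 761, nat_lit 6403, nat_lit 6404, nat_lit 2451, nat_lit 2737, nat_lit 2740, nat_lit 5671, nat_lit 6696, nat_lit 6480, nat_lit 6484, nat_lit 6485, nat_lit 6489, nat_lit 3616, nat_lit 3621, nat_lit 14391, nat_lit 14392, nat_lit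 10916, nat_lit 10921, nat_lit 11718, nat_lit 11720, nat_lit 3873, nat_lit 3874, nat_lit 3878, nat_lit 3879, nat_lit 2995, nat_lit 3001, nat_lit 6368, nat_lit 6371, nat_lit 12097, nat_lit 12100, nat_lit 12101, nat_lit 12105, nat_lit 6665, nat_lit 13681, nat_lit 13684, nat_lit 14145, nat_lit 14146, nat_lit 14150, nat_lit 16274, nat_lit 16275, nat_lit 16278, nat_lit 11072, nat_lit 11077, nat_lit 11081, nat_lit 9543, nat_lit 12983, nat_lit 13777, nat_lit 10632, nat_lit 9384, nat_lit 5942, nat_lit 13032, nat_lit 9304, nat_lit 13319, nat_lit 5521, nat_lit 5298, nat_lit 5303, nat_lit 1267, nat_lit 1269, nat_lit 1273, nat_lit 5001, nat_lit 1921, nat_lit 1927, nat_lit 8384, nat_lit 8385, nat_lit 8388, nat_lit 8389, nat_lit 8393, nat_lit 9126, nat_lit 14176, nat_lit 14180, nat_lit 14184, nat_lit 14185, nat_lit 4946, nat_lit 4951, nat_lit 10228, nat_lit 10229, nat_lit 2549, nat_lit 13911, nat_lit 11236, nat_lit 14033, nat_lit 14037, nat_lit 14041,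 nat_lit 11378, nat_lit 11381, nat_lit 11382, nat_lit 14592, nat_lit 14596, nat_lit 2161, nat_lit 2710, nat_lit 4960, nat_lit 8039, nat_lit 6872, nat_lit 5729, nat_lit 5736, nat_lit 15169, nat_lit 15171, nat_lit 13424, nat_lit 13429, nat_lit 13433, nat_lit 15543, nat_lit 13667, nat_lit 16019, nat_lit 16025, nat_lit 8169, nat_lit 15329, nat_lit 10482, nat_lit 10485, nat_lit 10709, nat_lit 10199, nat_lit 12326, nat_lit 12327, nat_lit 15657, nat_lit 10372, nat_lit 8534, nat_lit 8535, nat_lit 2277, nat_lit 2281, nat_lit 10503, nat_lit 13443, nat_lit 13748, nat_lit 12133, nat_lit 11976, nat_lit 14465, nat_lit 14473, nat_lit 9728, nat_lit 9734, nat_lit 11045, nat_lit 11049, nat_lit 16342, nat_lit 7249, nat_lit 15379, nat_lit 13561, nat_lit 1441, nat_lit 4788, nat_lit 12952, nat_lit 5218, nat_lit 5221, nat_lit 5016, nat_lit 7209, nat_lit 2297], mE22, (nat_lit 1))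
def ch022 : ℕ × List (List ℕ) × List ℕ := ((nat_lit 1), [[nat_lit 1], [nat_lit 0], [nat_lit 2], [nat_lit 3], [nat_lit 4], [nat_lit 5], [nat_lit 6], [nat_lit 7]], [nat_lit 0, nat_lit 129, nat_lit 130, nat_lit 133, nat_lit 18, nat_lit 21, nat_lit 259, nat_lit 261, nat_lit 278, nat_lit 144, nat_lit 147, nat_lit 149, nat_lit 160, nat_lit 166, nat_lit 420, nat_lit 421, nat_lit 423, nat_lit 432, nat_lit 438, nat_lit 455, nat_lit 35, nat_lit 292, nat_lit 293, nat_lit 295, nat_lit 310, nat_lit 86, nat_lit 327, nat_lit 613, nat_lit 615, nat_lit 624, nat_lit 630, nat_lit 631, nat_lit 646, nat_lit 662, nat_lit 679, nat_lit 691, nat_lit 178, nat_lit 180, nat_lit 183, nat_lit 469, nat_lit 471, nat_lit 486, nat_lit 487, nat_lit 502, nat_lit 519, nat_lit 229, nat_lit 231, nat_lit 531, nat_lit 880, nat_lit 886, nat_lit 887, nat_lit 899, nat_lit 902, nat_lit 914, nat_lit 918, nat_lit 919, nat_lit 935, nat_lit 950, nat_lit 965, nat_lit 981, nat_lit 983,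 nat_lit 995, nat_lit 1010, nat_lit 1012, nat_lit 52, nat_lit 55, nat_lit 343, nat_lit 358, nat_lit 710, nat_lit 711, nat_lit 723, nat_lit 726, nat_lit 743, nat_lit 758, nat_lit 773, nat_lit 787, nat_lit 103, nat_lit 403, nat_lit 802, nat_lit 804, nat_lit 1234, nat_lit 1238, nat_lit 1239, nat_lit 1255, nat_lit 1267, nat_lit 1270, nat_lit 1282, nat_lit 1286, nat_lit 1301, nat_lit 1318, nat_lit 1319, nat_lit 1333, nat_lit 1335, nat_lit 1350, nat_lit 1363, nat_lit 1366, nat_lit 1381, nat_lit 1392, nat_lit 1415, nat_lit 1427, nat_lit 1442, nat_lit 1444, nat_lit 1456, nat_lit 1460, nat_lit 195, nat_lit 199, nat_lit 211, nat_lit 214, nat_lit 547, nat_lit 550, nat_lit 565, nat_lit 1031, nat_lit 1043, nat_lit 1046, nat_lit 1058, nat_lit 1062, nat_lit 1077, nat_lit 1091, nat_lit 1094, nat_lit 1109, nat_lit 1120, nat_lit 1138, nat_lit 1140, nat_lit 596, nat_lit 1152, nat_lit 1156, nat_lit 1779, nat_lit 1782, nat_lit 1783, nat_lit 1797, nat_lit 1799,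 nat_lit 1811, nat_lit 1814, nat_lit 1827, nat_lit 1830, nat_lit 1842, nat_lit 1846, nat_lit 1861, nat_lit 1872, nat_lit 1878, nat_lit 1893, nat_lit 1895, nat_lit 1904, nat_lit 1925, nat_lit 1927, nat_lit 1939, nat_lit 1942, nat_lit 1959, nat_lit 1971, nat_lit 1974, nat_lit 1989, nat_lit 2002, nat_lit 2004, nat_lit 2006, nat_lit 2021, nat_lit 2032, nat_lit 2049, nat_lit 2050, nat_lit 2084, nat_lit 2096, nat_lit 2100, nat_lit 2129, nat_lit 2132, nat_lit 2133, nat_lit 2147, nat_lit 374, nat_lit 822, nat_lit 837, nat_lit 848, nat_lit 1491, nat_lit 1494, nat_lit 1506, nat_lit 1510, nat_lit 1525, nat_lit 1542, nat_lit 1557, nat_lit 1559, nat_lit 1568, nat_lit 1586, nat_lit 1588, nat_lit 1590, nat_lit 1605, nat_lit 1633, nat_lit 1652, nat_lit 1681, nat_lit 1684, nat_lit 1699, nat_lit 2502, nat_lit 2517, nat_lit 2519, nat_lit 2534, nat_lit 2551, nat_lit 2563, nat_lit 2566, nat_lit 2582, nat_lit 2597, nat_lit 2610, nat_lit 2612, nat_lit 2614, nat_lit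 2629, nat_lit 2646, nat_lit 2661, nat_lit 2663, nat_lit 2672, nat_lit 2694, nat_lit 2709, nat_lit 2711, nat_lit 2720, nat_lit 2727, nat_lit 2753, nat_lit 2754, nat_lit 2768, nat_lit 2775, nat_lit 2787, nat_lit 2790, nat_lit 2850, nat_lit 2852, nat_lit 2854, nat_lit 2880, nat_lit 2896, nat_lit 2900, nat_lit 2918, nat_lit 2944, nat_lit 2962, nat_lit 2978, nat_lit 2995, nat_lit 3028, nat_lit 3043, nat_lit 3060, nat_lit 3061, nat_lit 3075, nat_lit 3077, nat_lit 3111, nat_lit 1189, nat_lit 1191, nat_lit 1200, nat_lit 1217, nat_lit 2162, nat_lit 2164, nat_lit 2166, nat_lit 2181, nat_lit 2192, nat_lit 2198, nat_lit 2213, nat_lit 2215, nat_lit 2224, nat_lit 2245, nat_lit 2247, nat_lit 2256, nat_lit 2263, nat_lit 2289, nat_lit 2290, nat_lit 2387, nat_lit 2404, nat_lit 2419, nat_lit 2439, nat_lit 3445, nat_lit 3447, nat_lit 3456, nat_lit 3463, nat_lit 3475, nat_lit 3478, nat_lit 3507, nat_lit 3510, nat_lit 3522, nat_lit 3524, nat_lit 3526, nat_lit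 3541, nat_lit 3557, nat_lit 3559, nat_lit 3568, nat_lit 3584, nat_lit 3588, nat_lit 3590, nat_lit 3606, nat_lit 3621, nat_lit 3623, nat_lit 3632, nat_lit 3653, nat_lit 3655, nat_lit 3664, nat_lit 3671, nat_lit 3697, nat_lit 3698, nat_lit 3717, nat_lit 3719, nat_lit 3728, nat_lit 3735, nat_lit 3747, nat_lit 3761, nat_lit 3762, nat_lit 3767, nat_lit 3782, nat_lit 3794, nat_lit 3811, nat_lit 3825, nat_lit 3831, nat_lit 3843, nat_lit 3846, nat_lit 3888, nat_lit 3910, nat_lit 3937, nat_lit 3971, nat_lit 4052, nat_lit 4067, nat_lit 4087, nat_lit 4099, nat_lit 4101, nat_lit 4130, nat_lit 4133, nat_lit 4135, nat_lit 4166, nat_lit 1712, nat_lit 1719, nat_lit 1745, nat_lit 3120, nat_lit 3124, nat_lit 3126, nat_lit 3142, nat_lit 3157, nat_lit 3159, nat_lit 3205, nat_lit 3216, nat_lit 3223, nat_lit 3264, nat_lit 3271, nat_lit 3283, nat_lit 3297, nat_lit 3367, nat_lit 3379, nat_lit 4416, nat_lit 4423, nat_lit 4435, nat_lit 4449, nat_lit 4455, nat_lit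 4467, nat_lit 4470, nat_lit 4482, nat_lit 4484, nat_lit 4486, nat_lit 4514, nat_lit 4533, nat_lit 4544, nat_lit 4548, nat_lit 4550, nat_lit 4566, nat_lit 4581, nat_lit 4583, nat_lit 4592, nat_lit 4608, nat_lit 4615, nat_lit 4641, nat_lit 4657, nat_lit 4660, nat_lit 4661, nat_lit 4662, nat_lit 4675, nat_lit 4678, nat_lit 4693, nat_lit 4720, nat_lit 4768, nat_lit 4785, nat_lit 4786, nat_lit 4791, nat_lit 4835, nat_lit 4848, nat_lit 4855, nat_lit 4867, nat_lit 4881, nat_lit 4882, nat_lit 4887, nat_lit 4899, nat_lit 4902, nat_lit 4916, nat_lit 4930, nat_lit 4947, nat_lit 4951, nat_lit 4995, nat_lit 5012, nat_lit 5015, nat_lit 5170, nat_lit 5175, nat_lit 5202, nat_lit 5205, nat_lit 5237, nat_lit 5239, nat_lit 5255, nat_lit 4180, nat_lit 4181, nat_lit 4195, nat_lit 4198, nat_lit 4213, nat_lit 4295, nat_lit 5393, nat_lit 5394, nat_lit 5399, nat_lit 5411, nat_lit 5414, nat_lit 5426, nat_lit 5428, nat_lit 5459, nat_lit 5474, nat_lit 5476, nat_lit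 5478, nat_lit 5504, nat_lit 5508, nat_lit 5510, nat_lit 5552, nat_lit 5585, nat_lit 5588, nat_lit 5589, nat_lit 5590, nat_lit 5603, nat_lit 5606, nat_lit 5623, nat_lit 5639, nat_lit 5648, nat_lit 5655, nat_lit 5697, nat_lit 5698, nat_lit 5703, nat_lit 5718, nat_lit 5748, nat_lit 5749, nat_lit 5763, nat_lit 5765, nat_lit 5766, nat_lit 5782, nat_lit 5797, nat_lit 5858, nat_lit 5874, nat_lit 5890, nat_lit 5895, nat_lit 5907, nat_lit 5911, nat_lit 5943, nat_lit 5953, nat_lit 5954, nat_lit 5959, nat_lit 5971, nat_lit 5974, nat_lit 5986, nat_lit 5988, nat_lit 6002, nat_lit 6019, nat_lit 6023, nat_lit 6099, nat_lit 6116, nat_lit 6119, nat_lit 6131, nat_lit 6151, nat_lit 6167, nat_lit 6182, nat_lit 6199, nat_lit 6229, nat_lit 6256, nat_lit 6263, nat_lit 6275, nat_lit 6294, nat_lit 6306, nat_lit 6311, nat_lit 6327, nat_lit 6339, nat_lit 6342, nat_lit 6354, nat_lit 6356, nat_lit 6358, nat_lit 6384, nat_lit 6388, nat_lit 6418, nat_lit 6432, nat_lit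 6436, nat_lit 6438, nat_lit 6471, nat_lit 6481, nat_lit 6484, nat_lit 6485, nat_lit 6486, nat_lit 6529, nat_lit 6533, nat_lit 6548, nat_lit 6549, nat_lit 6563, nat_lit 6565, nat_lit 6566, nat_lit 6582, nat_lit 6597, nat_lit 6615, nat_lit 6631, nat_lit 6674, nat_lit 6679, nat_lit 6694, nat_lit 6706, nat_lit 6711, nat_lit 6727, nat_lit 6742, nat_lit 6773, nat_lit 6784, nat_lit 6790, nat_lit 6802, nat_lit 6805, nat_lit 6822, nat_lit 6853, nat_lit 6855, nat_lit 6899, nat_lit 6919, nat_lit 6951, nat_lit 6963, nat_lit 6982, nat_lit 6994, nat_lit 7011, nat_lit 7015, nat_lit 7030, nat_lit 7042, nat_lit 7046, nat_lit 7076, nat_lit 7107, nat_lit 7124, nat_lit 7127, nat_lit 7139, nat_lit 7159, nat_lit 7175, nat_lit 7187, nat_lit 7190, nat_lit 7204, nat_lit 7222, nat_lit 7238, nat_lit 7253, nat_lit 7267, nat_lit 7280, nat_lit 7303, nat_lit 7315, nat_lit 7318, nat_lit 7360, nat_lit 7367, nat_lit 7382, nat_lit 7395, nat_lit 7398, nat_lit 7410, nat_lit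 7414, nat_lit 7429, nat_lit 7440, nat_lit 7444, nat_lit 7446, nat_lit 7462, nat_lit 7479, nat_lit 7489, nat_lit 7492, nat_lit 7493, nat_lit 7507, nat_lit 7520, nat_lit 7537, nat_lit 7540, nat_lit 7541, nat_lit 7542, nat_lit 7575, nat_lit 7604, nat_lit 7605, nat_lit 7621, nat_lit 7638, nat_lit 7653, nat_lit 7669, nat_lit 7686, nat_lit 7699, nat_lit 7701, nat_lit 7712, nat_lit 7718, nat_lit 7730, nat_lit 7733, nat_lit 7735, nat_lit 7750, nat_lit 7765, nat_lit 7781, nat_lit 7783, nat_lit 7814, nat_lit 7827, nat_lit 7862, nat_lit 7895, nat_lit 7910, nat_lit 7923, nat_lit 7926, nat_lit 7941, nat_lit 7958, nat_lit 7970, nat_lit 7974, nat_lit 7991, nat_lit 8005, nat_lit 8039, nat_lit 8087, nat_lit 8099, nat_lit 8115, nat_lit 8118, nat_lit 8195, nat_lit 8198, nat_lit 8224, nat_lit 8230, nat_lit 8247, nat_lit 8259, nat_lit 8307, nat_lit 8310, nat_lit 8324, nat_lit 8342, nat_lit 8358, nat_lit 8372, nat_lit 8374, nat_lit 8389, nat_lit 8499, nat_lit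 8502, nat_lit 8518, nat_lit 8549, nat_lit 8551, nat_lit 8563, nat_lit 8566, nat_lit 8581, nat_lit 8594, nat_lit 8596, nat_lit 8598, nat_lit 8613, nat_lit 8624, nat_lit 8630, nat_lit 8673, nat_lit 8676, nat_lit 8677, nat_lit 8678, nat_lit 8691, nat_lit 8694, nat_lit 8711, nat_lit 8807, nat_lit 8838, nat_lit 8853, nat_lit 8870, nat_lit 8885, nat_lit 8887, nat_lit 8934, nat_lit 8950, nat_lit 8965, nat_lit 8967, nat_lit 8998, nat_lit 9015, nat_lit 9029, nat_lit 9031, nat_lit 9040, nat_lit 9046, nat_lit 9062, nat_lit 9079, nat_lit 9110, nat_lit 9126, nat_lit 9141, nat_lit 9143, nat_lit 9187, nat_lit 9254, nat_lit 9286, nat_lit 9301, nat_lit 9350, nat_lit 9367, nat_lit 9430, nat_lit 9462, nat_lit 9494, nat_lit 9526, nat_lit 9543, nat_lit 9590, nat_lit 9718, nat_lit 9733, nat_lit 9766, nat_lit 9782, nat_lit 9798, nat_lit 9813, nat_lit 9824, nat_lit 9846, nat_lit 9862, nat_lit 9877, nat_lit 9879, nat_lit 9888, nat_lit 9910, nat_lit 9942, nat_lit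 9958, nat_lit 9989, nat_lit 9991, nat_lit 10006, nat_lit 10035, nat_lit 10086, nat_lit 10101, nat_lit 10103, nat_lit 10183, nat_lit 10195, nat_lit 10215, nat_lit 10309, nat_lit 10311, nat_lit 10471, nat_lit 10661, nat_lit 10663, nat_lit 10711])
def ch122 : ℕ × List (List ℕ) × List ℕ := ((nat_lit 2), [[nat_lit 3], [nat_lit 3, nat_lit 2, nat_lit 3], [nat_lit 4, nat_lit 3, nat_lit 4], [nat_lit 7, nat_lit 3, nat_lit 7], [nat_lit 6], [nat_lit 6, nat_lit 5, nat_lit 6], [nat_lit 1, nat_lit 5, nat_lit 3, nat_lit 2, nat_lit 1, nat_lit 0, nat_lit 1, nat_lit 2, nat_lit 3, nat_lit 5, nat_lit 1]], [nat_lit 32, nat_lit 33, nat_lit 34, nat_lit 35, nat_lit 38, nat_lit 50, nat_lit 51, nat_lit 54, nat_lit 339, nat_lit 342, nat_lit 356, nat_lit 357, nat_lit 358, nat_lit 1316, nat_lit 1317, nat_lit 64, nat_lit 67, nat_lit 70, nat_lit 112, nat_lit 116, nat_lit 117, nat_lit 118, nat_lit 656, nat_lit 660, nat_lit 661, nat_lit 816, nat_lit 820, nat_lit 821, nat_lit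 822, nat_lit 2496, nat_lit 2500, nat_lit 2501, nat_lit 566, nat_lit 854, nat_lit 2800, nat_lit 2804, nat_lit 2805, nat_lit 1923, nat_lit 2771, nat_lit 372, nat_lit 373, nat_lit 374, nat_lit 1236, nat_lit 1237, nat_lit 212, nat_lit 213, nat_lit 246, nat_lit 406, nat_lit 1348, nat_lit 1349, nat_lit 916, nat_lit 917, nat_lit 979, nat_lit 1411, nat_lit 548, nat_lit 549, nat_lit 1190, nat_lit 1718, nat_lit 2532, nat_lit 2533, nat_lit 1780, nat_lit 1781, nat_lit 3443, nat_lit 4419, nat_lit 3844, nat_lit 2789, nat_lit 1940, nat_lit 1941, nat_lit 2067, nat_lit 1427, nat_lit 582, nat_lit 870, nat_lit 2576, nat_lit 2580, nat_lit 2581, nat_lit 1795, nat_lit 2547, nat_lit 387, nat_lit 595, nat_lit 835, nat_lit 838, nat_lit 1203, nat_lit 1206, nat_lit 6448, nat_lit 6452, nat_lit 5520, nat_lit 5525, nat_lit 3491, nat_lit 3011, nat_lit 2515, nat_lit 2518, nat_lit 3459, nat_lit 3462, nat_lit 4480, nat_lit 5472, nat_lit 5632, nat_lit 6464, nat_lit 1812,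 nat_lit 1813, nat_lit 3520, nat_lit 4512, nat_lit 101, nat_lit 1733, nat_lit 1734, nat_lit 7504, nat_lit 7509, nat_lit 2470, nat_lit 8688, nat_lit 5569, nat_lit 5571, nat_lit 5572, nat_lit 4529, nat_lit 4531, nat_lit 4533, nat_lit 5536, nat_lit 4560, nat_lit 5424, nat_lit 5429, nat_lit 5430, nat_lit 8549, nat_lit 6352, nat_lit 6358, nat_lit 3473, nat_lit 3478, nat_lit 4465, nat_lit 4470, nat_lit 5105, nat_lit 5107, nat_lit 5489, nat_lit 5491, nat_lit 2595, nat_lit 2598, nat_lit 3571, nat_lit 3574, nat_lit 2561, nat_lit 2566, nat_lit 3505, nat_lit 3510, nat_lit 8896, nat_lit 8900, nat_lit 8805, nat_lit 7824, nat_lit 6628, nat_lit 7460, nat_lit 4595, nat_lit 7573, nat_lit 3539, nat_lit 4497, nat_lit 4502, nat_lit 3905, nat_lit 3910, nat_lit 4437, nat_lit 9344, nat_lit 9348, nat_lit 8256, nat_lit 7444, nat_lit 6661, nat_lit 5669, nat_lit 5670, nat_lit 5989, nat_lit 6694, nat_lit 7093, nat_lit 10050, nat_lit 10052, nat_lit 10867, nat_lit 9218,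 nat_lit 8723, nat_lit 8726, nat_lit 5622, nat_lit 5972, nat_lit 6614, nat_lit 6374, nat_lit 8742, nat_lit 3716, nat_lit 9363, nat_lit 10886, nat_lit 6758, nat_lit 10768, nat_lit 10688])
def ch222 : ℕ × List (List ℕ) × List ℕ := ((nat_lit 4), [[nat_lit 6], [nat_lit 6, nat_lit 5, nat_lit 6], [nat_lit 7, nat_lit 6, nat_lit 7], [nat_lit 6, nat_lit 1, nat_lit 5, nat_lit 2, nat_lit 1, nat_lit 0, nat_lit 1, nat_lit 2, nat_lit 5, nat_lit 1, nat_lit 6], [nat_lit 6, nat_lit 3, nat_lit 7, nat_lit 4, nat_lit 3, nat_lit 2, nat_lit 3, nat_lit 4, nat_lit 7, nat_lit 3, nat_lit 6], [nat_lit 6, nat_lit 3, nat_lit 2, nat_lit 1, nat_lit 5, nat_lit 4, nat_lit 3, nat_lit 2, nat_lit 1, nat_lit 0, nat_lit 1, nat_lit 2, nat_lit 3, nat_lit 4, nat_lit 5, nat_lit 1, nat_lit 2, nat_lit 3, nat_lit 6]], [nat_lit 80, nat_lit 81, nat_lit 82, nat_lit 83, nat_lit 84, nat_lit 85, nat_lit 98, nat_lit 99, nat_lit 100, nat_lit 101, nat_lit 403, nat_lit 404, nat_lit 405, nat_lit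 1412, nat_lit 1413, nat_lit 1717, nat_lit 112, nat_lit 115, nat_lit 116, nat_lit 117, nat_lit 656, nat_lit 660, nat_lit 661, nat_lit 816, nat_lit 821, nat_lit 2496, nat_lit 2800, nat_lit 2804, nat_lit 2805, nat_lit 3184, nat_lit 3189, nat_lit 6368, nat_lit 10864, nat_lit 10869, nat_lit 10624, nat_lit 2576, nat_lit 1428, nat_lit 1429, nat_lit 1733, nat_lit 8805, nat_lit 9221, nat_lit 10880, nat_lit 10885, nat_lit 10640, nat_lit 6752, nat_lit 7056, nat_lit 2688])
def ch322 : ℕ × List (List ℕ) × List ℕ := ((nat_lit 3), [[nat_lit 1, nat_lit 5, nat_lit 1, nat_lit 0, nat_lit 1, nat_lit 5, nat_lit 6, nat_lit 7, nat_lit 6, nat_lit 5, nat_lit 6, nat_lit 7, nat_lit 1, nat_lit 5, nat_lit 2, nat_lit 1, nat_lit 2, nat_lit 5, nat_lit 3, nat_lit 2, nat_lit 1, nat_lit 5, nat_lit 3, nat_lit 2, nat_lit 1, nat_lit 0, nat_lit 1, nat_lit 2, nat_lit 3, nat_lit 5, nat_lit 1, nat_lit 2, nat_lit 6, nat_lit 7, nat_lit 6, nat_lit 5, nat_lit 6, nat_lit 7, nat_lit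 1, nat_lit 5, nat_lit 2, nat_lit 1, nat_lit 2, nat_lit 5]], [nat_lit 64, nat_lit 10688])
def wl22 : List (ℕ × List ℕ) := [((nat_lit 0), []), ((nat_lit 2), []), ((nat_lit 4), []), ((nat_lit 128), []), ((nat_lit 512), []), ((nat_lit 6), []), ((nat_lit 130), []), ((nat_lit 132), []), ((nat_lit 514), []), ((nat_lit 516), []), ((nat_lit 640), []), ((nat_lit 134), []), ((nat_lit 518), []), ((nat_lit 642), []), ((nat_lit 644), []), ((nat_lit 646), []), ((nat_lit 0), [nat_lit 0]), ((nat_lit 2), [nat_lit 0]), ((nat_lit 4), [nat_lit 0]), ((nat_lit 128), [nat_lit 0]), ((nat_lit 512), [nat_lit 0]), ((nat_lit 6), [nat_lit 0]), ((nat_lit 130), [nat_lit 0]), ((nat_lit 132), [nat_lit 0]), ((nat_lit 514), [nat_lit 0]), ((nat_lit 516), [nat_lit 0]), ((nat_lit 640), [nat_lit 0]), ((nat_lit 134), [nat_lit 0]), ((nat_lit 518), [nat_lit 0]), ((nat_lit 642), [nat_lit 0]), ((nat_lit 644), [nat_lit 0]), ((nat_lit 646), [nat_lit 0]), ((nat_lit 0), [nat_lit 3]),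 ((nat_lit 2), [nat_lit 3]), ((nat_lit 4), [nat_lit 3]), ((nat_lit 128), [nat_lit 3]), ((nat_lit 512), [nat_lit 3]), ((nat_lit 6), [nat_lit 3]), ((nat_lit 130), [nat_lit 3]), ((nat_lit 132), [nat_lit 3]), ((nat_lit 514), [nat_lit 3]), ((nat_lit 516), [nat_lit 3]), ((nat_lit 640), [nat_lit 3]), ((nat_lit 134), [nat_lit 3]), ((nat_lit 518), [nat_lit 3]), ((nat_lit 642), [nat_lit 3]), ((nat_lit 644), [nat_lit 3]), ((nat_lit 646), [nat_lit 3]), ((nat_lit 0), [nat_lit 12]), ((nat_lit 2), [nat_lit 12]), ((nat_lit 4), [nat_lit 12]), ((nat_lit 128), [nat_lit 12]), ((nat_lit 512), [nat_lit 12]), ((nat_lit 6), [nat_lit 12]), ((nat_lit 130), [nat_lit 12]), ((nat_lit 132), [nat_lit 12]), ((nat_lit 514), [nat_lit 12]), ((nat_lit 516), [nat_lit 12]), ((nat_lit 640), [nat_lit 12]), ((nat_lit 134), [nat_lit 12]), ((nat_lit 518), [nat_lit 12]), ((nat_lit 642), [nat_lit 12]), ((nat_lit 644), [nat_lit 12]), ((nat_lit 646), [nat_lit 12])]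
noncomputable def L22 : LD := ⟨XU, (nat_lit 22), (nat_lit 10), bp22, c22, (nat_lit 10), gp22, gq22, P22, (nat_lit 4), (nat_lit 6), tp22, mt22,
  [[], [], [nat_lit 8, nat_lit 7, nat_lit 5, nat_lit 8], [nat_lit 8, nat_lit 2, nat_lit 0, nat_lit 8], [nat_lit 8, nat_lit 3, nat_lit 0, nat_lit 8], [], [], [nat_lit 2, nat_lit 8, nat_lit 4, nat_lit 8, nat_lit 2], [], [nat_lit 8, nat_lit 7, nat_lit 3, nat_lit 8, nat_lit 2], [], [], [], [], [], [nat_lit 6, nat_lit 8, nat_lit 4, nat_lit 8], [], [], [nat_lit 8, nat_lit 9, nat_lit 5, nat_lit 8, nat_lit 7], [], [], [], [nat_lit 1], [], [], [], [], [nat_lit 8, nat_lit 4, nat_lit 8, nat_lit 2, nat_lit 1], [], [], [nat_lit 2], [], [], [nat_lit 8, nat_lit 6, nat_lit 1, nat_lit 8, nat_lit 2], [], [], [nat_lit 8, nat_lit 3, nat_lit 0, nat_lit 6], [], [nat_lit 8, nat_lit 7, nat_lit 3, nat_lit 6], [nat_lit 8, nat_lit 4, nat_lit 8], [nat_lit 6, nat_lit 8, nat_lit 7, nat_lit 3, nat_lit 6], [], [nat_lit 8, nat_lit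 0, nat_lit 2, nat_lit 1, nat_lit 8], [], [nat_lit 8, nat_lit 4, nat_lit 8, nat_lit 2], [], [nat_lit 6, nat_lit 8, nat_lit 9, nat_lit 1, nat_lit 8], [nat_lit 8, nat_lit 0, nat_lit 6, nat_lit 0, nat_lit 8], [], [], [nat_lit 8, nat_lit 5, nat_lit 3, nat_lit 8], [], [], [], [], [], [nat_lit 8, nat_lit 9, nat_lit 6, nat_lit 8, nat_lit 7], [], [nat_lit 8, nat_lit 6, nat_lit 1, nat_lit 8], [], [nat_lit 8, nat_lit 5, nat_lit 3, nat_lit 8, nat_lit 2], [nat_lit 6, nat_lit 8, nat_lit 3, nat_lit 0, nat_lit 6], [nat_lit 2, nat_lit 1], [nat_lit 8, nat_lit 9, nat_lit 1, nat_lit 8]],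
  [[], [nat_lit 1, nat_lit 8, nat_lit 32, nat_lit 256, nat_lit 20, nat_lit 66], [nat_lit 1, nat_lit 2, nat_lit 16, nat_lit 68, nat_lit 264, nat_lit 172], [nat_lit 1, nat_lit 2, nat_lit 16, nat_lit 40, nat_lit 132, nat_lit 332], [nat_lit 1, nat_lit 8, nat_lit 32, nat_lit 256, nat_lit 516, nat_lit 86], [], [], [nat_lit 1, nat_lit 8, nat_lit 32, nat_lit 256, nat_lit 528, nat_lit 86], [], [nat_lit 1, nat_lit 2, nat_lit 16, nat_lit 192, nat_lit 288, nat_lit 108], [], [], [], [], [], [nat_lit 1, nat_lit 4, nat_lit 64, nat_lit 128, nat_lit 18, nat_lit 264], [], [], [nat_lit 1, nat_lit 4, nat_lit 64, nat_lit 128, nat_lit 40, nat_lit 282], [], [], [], [nat_lit 1, nat_lit 8, nat_lit 32, nat_lit 256, nat_lit 6, nat_lit 80], [], [], [], [], [nat_lit 1, nat_lit 8, nat_lit 32, nat_lit 256, nat_lit 86, nat_lit 658], [], [], [nat_lit 1, nat_lit 8, nat_lit 32, nat_lit 256, nat_lit 144, nat_lit 86], [], [], [nat_lit 1, nat_lit 8, nat_lit 32, nat_lit 256,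 nat_lit 576, nat_lit 86], [], [], [nat_lit 1, nat_lit 132, nat_lit 264, nat_lit 58, nat_lit 86, nat_lit 526], [], [nat_lit 1, nat_lit 18, nat_lit 40, nat_lit 192, nat_lit 332, nat_lit 586], [nat_lit 1, nat_lit 8, nat_lit 32, nat_lit 256, nat_lit 18, nat_lit 68], [nat_lit 1, nat_lit 512, nat_lit 18, nat_lit 132, nat_lit 288, nat_lit 108], [], [nat_lit 1, nat_lit 4, nat_lit 64, nat_lit 128, nat_lit 288, nat_lit 58], [], [nat_lit 1, nat_lit 8, nat_lit 32, nat_lit 256, nat_lit 86, nat_lit 646], [], [nat_lit 1, nat_lit 68, nat_lit 288, nat_lit 58, nat_lit 150, nat_lit 540], [nat_lit 1, nat_lit 8, nat_lit 32, nat_lit 256, nat_lit 132, nat_lit 86], [], [], [nat_lit 1, nat_lit 8, nat_lit 32, nat_lit 256, nat_lit 514, nat_lit 86], [], [], [], [], [], [nat_lit 1, nat_lit 8, nat_lit 32, nat_lit 256, nat_lit 86, nat_lit 660], [], [nat_lit 1, nat_lit 8, nat_lit 32, nat_lit 256, nat_lit 192, nat_lit 86], [], [nat_lit 1, nat_lit 8, nat_lit 32, nat_lit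 256, nat_lit 640, nat_lit 86], [nat_lit 1, nat_lit 512, nat_lit 40, nat_lit 68, nat_lit 150, nat_lit 282], [nat_lit 1, nat_lit 8, nat_lit 32, nat_lit 256, nat_lit 130, nat_lit 86], [nat_lit 1, nat_lit 512, nat_lit 192, nat_lit 264, nat_lit 58, nat_lit 86]],
  [clA22, clB22, clC22, clD22, clE22], [nat_lit 0, nat_lit 3, nat_lit 5, nat_lit 8, nat_lit 12, nat_lit 16], wl22, [nat_lit 1, nat_lit 0],
  [ch022, ch122, ch222, ch322], 18393661440⟩
def sw22 : List (List ℕ) := [[nat_lit 1, nat_lit 8, nat_lit 4, nat_lit 8, nat_lit 0, nat_lit 1], [nat_lit 6, nat_lit 5], [nat_lit 6, nat_lit 9, nat_lit 4], [nat_lit 8, nat_lit 6, nat_lit 1, nat_lit 8, nat_lit 4]]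
noncomputable def phiU (i : ℕ) : ℕ := fld (nat_lit 0xdb1e878160b12b91a45d1b6519e675a6aa1a267e2c6811e2709f274ad280af148530a4003c4f057cd7361da7655b2043d7b1e89ccd9565d87a5613c87b5595561586568dc55d5c578f57ade5581e35a9f059674a356244e795b4dd3886f1c0ef1c8790e43a06c084f13d4ed1865d462cd965151c670114551445a226b5928ae3966190904b01642a636218fe3a882a687e459011947e2964dae6863c2c855645c7474a34e13f668b748da56ad268e12549e4634daa1b9208992192d28278a22904d1385409c103ccfc4056e849531f1d5401587787e771e7574967901c5495174df75a5f67467875e86780da37dd283a882083e73e72a1e70a32719ba767bded58cf47f1807a87d758e1380ed3e568251645c9f45b0e37d49b379fe398711d0370ec1a2d0ba4f8bf4a62763c5689231654b88be3d66e3b0ad8b6398c871ac9321eaaa2aa8aa98ce44488bc93dc39685a86ea7a92a3a9642939a468db36c12d2d9bf2d5244d1a93412b6f12c29db5358a12984f098283d8f73e8e759a6b9b5d41fe059f1dd9ec3f9fa679b1e6a25ce741f89be919de959fe1160dfba40fe2120920e81a2e92821ee7e9715c17d3e17f5ad6f5dd113ace51dc3c390730e26151dc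99805c97c5b2f4b9500ac4ba328a0579614f4d54e5355052d4c895c2abaac8c25d8669d8fa1a8765995e50aae5e8d1b4719b250e4d2fa5190e526f9b16bd414d9374c52a2a851294505ce1483268a5a978567aa15896218740a1321885200fb418ee77e754151241d085fa074250a431784350b4390f4420d82eb49f669a2a6aa01fda0e10785847e4ff802015e57b3b1743a4761d5c5301484e5ca701c1abe5ba7ab08b9cb8de4aa7199525c8308c130cbb3122d315b6354d2350d132dbd318ca338c9330c831ccf3365ca82ada7ea18d647955a7511b76e5322ad2f2a4a860a6683d036049176c95248908189382ab2a12b3789f3a3d67410fd21dff2208a2249825c8f22c992348c2688ea0a93a51f180d7a5d4ea3a0687129b8614218e23190671a46619636a6ab16a2495293a1745f178601a86d1886b1846c94e546e1334c047736655504411448130469928e7c97c100411084912c4312a025d98a0c617a642e0bc320d430921bb0b02d0cc360d1ba081cc086630781f094238101d0882404c14858199581205818054170280903a6203c0b0340c0140100a980180700c04) (Nat.mul (nat_lit 10) i) (nat_lit 1023)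
def ce22 : List (List (ℕ × List ℕ)) := [[], [((nat_lit 4215), [nat_lit 2])], [((nat_lit 4215), []), ((nat_lit 8380), []), ((nat_lit 4215), [nat_lit 2]), ((nat_lit 4215), [nat_lit 9])], [((nat_lit 4215), [])], [((nat_lit 8380), [])], [((nat_lit 4215), []), ((nat_lit 8380), []), ((nat_lit 786447), [nat_lit 0]), ((nat_lit 786447), [nat_lit 2]), ((nat_lit 786447), [nat_lit 9]), ((nat_lit 4215), [nat_lit 2]), ((nat_lit 4215), [nat_lit 9]), ((nat_lit 786447), [nat_lit 1, nat_lit 0])], [((nat_lit 786447), [nat_lit 0]), ((nat_lit 786447), [nat_lit 2])], [((nat_lit 4215), []), ((nat_lit 786447), [nat_lit 8, nat_lit 0])], [((nat_lit 786447), [nat_lit 0])], [((nat_lit 8380), [nat_lit 1, nat_lit 8, nat_lit 4])], [((nat_lit 8380), [nat_lit 3]), ((nat_lit 786447), [nat_lit 1, nat_lit 0])], [((nat_lit 786447), [nat_lit 0]), ((nat_lit 786447), [nat_lit 2]), ((nat_lit 786447), [nat_lit 1, nat_lit 0])], [((nat_lit 4215), []), ((nat_lit 8380), []), ((nat_lit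 786447), [nat_lit 0]), ((nat_lit 786447), [nat_lit 1]), ((nat_lit 786447), [nat_lit 2]), ((nat_lit 786447), [nat_lit 9]), ((nat_lit 4215), [nat_lit 2]), ((nat_lit 4215), [nat_lit 9]), ((nat_lit 786447), [nat_lit 1, nat_lit 0])]]
def cl1 : List (ℕ × List ℕ) := [((nat_lit 786447), [nat_lit 8, nat_lit 0])]
def cl2 : List (ℕ × List ℕ) := [((nat_lit 786447), [nat_lit 8, nat_lit 2])]
def co11 : List (ℕ × List ℕ) := [((nat_lit 786447), []), ((nat_lit 4215), []), ((nat_lit 786447), [nat_lit 0]), ((nat_lit 8381), [nat_lit 3]), ((nat_lit 786447), [nat_lit 1, nat_lit 0]), ((nat_lit 786447), [nat_lit 8, nat_lit 0])]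
def co01 : List (ℕ × List ℕ) := [((nat_lit 786447), []), ((nat_lit 4214), []), ((nat_lit 786447), [nat_lit 0]), ((nat_lit 8381), [nat_lit 3]), ((nat_lit 786447), [nat_lit 1, nat_lit 0]), ((nat_lit 786447), [nat_lit 8, nat_lit 0])]
def co00 : List (ℕ × List ℕ) := [((nat_lit 4214), []), ((nat_lit 786447), [nat_lit 8, nat_lit 0])]
theorem L22_B : L22.chkB = true := by decide +kernel
theorem L22_G : L22.chkG = true := by decide +kernel
theorem L22_C : L22.chkC = true := by decide +kernel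
theorem L22_Cl : L22.chkCl = true := by decide +kernel
theorem L22_Ch : L22.chkCh L22.ch [] = true := by decide +kernel
theorem L22_T : L22.chkT = true := by decide +kernel
theorem L22_J : L22.chkJ = true := by decide +kernel
theorem L22_I : L22.chkI = true := by decide +kernel
theorem L22_ok : L22.Ok := ⟨L22_B, L22_G, L22_C, L22_Cl, L22_Ch, L22_T, L22_J, L22_I, by decide +kernel, by decide +kernel, by decide +kernel⟩
end CA.Cov

theorem CA.realizeEqns_Cov_D22 : True := by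
  have := @CA.Cov.mt22.eq_1
  have := @CA.Cov.mt22.eq_def
  have := @CA.Cov.mt22.congr_simp
  have := @CA.Cov.clA22.eq_1
  have := @CA.Cov.clA22.eq_def
  have := @CA.Cov.clA22.congr_simp
  have := @CA.Cov.cl2.eq_1
  have := @CA.Cov.cl2.eq_def
  have := @CA.Cov.cl2.congr_simp
  have := @CA.Cov.bp22.eq_1
  have := @CA.Cov.bp22.eq_def
  have := @CA.Cov.bp22.congr_simp
  have := @CA.Cov.sw22.eq_1
  have := @CA.Cov.sw22.eq_def
  have := @CA.Cov.sw22.congr_simp
  have := @CA.Cov.tp22.eq_1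
  have := @CA.Cov.tp22.eq_def
  have := @CA.Cov.tp22.congr_simp
  have := @CA.Cov.L22.eq_1
  have := @CA.Cov.L22.eq_def
  have := @CA.Cov.L22.congr_simp
  have := @CA.Cov.mA22.eq_1
  have := @CA.Cov.mA22.eq_def
  have := @CA.Cov.mA22.congr_simp
  have := @CA.Cov.clE22.eq_1
  have := @CA.Cov.clE22.eq_def
  have := @CA.Cov.clE22.congr_simp
  have := @CA.Cov.ce22.eq_1
  have := @CA.Cov.ce22.eq_def
  have := @CA.Cov.ce22.congr_simp
  have := @CA.Cov.gq22.eq_1
  have := @CA.Cov.gq22.eq_def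
  have := @CA.Cov.gq22.congr_simp
  have := @CA.Cov.clB22.eq_1
  have := @CA.Cov.clB22.eq_def
  have := @CA.Cov.clB22.congr_simp
  have := @CA.Cov.mE22.eq_1
  have := @CA.Cov.mE22.eq_def
  have := @CA.Cov.mE22.congr_simp
  have := @CA.Cov.co11.eq_1
  have := @CA.Cov.co11.eq_def
  have := @CA.Cov.co11.congr_simp
  have := @CA.Cov.mB22.eq_1
  have := @CA.Cov.mB22.eq_def
  have := @CA.Cov.mB22.congr_simp
  have := @CA.Cov.ch122.eq_1
  have := @CA.Cov.ch122.eq_def
  have := @CA.Cov.ch122.congr_simp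
  have := @CA.Cov.gp22.eq_1
  have := @CA.Cov.gp22.eq_def
  have := @CA.Cov.gp22.congr_simp
  have := @CA.Cov.cl1.eq_1
  have := @CA.Cov.cl1.eq_def
  have := @CA.Cov.cl1.congr_simp
  have := @CA.Cov.mC22.eq_1
  have := @CA.Cov.mC22.eq_def
  have := @CA.Cov.mC22.congr_simp
  have := @CA.Cov.ch022.eq_1
  have := @CA.Cov.ch022.eq_def
  have := @CA.Cov.ch022.congr_simp
  have := @CA.Cov.co01.eq_1
  have := @CA.Cov.co01.eq_def
  have := @CA.Cov.co01.congr_simp
  have := @CA.Cov.clC22.eq_1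
  have := @CA.Cov.clC22.eq_def
  have := @CA.Cov.clC22.congr_simp
  have := @CA.Cov.P22.eq_1
  have := @CA.Cov.P22.eq_def
  have := @CA.Cov.P22.congr_simp
  have := @CA.Cov.mD22.eq_1
  have := @CA.Cov.mD22.eq_def
  have := @CA.Cov.mD22.congr_simp
  have := @CA.Cov.ch222.eq_1
  have := @CA.Cov.ch222.eq_def
  have := @CA.Cov.ch222.congr_simp
  have := @CA.Cov.wl22.eq_1
  have := @CA.Cov.wl22.eq_def
  have := @CA.Cov.wl22.congr_simp
  have := @CA.Cov.c22.eq_1
  have := @CA.Cov.c22.eq_def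
  have := @CA.Cov.c22.congr_simp
  have := @CA.Cov.co00.eq_1
  have := @CA.Cov.co00.eq_def
  have := @CA.Cov.co00.congr_simp
  have := @CA.Cov.ch322.eq_1
  have := @CA.Cov.ch322.eq_def
  have := @CA.Cov.ch322.congr_simp
  have := @CA.Cov.phiU.eq_1
  have := @CA.Cov.phiU.eq_def
  have := @CA.Cov.phiU.congr_simp
  have := @CA.Cov.clD22.eq_1
  have := @CA.Cov.clD22.eq_def
  have := @CA.Cov.clD22.congr_simp
  trivial
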