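/-
The centraliser of a product of two commuting transpositions in `Fi₂₂` and in `Aut(Fi₂₂)`.
-/
import Cfsg.Agent.Cov.U42
import Cfsg.Agent.Fi3.Aut

set_option autoImplicit false
set_option linter.unusedSectionVars false

namespace CA.Cov

open Cfsg Subgroup CA.Fi CA.TC CA.Loc CA.U6

noncomputable def rX180 (p : ℕ) : ℕ := fld (nat_lit 0x50d9d9d9d9d9d6d9a86cacacacacab2c94d5153636359635aa6a7acaab0a9b0ab535355d7d7d6d7d6296b69296ba9abaa12b5d475b5b5f6762969cb0acacb1b2af4a4dd7cad5d1d0d825a52aac27a66aa552d2763335361354694b19392a89c9fae4a584e48d3c9cb4da52be6e2a9aba2e71254b215d3b154b2494a3ae88a49b8993425256c251d5d1d4a128a8a0a8a8a8a890943430343435742868081a082a0a0a0424fcfc04fcfd44fa19f27a7aaa1679fd0b3af73b4afb3afc84aca77a9ca89ca64255d33c4dd24dd3a126a69da6a6aa669030733530b54ed0884989874989898984339ba4bbb4bc2cba125a59ce5a5a9e590ce52b56ff09035480aa94777c837b724254d438c9d3c9d221649c2a1f9ea02950aeedf4eeae2e6f08490a56e7b797c70413abc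3cbbb741b7a15c5b20db9dde5b504deef1af0d91aea806e6d8c71758c6c4245c5b5c5c5d345a0629e699f695ade9091312d513134912816d6ea46c786a714334b543b5c3bec3a121a19a61a1a1a18eccf0b0b333d2ed0766684a368958499384cc1c733ca47b31d991968a820a0a08ecc74142cb032b0275a0639f648092803b30bfbfcab432cf1d5f981fa49899274eafabefb153b0ec4749e7c5f94679061393dceb3c82fca301d5e97a718a49ea28e0f3151ebf211cbc765d8f9b8d8878913848c6ca47c733ae9d9696e6a5dda65d8e31ebaeb2318b51a765997985b7474743acbaccb2d39c8b99c655c97585996250eb1cad271922e31074709256605e57903946c8af2eab2e479c23222423a3d7d58e31118ccacbaab1c71568e6c888d548c3b29aa45c3b5c5359d94a1e2551aa21a8eb0ea50ca6d2d2d266516868847f68853042b3bdc1be3ba89861199b545c9420ccc9b04cb02cafeca65824d6480647e6431c0c031a6b1a731995892d89e9f989f4c8fec296e4a298f862607e51704b4f7b302fbebe3cbdb72598579e9bd2dc129e4c2f0eae4deda8aee655c444a45476f503321bb2dba2dadad995d90d69cd69d568c6e8e6b286b288b2654e42454c49724f32212720a7a43826185b1c5c1b5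bd05b8cc80aaa0828cda94663f6b546a546c5432b59fa9b4a9a9a998da9a548fd490148a2d0a2c0ccc270ce55503755383d665c2a9f1b1c2b9d302c14d615d38d8f18cf8a8cac86ac69a6c9a54363e34583b615728a5b130af301a2f958cd2970d0e57954aa78606476b07a7454303c2e3a57393b28a3989c992e171e958b518f4b954c8e4aa8a58b0b864ba7053445c442c3159372a2dad15aca196219515d60a8f8c108d8ac5282aeaa5cac6853554040292d52332a2a2994291f949f9093d30f9089cf9388a7a488c4aa0928e4349483c234e3c272211939124a612a41049c8c95213c89248c42728e4494908c4538204f50255145219ba81b90121ba2111313c7d388d3508826a6a9a6a6a3e6a461e344c4a224b4121a519998f1099a0114c875251d15189486628e623a8862484448491c274226232097979317978e179186cb92119051c88868c5a5a36805a42442c451a441d4320209595a195958d15918646908a870a87c8882523280367e3c4128283f28281928189d1d93981f0c1e0d8585cbc6098c0986a4a2a747a70766433243d24153717311a1d9d0a1e1b11980d84c88ece4d0e8b86672424226662c5a342038123715202c1b08891b0f8a1a950d0d07844cc4c78a4683a642062583a2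a360f10301c2a2f141a170d8796948d898d838a8b06840ac486a541c52321e5022260c0d18261827181305930b868b920b894982c5830588458482a4a1448401a3a26090a23141f141c12110984908f060d898207c80482848684a3e103c2212223226071c1d101a100a128e038d878c8784888686438381c38202c08300c2e1a2a1a15180405160c130c0a0b8b0182058585858045054284818402a28022612220a1e121211080801020e0888078383870000818181834181828180a0a0a180a0a120a040d0c040b040404018181858181818180808080808082008021412020210020e0000000000000700) (Nat.mul (nat_lit 65) p) (nat_lit 36893488147419103231)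
noncomputable def X180 : Tab := ⟨nat_lit 180, nat_lit 7, fun g p => fld (rX180 p) (Nat.mul (nat_lit 8) g) (nat_lit 255), fun g => g,
  fun p => fld (rX180 p) (nat_lit 56) (nat_lit 15), fun p => Nat.shiftRight (rX180 p) (nat_lit 60)⟩
noncomputable def em180 (p : ℕ) : ℕ := fld (nat_lit 0xa76a2aca5595a40a429581203a3ded752747a673928a96e93069dbb682238869a9269995d8f6e598889a36399e64d9764191aa62daa220904c8815f3570e95d9665dd637a95f581db769d2566645526354d5b74d6255dd9569d69d67226dbc4751b4c522485a14791f67d954651885d164551a48194472271b46c374dc378e037cf5585583ccf43c4f2368d9360db5744c12cbd2c8b52ccb44f8a1280a3289400dcaf2b8b12c13d0d89e2749f0d43420c821f07b1f4f6098711c8251e47a0907008c5a1641a150550644e0605305c160f81003c3a0380d0302a020070180501003) (Nat.mul (nat_lit 10) p) (nat_lit 1023)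
noncomputable def cl180 (p : ℕ) : ℕ := fld (nat_lit 0x4b0441451d41c62462892ec08331ea843423eca503e834e49369f71c30e4128ec81492b21582289b84a5d69c89ab6645974519e6559ade968a6376a9586137d80dd8da7da95d0e96e146666785b46785b5e255692021c61c7da953a92428793a9242878e30d3c29995e25a480a2542895061dd8e938d3c42c42c1548ac61c514c083b00040) (Nat.mul (nat_lit 6) p) (nat_lit 63)
noncomputable def rp180 (p : ℕ) : ℕ := fld (nat_lit 0x98743797666d755572172450855d9e5a8c4658263d4542431e3230492f132c2a2b111d1c0c091a081004050102) (Nat.mul (nat_lit 8) p) (nat_lit 255)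
noncomputable def sg180 (p : ℕ) : ℕ := fld (nat_lit 0xa2823e65614b7e345118274c7f6068646222380d3b4f204d1e3a1525061336123511230a0c091f081404050102) (Nat.mul (nat_lit 8) p) (nat_lit 255)

/-- A symplectic basis. -/
def bs22 : List (List ℕ × List ℕ) := [([5, 3], [375, 38]), ([13, 12], [374, 16]), ([75, 16], [217, 123]), ([76, 38], [216, 62])]

theorem ok180 : X180.Ok := ok_of_chk (allLt_spec (by decide +kernel)) (by decide +kernel)

theorem cls180 : ClsD X180 X45 cl180 rp180 := ⟨allLt_spec (by decide +kernel), by decide +kernel⟩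

variable {G : Type*} [Group G] {D : Set G} {e : ℕ → G}

theorem real180 (h : Real X22 D e) :
    Real X180 (nb (nb D (e 0)) (e 1)) (fun p => e (em180 p)) ∧ ∀ p < X180.n, em180 p < X22.n := by
  refine real_pull h ok180 (allLt_spec (by decide +kernel)) (fun p hp => ?_) fun y hy => ?_
  · obtain ⟨a0, a1, a2, a3, a4⟩ := (by decide +kernel : ∀ p < 180, em180 p < X22.n ∧ em180 p ≠ 0 ∧ em180 p ≠ 1 ∧
      X22.op 0 (em180 p) = em180 p ∧ X22.op 1 (em180 p) = em180 p) p hp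
    exact ⟨⟨h.mem _ a0, fun b => a1 (h.inj _ a0 _ (by decide) b), (h.commute_iff (by decide) a0).2 a3⟩,
      fun b => a2 (h.inj _ a0 _ (by decide) b), (h.commute_iff (by decide) a0).2 a4⟩
  · obtain ⟨⟨a0, a1, a2⟩, a3, a4⟩ := hy
    obtain ⟨q, hq, rfl⟩ := h.surj y a0
    have := allLt_spec (by decide +kernel : allLt 694 (fun q => bor (Nat.ble q 1) (bor (TC.bne (X22.op 1 q) q)
      (anyLt 180 fun p => Nat.beq (em180 p) q))) = true) q (Nat.lt_succ_of_le ((h.commute_zero_iff nest22 hq).1 a2))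
    rw [bor_iff, bor_iff, ble_iff, bne_iff] at this
    rcases this with b | b | b
    · rcases Nat.le_one_iff_eq_zero_or_eq_one.1 b with rfl | rfl
      exacts [absurd rfl a1, absurd rfl a3]
    · exact absurd ((h.commute_iff (by decide) hq).1 a4) b
    · obtain ⟨p, hp, b⟩ := anyLt_spec b
      exact ⟨p, hp, congrArg e (beq_iff.1 b)⟩

theorem cl01 (h : Real X22 D e) : Fi3.CL D [e 0, e 1] := Fi3.chkCL_cl h (l := [0, 1]) (by decide +kernel)

theorem RA.swap22 (h : RA X22 D e) {c : G} (hc : c ∈ centralizer ({e 0 * e 1} : Set G)) :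
    c * e 0 * c⁻¹ = e 0 ∧ c * e 1 * c⁻¹ = e 1 ∨ c * e 0 * c⁻¹ = e 1 ∧ c * e 1 * c⁻¹ = e 0 := by
  have c0 := cl01 h.toReal
  obtain ⟨a, b⟩ := c0.cj_prod h.inv (g := c) (by simpa using (mem_cent_iff.1 hc).symm)
  have := (Fi3.nr22 h.toReal).uniq (Fi3.tt22 h.toReal) a c0 (by simp) (by simp) b
  have n := (Fi3.cl_two.1 a).2.2.1
  have a0 := (this (cj c (e 0))).1 (by simp)
  have a1 := (this (cj c (e 1))).1 (by simp)
  simp only [List.mem_cons, List.not_mem_nil, or_false] at a0 a1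
  rcases a0 with a0 | a0 <;> rcases a1 with a1 | a1
  exacts [absurd (a0.trans a1.symm) n, Or.inl ⟨a0, a1⟩, Or.inr ⟨a0, a1⟩, absurd (a0.trans a1.symm) n]

theorem swap_mem {a b c : G} (h : Commute a b) (h1 : c * a * c⁻¹ = b) (h2 : c * b * c⁻¹ = a) :
    c ∈ centralizer ({a * b} : Set G) := mem_cent_iff.2 (conj_eq_iff_commute.1 (by
      rw [show c * (a * b) * c⁻¹ = c * a * c⁻¹ * (c * b * c⁻¹) by group, h1, h2, h.eq]))

theorem mem_cent_pair {a b c : G} : c ∈ centralizer ({a, b} : Set G) ↔ Commute c a ∧ Commute c b := by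
  rw [mem_centralizer_iff]
  simp only [Set.mem_insert_iff, Set.mem_singleton_iff, forall_eq_or_imp, forall_eq]
  exact and_congr Commute.symm_iff Commute.symm_iff

theorem sg22 (h : Real X22 D e) :
    wd e [696, 695] * e 0 * (wd e [696, 695])⁻¹ = e 1 ∧ wd e [696, 695] * e 1 * (wd e [696, 695])⁻¹ = e 0 :=
  ⟨(opl_conj h.toQReal (by decide) (by decide)).trans (congrArg e (by decide +kernel)),
    (opl_conj h.toQReal (by decide) (by decide)).trans (congrArg e (by decide +kernel))⟩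

theorem RA.idx22 (h : RA X22 D e) :
    ((centralizer ({e 0, e 1} : Set G)).subgroupOf (centralizer {e 0 * e 1})).index = 2 := by
  obtain ⟨-, -, n, c0⟩ := Fi3.cl_two.1 (cl01 h.toReal)
  obtain ⟨s0, s1⟩ := sg22 h.toReal
  generalize wd e [696, 695] = s at s0 s1
  refine index_eq_two_iff.2 ⟨⟨s, swap_mem c0 s0 s1⟩, fun b => ?_⟩
  have k : ∀ x, b * s * x * ((b : G) * s)⁻¹ = b * (s * x * s⁻¹) * (b : G)⁻¹ := fun x => by group
  simp only [mem_subgroupOf, mem_cent_pair, coe_mul]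
  iterate 4 rw [← conj_eq_iff_commute]
  rw [k, k, s0, s1]
  rcases h.swap22 b.2 with ⟨a0, a1⟩ | ⟨a0, a1⟩ <;> rw [a0, a1]
  exacts [Or.inr ⟨⟨rfl, rfl⟩, fun a => n a.2⟩, Or.inl ⟨⟨rfl, rfl⟩, fun a => n a.2⟩]

theorem RA.card_K22 (h : RA X22 D e) : Nat.card (centralizer ({e 0, e 1} : Set G)) ≤ 53084160 :=
  h.chn (d := 6) (by decide) [.orb 512 2 [0] [1], .orb 432 694 [2] [0, 1], .der 2 1, .der 694 0, .der 1 696, .orb 40 852 [694, 9] [698, 0, 1], .der 852 2, .der 698 790, .der 698 0, .der 852 695, .der 698 2, .orb 6 3061 [1, 71, 1431] [0, 694, 696, 701], .der 790 0, .der 3061 748, .der 9 1061, .der 852 1416, .der 3061 1860, .der 0 944, .der 2 1066, .der 1431 1227, .der 3061 0, .der 9 3277, .der 852 3278, .der 3061 3349, .der 694 378, .der 3061 1154, .der 9 3347, .der 701 2992, .der 3061 3276, .der 852 0, .der 3061 789, .der 696 3341, .der 1431 3470, .der 790 302, .der 3061 3377, .der 852 906, .der 2 3277, .der 71 3410, .der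 9 3320, .der 3061 2825, .der 701 706, .der 3061 9, .der 694 3409, .der 698 3301, .der 3061 3068, .der 852 933, .der 3061 2, .der 694 3259, .der 698 2880, .der 3061 3248, .der 9 1415, .der 790 1060, .der 0 3128, .der 3061 3238] [0, 1] _ (by
    simp only [List.mem_cons, List.not_mem_nil, or_false, forall_eq_or_imp, forall_eq]
    exact ⟨⟨by decide, fun c hc => (mem_cent_pair.1 hc).1⟩, by decide, fun c hc => (mem_cent_pair.1 hc).2⟩)
    (by decide +kernel)

theorem RA.es22 (h : RA X22 D e) : ES (esg e (e 0 * e 1) bs22) (e 0 * e 1) ∧ Nat.card (esg e (e 0 * e 1) bs22) = 512 ∧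
    esg e (e 0 * e 1) bs22 ≤ centralizer {e 0, e 1} := by
  have c0 := cl01 h.toReal
  have := h.sy0 (zl := [0, 1]) (c0.sq (Fi3.tt22 h.toReal)) (neL_spec h.toReal (l' := []) (by decide +kernel)) bs22
    (by decide +kernel)
  rw [show wd e [0, 1] = e 0 * e 1 by simp [wd]] at this
  obtain ⟨-, -, n, c0⟩ := Fi3.cl_two.1 c0
  have k : ∀ p ∈ bs22, ∀ a ∈ [0, 1], Cov.cmL X22 p.1 [a] = true ∧ Cov.cmL X22 p.2 [a] = true := by decide +kernel
  have k' : ∀ {l a}, Cov.cmL X22 l [a] = true → Commute (wd e l) (e a) := fun a => by simpa [wd] using h.cmL a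
  exact ⟨this.2.2 (by decide), this.2.1, esg_le (mem_cent_pair.2 ⟨(Commute.refl _).mul_left c0.symm,
    c0.mul_left (Commute.refl _)⟩) fun p hp => ⟨mem_cent_pair.2 ⟨k' (k p hp 0 (by simp)).1, k' (k p hp 1 (by simp)).1⟩,
      mem_cent_pair.2 ⟨k' (k p hp 0 (by simp)).2, k' (k p hp 1 (by simp)).2⟩⟩⟩

theorem RA.struct22 [Finite G] (h : RA X22 D e) {C : Subgroup G} (hC : C = centralizer {e 0 * e 1}) :
    ∃ (Q : Subgroup C) (_ : Q.Normal), Nat.card C = 51840 * Nat.card (Q.map C.subtype) ∧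
      Nonempty (C ⧸ Q ≃* MulAut (PSU 4 F4 2)) ∧
      (∀ x ∈ C, (∀ p < 180, ∀ q < 180, x * e (em180 p) * x⁻¹ = e (em180 q) → cl180 q = cl180 p) → x ∈ Q.map C.subtype) ∧
      esg e (e 0 * e 1) bs22 ⊔ zpowers (e 0) ≤ Q.map C.subtype ∧
      ((∀ x ∈ Q.map C.subtype, ∀ y ∈ Q.map C.subtype, Commute x y ∨ x * y = y * x * (e 0 * e 1)) → IsPGroup 2 Q →
        centralizer (Q : Set C) ≤ Q ∧ generalizedFittingSubgroup C = Q) := by
  obtain ⟨r, lt⟩ := real180 h.toReal
  obtain ⟨-, -, n, c0⟩ := Fi3.cl_two.1 (cl01 h.toReal)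
  have h1 : nb (nb D (e 0)) (e 1) ⊆ C := fun y hy => hC ▸ mem_cent_iff.2 (hy.1.2.2.symm.mul_right hy.2.2.symm)
  obtain ⟨Q, _, E, u, ra, hu, hQ⟩ := cls180.exists_ker r real45 (sep45 real45) h1 fun x hx y hy => by
    have k : ∀ a, y ≠ a ∧ Commute a y → x * y * x⁻¹ ≠ x * a * x⁻¹ ∧ Commute (x * a * x⁻¹) (x * y * x⁻¹) :=
      fun a ha => ⟨fun b => ha.1 (cj_inj b), commute_conj_iff.2 ha.2⟩
    have k0 := k _ hy.1.2
    have k1 := k _ hy.2
    rcases h.swap22 (hC ▸ hx) with ⟨a0, a1⟩ | ⟨a0, a1⟩ <;> rw [a0] at k0 <;> rw [a1] at k1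
    exacts [⟨⟨h.inv _ _ hy.1.1, k0⟩, k1⟩, ⟨⟨h.inv _ _ hy.1.1, k1⟩, k0⟩]
  have mC : ∀ p < 180, e (em180 p) ∈ C := fun p hp => h1 (r.mem p hp)
  have m1 : ∀ x ∈ C, (∀ p < 180, ∀ q < 180, x * e (em180 p) * x⁻¹ = e (em180 q) → cl180 q = cl180 p) →
      x ∈ Q.map C.subtype := fun x hx a => ⟨⟨x, hx⟩, (hQ _).2 a, rfl⟩
  have m2 : ∀ x ∈ C, (∀ y ∈ nb (nb D (e 0)) (e 1), Commute x y) → x ∈ Q.map C.subtype := fun x hx a =>
    m1 x hx fun p hp q hq b => by rw [r.inj q hq p hp (b.symm.trans (conj_eq_iff_commute.2 (a _ (r.mem p hp))))]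
  have m3 : ∀ p < 180, ∀ q < 180, cl180 p = cl180 q → wd e [em180 p, em180 q] ∈ Q.map C.subtype := fun p hp q hq a =>
    ⟨⟨_, mC p hp⟩ * ⟨_, mC q hq⟩, (QuotientGroup.eq_one_iff _).1 (by
      rw [← QuotientGroup.mk'_apply, map_mul, hu p hp _ rfl, hu q hq _ rfl, a, ra.sq' _ (cls180.spec hq).1]),
      by simp [wd]⟩
  have m4 : ∀ p ∈ bs22, wd e p.1 ∈ Q.map C.subtype ∧ wd e p.2 ∈ Q.map C.subtype := fun p hp => by
    obtain ⟨x, -, ⟨a1, a2, a3, a4⟩, a5, a6, a7, a8⟩ := (by decide +kernel : ∀ p ∈ bs22, ∃ x ∈ [((2, 0), (127, 33)), ((8, 7), (129, 12)), ((63, 12), (68, 36)), ((64, 33), (67, 13))],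
      (x.1.1 < 180 ∧ x.1.2 < 180 ∧ cl180 x.1.1 = cl180 x.1.2 ∧ p.1 = [em180 x.1.1, em180 x.1.2]) ∧
      x.2.1 < 180 ∧ x.2.2 < 180 ∧ cl180 x.2.1 = cl180 x.2.2 ∧ p.2 = [em180 x.2.1, em180 x.2.2]) p hp
    exact ⟨a4 ▸ m3 _ a1 _ a2 a3, a8 ▸ m3 _ a5 _ a6 a7⟩
  obtain ⟨s0, s1⟩ := sg22 h.toReal
  obtain ⟨a1, a2⟩ := ra.aut45 (x := QuotientGroup.mk' Q ⟨_, hC ▸ swap_mem c0 s0 s1⟩) (φ := fun i => cl180 (sg180 i))
    (fun i hi => by
      obtain ⟨b1, b2, b3, b4⟩ := (by decide +kernel : ∀ i < 45, cl180 (sg180 i) < 45 ∧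
        cl180 (sg180 (cl180 (sg180 i))) = i ∧ sg180 i < 180 ∧
        opl X22 [696, 695] (em180 (rp180 i)) = em180 (sg180 i)) i hi
      obtain ⟨b5, b6⟩ := cls180.rep i hi
      refine ⟨b1, b2, ?_⟩
      rw [← hu _ b3 ⟨_, mC _ b3⟩ rfl, ← (hu _ b5 ⟨_, mC _ b5⟩ rfl).trans (congrArg u b6), ← map_inv, ← map_mul, ← map_mul]
      exact congrArg _ (Subtype.ext ((opl_conj h.toQReal (by decide) (lt _ b5)).trans (congrArg e b4))))
    (by decide +kernel)
  refine ⟨Q, inferInstance, by rw [card_map_of_injective C.subtype_injective, ← a1, ← card_eq_card_quotient_mul_card_subgroup],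
    a2, m1, sup_le (esg_le (m2 _ (hC ▸ mem_cent_iff.2 (Commute.refl _)) fun y hy => hy.1.2.2.mul_left hy.2.2) m4)
      (zpowers_le_of_mem (m2 _ (hC ▸ mem_cent_iff.2 ((Commute.refl _).mul_right c0)) fun y hy => hy.1.2.2)),
    fun hq h2 => ?_⟩
  have hc : centralizer (Q : Set C) ≤ Q := (le_of_quot ra.le45).resolve_right fun a => by
    obtain ⟨c, c1, c2⟩ := a (subset_closure (ra.mem 0 (by decide)))
    have b := cls180.rep 0 (by decide)
    rw [← b.2, ← hu _ b.1 ⟨_, mC _ b.1⟩ rfl, QuotientGroup.mk'_apply, QuotientGroup.mk'_apply, QuotientGroup.eq] at c2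
    obtain ⟨x, x1, x2⟩ := (m4 _ List.mem_cons_self).2
    have t : em180 (rp180 0) = 5 := by decide +kernel
    have c3 : Commute (c : G) x := congrArg Subtype.val (mem_centralizer_iff.1 c1 x x1).symm
    have cz : Commute (c : G) (e 0 * e 1) := mem_cent_iff.1 (hC ▸ c.2)
    change (x : G) = wd e [375, 38] at x2
    rcases hq _ ⟨_, c2, rfl⟩ _ ⟨_, x1, rfl⟩ with d | d
    · refine neL_spec h.toReal (l := 5 :: [375, 38]) (l' := [375, 38] ++ [5]) (by decide +kernel) ?_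
      have := c3.mul_left d
      simp only [coe_subtype, coe_mul, coe_inv, mul_inv_cancel_left, t] at this
      simpa only [wd_cons, wd_append, wd_nil, mul_one, x2] using this.eq
    · refine neL_spec h.toReal (l := 5 :: [375, 38]) (l' := [375, 38] ++ [5, 0, 1]) (by decide +kernel) ?_
      simp only [coe_subtype, coe_mul, coe_inv, t, mul_assoc] at d
      rw [← mul_assoc _ (c : G)⁻¹, ← c3.inv_left.eq, mul_assoc, mul_right_inj, x2] at d
      simpa only [wd_cons, wd_append, wd_nil, mul_one, mul_assoc] using d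
  exact ⟨hc, fstar_eq h2 hc fun N _ hN => (le_of_quot ra.le45).resolve_right (ra.two45 (hN.map _))⟩

theorem ES.adj_central [Finite G] {E : Subgroup G} {z a : G} (h : ES E z) (ha : ∀ x ∈ E, Commute a x) (a2 : a * a = 1)
    (h1 : a ≠ 1) (h2 : a ≠ z) : Nat.card ↥(E ⊔ zpowers a) = 2 * Nat.card E ∧
      (∀ x ∈ E ⊔ zpowers a, ∃ r ∈ E, x = r ∨ x = r * a) ∧
      (∀ x ∈ E ⊔ zpowers a, ∀ y ∈ E ⊔ zpowers a, Commute x y ∨ x * y = y * x * z) ∧
      ∃ (F : Type) (_ : Group F) (_ : Finite F), IsExtraspecial 2 F ∧ Nat.card F = Nat.card E ∧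
        Nonempty (↥(E ⊔ zpowers a) ≃* Multiplicative (ZMod 2) × F) := by
  have n1 : ∀ x ∈ E, a * x * a⁻¹ ∈ E := fun x hx => by rwa [conj_eq_iff_commute.2 (ha x hx)]
  have s1 : a * a ∈ E := a2 ▸ E.one_mem
  have hn : a ∉ E := fun b => (h.cen a b ha).elim h1 h2
  have d : ∀ x ∈ E ⊔ zpowers a, ∃ r ∈ E, x = r ∨ x = r * a := fun u hu =>
    (mem_adj n1 s1 hu).elim (fun a => ⟨u, a, Or.inl rfl⟩) fun ⟨r, a, b⟩ => ⟨r, a, Or.inr b⟩
  have cz := (ha z h.z_mem).symm
  refine ⟨card_adj n1 s1 hn, d, fun x hx y hy => ?_, ?_⟩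
  · obtain ⟨r, hr, hx⟩ := d x hx
    obtain ⟨s, hs, hy⟩ := d y hy
    have b : Commute r y ∨ r * y = y * r * z := by
      rcases hy with rfl | rfl
      exacts [h.comm r hr _ hs, rc_symm h.z_sq (rc_mul h.z_sq cz (h.comm s hs r hr) (Or.inl (ha r hr)))]
    rcases hx with rfl | rfl
    · exact b
    · refine rc_mul h.z_sq cz b (Or.inl ?_)
      rcases hy with rfl | rfl
      exacts [ha _ hs, (ha _ hs).mul_right (Commute.refl a)]
  · let ψ : Shrink.{0} E ≃* E := Shrink.mulEquiv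
    have : Finite (Shrink.{0} E) := Finite.of_equiv _ ψ.symm.toEquiv
    have k := h.top.map ψ.symm.toMonoidHom fun x _ hx => ψ.symm.injective (hx.trans (map_one _).symm)
    rw [map_top_of_surjective _ ψ.symm.surjective] at k
    have cm : ∀ (m : zpowers a) (n : E), Commute ((zpowers a).subtype m) (E.subtype n) := fun m n => by
      obtain ⟨_, i, rfl⟩ := m
      exact (ha n n.2).zpow_left i
    have i := (MonoidHom.noncommCoprod_injective _ _ cm).2 ⟨subtype_injective _, subtype_injective _, by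
      rw [range_subtype, range_subtype, disjoint_def]
      intro x hx hx'
      rcases (mem_zpowers_iff_of_sq a2).1 hx with rfl | rfl
      exacts [rfl, absurd hx' hn]⟩
    have r := MonoidHom.noncommCoprod_range _ _ cm
    rw [range_subtype, range_subtype, sup_comm] at r
    exact ⟨_, inferInstance, this, k.isExtraspecial_of_top, Nat.card_congr ψ.toEquiv,
      ⟨((MonoidHom.ofInjective i).trans (MulEquiv.subgroupCongr r)).symm.trans (MulEquiv.prodCongr
        (mulEquivOfPrimeCardEq (p := 2) (by rw [Nat.card_zpowers, orderOf_two_of a2 h1]) (by simp)) ψ.symm)⟩⟩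

theorem cent22_two [Finite G] (h : RG X22 D e) {C : Subgroup G} (hC : C = centralizer {e 0 * e 1}) :
    ∃ (Q : Subgroup C) (_ : Q.Normal), generalizedFittingSubgroup C = Q ∧ Nonempty (C ⧸ Q ≃* MulAut (PSU 4 F4 2)) ∧
      Nat.card (Q.map C.subtype) = 2 ^ 10 ∧ e 0 ∈ Q.map C.subtype ∧ e 1 ∈ Q.map C.subtype ∧
      (∀ x ∈ Q.map C.subtype, ∀ y ∈ Q.map C.subtype, (x * y * x⁻¹ * y⁻¹ = 1 ∨ x * y * x⁻¹ * y⁻¹ = e 0 * e 1) ∧
        (x ^ 2 = 1 ∨ x ^ 2 = e 0 * e 1)) ∧
      (∀ x ∈ centralizer ({e 0, e 1} : Set G), (∀ y ∈ centralizer ({e 0, e 1} : Set G), Commute x y) →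
        x ∈ closure ({e 0, e 1} : Set G)) ∧
      ∃ (F : Type) (_ : Group F) (_ : Finite F), IsExtraspecial 2 F ∧ Nat.card F = 2 ^ 9 ∧
        Nonempty (Q ≃* Multiplicative (ZMod 2) × F) := by
  have ra := ra_of_rg h
  obtain ⟨Q, _, c1, c2, c3, c4, c5⟩ := ra.struct22 hC
  obtain ⟨es, e1, e2⟩ := ra.es22
  obtain ⟨m0, m1, n, c0⟩ := Fi3.cl_two.1 (cl01 h.toReal)
  have t := Fi3.tt22 h.toReal
  have s0 := h.sq' 0 (by decide)
  obtain ⟨d1, d2, d3, F, _, _, d4, d5, ⟨ψ⟩⟩ := ES.adj_central es (fun x hx => (mem_cent_pair.1 (e2 hx)).1.symm) s0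
    (ne_one_of_orderOf_two (t.1 _ m0)) fun a => ne_one_of_orderOf_two (t.1 _ m1) (by simpa using a)
  have le : centralizer ({e 0, e 1} : Set G) ≤ C := fun x hx =>
    hC ▸ mem_cent_iff.2 ((mem_cent_pair.1 hx).1.mul_right (mem_cent_pair.1 hx).2)
  have k := ((centralizer ({e 0, e 1} : Set G)).subgroupOf C).index_mul_card
  rw [Nat.card_congr (subgroupOfEquivOfLe le).toEquiv, show centralizer ({e 0, e 1} : Set G) = Fi3.Cl [e 1, e 0] from
    congrArg _ (Set.ext fun x => by simp [or_comm]), (Fi3.card_Cl22 h).1, ← show centralizer ({e 0, e 1} : Set G) =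
      Fi3.Cl [e 1, e 0] from congrArg _ (Set.ext fun x => by simp [or_comm]), hC, ra.idx22, ← hC, c1] at k
  have q : Nat.card (Q.map C.subtype) = 2 ^ 10 := by omega
  have q1 := eq_of_le_of_card_ge c4 (by omega)
  have φ := Q.equivMapOfInjective _ C.subtype_injective
  have b0 : e 0 ∈ Q.map C.subtype := c4 (mem_sup_right (mem_zpowers _))
  have v0 : e 0 ∈ closure ({e 0, e 1} : Set G) := subset_closure (by simp)
  have v1 : e 1 ∈ closure ({e 0, e 1} : Set G) := subset_closure (by simp)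
  refine ⟨Q, inferInstance, (c5 (q1 ▸ d3) (IsPGroup.of_card ((Nat.card_congr φ.toEquiv).trans q))).2, c2, q, b0,
    by simpa [← mul_assoc, s0] using mul_mem b0 (c4 (mem_sup_left es.z_mem)), fun x hx y hy => ⟨?_, ?_⟩,
    fun x hx hc => ?_, F, inferInstance, inferInstance, d4, d5.trans e1,
    ⟨φ.trans ((MulEquiv.subgroupCongr q1.symm).trans ψ)⟩⟩
  · have cz : Commute (e 0 * e 1) x := (mem_cent_iff.1 (hC ▸ map_subtype_le Q hx)).symm
    have cy : Commute (e 0 * e 1) y := (mem_cent_iff.1 (hC ▸ map_subtype_le Q hy)).symm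
    refine (d3 x (q1 ▸ hx) y (q1 ▸ hy)).imp (fun a => by rw [a.eq]; group) fun a => ?_
    rw [a, mul_assoc y, ← cz.eq, ← mul_assoc y, ← cy.eq]; group
  · obtain ⟨r, hr, rfl | rfl⟩ := d2 x (q1 ▸ hx)
    · exact pow_two x ▸ es.sq hr
    · rw [(mem_cent_pair.1 (e2 hr)).1.mul_pow, pow_two (e 0), s0, mul_one, pow_two]
      exact es.sq hr
  · have r := (real180 h.toReal).1
    obtain ⟨r, hr, a⟩ := d2 x (q1 ▸ c3 x (le hx) fun p hp q hq b => by
      have m := r.mem p hp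
      rw [r.inj q hq p hp (b.symm.trans (conj_eq_iff_commute.2 (hc _ (mem_cent_pair.2 ⟨m.1.2.2.symm, m.2.2.symm⟩))))])
    have : r ∈ closure ({e 0, e 1} : Set G) := by
      rcases es.cen r hr fun y hy => by
        rcases a with rfl | rfl
        exacts [hc y (e2 hy), by simpa using (hc y (e2 hy)).mul_left (mem_cent_pair.1 (e2 hy)).1.symm.inv_left]
        with rfl | rfl
      exacts [one_mem _, mul_mem v0 v1]
    rcases a with rfl | rfl
    exacts [this, mul_mem this v0]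

theorem conj_wd {n : ℕ} {a : G} {φ : ℕ → ℕ} (h : ∀ p < n, a * e p * a⁻¹ = e (φ p)) :
    ∀ l : List ℕ, (∀ p ∈ l, p < n) → a * wd e l * a⁻¹ = wd e (l.map φ)
  | [], _ => by simp
  | p :: l, hl => by
    rw [List.map_cons, wd_cons, wd_cons, ← h p (hl p List.mem_cons_self),
      ← conj_wd h l fun q hq => hl q (List.mem_cons_of_mem _ hq)]
    group

/-- An outer automorphism. -/
noncomputable def al22 (p : ℕ) : ℕ := frc (psi22 p) (opl X22 [702, 718, 2, 17, 53, 25])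

theorem RA.large22 [Finite G] (h : RA X22 D e) {ψ : G} (hψ : ∀ p < X22.n, ψ * e p * ψ⁻¹ = e (psi22 p))
    {C : Subgroup G} (hC : C = centralizer {e 0 * e 1}) :
    ∃ (Q : Subgroup C) (_ : Q.Normal), generalizedFittingSubgroup C = Q ∧ Nonempty (C ⧸ Q ≃* MulAut (PSU 4 F4 2)) ∧
      Nat.card (Q.map C.subtype) = 2 ^ 11 ∧ IsLargeExtraspecial (Q.map C.subtype) := by
  obtain ⟨Q, _, c1, c2, c3, c4, c5⟩ := h.struct22 hC
  obtain ⟨es, e1, e2⟩ := h.es22
  obtain ⟨m0, m1, n, c0⟩ := Fi3.cl_two.1 (cl01 h.toReal)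
  obtain ⟨r, lt⟩ := real180 h.toReal
  obtain ⟨a, ha⟩ : ∃ a, ∀ p < X22.n, al22 p < X22.n ∧ a * e p * a⁻¹ = e (al22 p) :=
    ⟨wd e [702, 718, 2, 17, 53, 25] * ψ, fun p hp => by
      rw [al22, frc_eq, ← opl_conj h.toQReal (by decide) (aut22.lt p hp), ← hψ p hp]
      exact ⟨opl_lt h.ok (by decide) (aut22.lt p hp), by group⟩⟩
  have a0 : a * e 0 * a⁻¹ = e 1 := (ha 0 (by decide)).2.trans (congrArg e (by decide +kernel))
  have a1 : a * e 1 * a⁻¹ = e 0 := (ha 1 (by decide)).2.trans (congrArg e (by decide +kernel))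
  have aC : a ∈ C := hC ▸ swap_mem c0 a0 a1
  have a2 : a * a = 1 := h.eq_one fun g hg => conj_eq_iff_commute.1 (by
    have b := h.ok.pt_lt g hg
    rw [Tab.gen, show a * a * e (X22.pt g) * (a * a)⁻¹ = a * (a * e (X22.pt g) * a⁻¹) * a⁻¹ by group, (ha _ b).2,
      (ha _ (ha _ b).1).2, (by decide +kernel : ∀ g < X22.ng, al22 (al22 (X22.pt g)) = X22.pt g) g hg])
  have aQ := c3 a aC fun p hp q hq b => by
    have := allLt_spec (allLt_spec (by decide +kernel : allLt 180 (fun p => frc (al22 (em180 p)) fun r => frc (cl180 p) fun i =>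
      allLt 180 fun q => bor (TC.bne (em180 q) r) (Nat.beq (cl180 q) i)) = true) p hp |> (by simpa only [frc_eq] using ·)) q hq
    rw [bor_iff, bne_iff, beq_iff] at this
    exact this.resolve_left fun c => c (h.inj _ (lt q hq) _ (ha _ (lt p hp)).1 (b.symm.trans (ha _ (lt p hp)).2))
  have k : ∀ l : List ℕ, (∀ p ∈ l, p < X22.n) ∧ Cov.eqL X22 (l.map al22) l = true → Commute a (wd e l) := fun l b =>
    conj_eq_iff_commute.1 ((conj_wd (fun p hp => (ha p hp).2) l b.1).trans (h.eqL b.2))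
  obtain ⟨d1, d2⟩ := (es0_of_es es).ext es.z_sq es.z_ne (fun x hx => (mem_cent_pair.1 (e2 hx)).1.symm)
    (esg_comm (mem_cent_iff.1 (hC ▸ aC)) fun p hp => And.imp (k _) (k _) ((by decide +kernel : ∀ p ∈ bs22,
      ((∀ q ∈ p.1, q < X22.n) ∧ Cov.eqL X22 (p.1.map al22) p.1 = true) ∧
        (∀ q ∈ p.2, q < X22.n) ∧ Cov.eqL X22 (p.2.map al22) p.2 = true) p hp))
    (by rw [mul_assoc, ← mul_assoc (e 0), h.sq' 0 (by decide), one_mul, ← a1]; group) (Or.inl (h.sq' 0 (by decide)))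
    (Or.inl a2)
  have le : centralizer ({e 0, e 1} : Set G) ≤ C := fun x hx =>
    hC ▸ mem_cent_iff.2 ((mem_cent_pair.1 hx).1.mul_right (mem_cent_pair.1 hx).2)
  have k := ((centralizer ({e 0, e 1} : Set G)).subgroupOf C).index_mul_card
  rw [Nat.card_congr (subgroupOfEquivOfLe le).toEquiv, hC, h.idx22, ← hC, c1] at k
  have k' := h.card_K22
  have q1 := eq_of_le_of_card_ge (sup_le c4 (zpowers_le_of_mem aQ)) (by omega)
  rw [q1] at d1 d2
  obtain ⟨f1, f2⟩ := c5 d1.comm (d1.isPGroup.of_equiv (Q.equivMapOfInjective _ C.subtype_injective).symm)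
  have L : LE (Q.map C.subtype) (e 0 * e 1) := ⟨d1, fun c hc => ⟨⟨c, hC ▸ mem_cent_iff.2 (hc _ d1.z_mem)⟩,
    f1 (mem_cent_subgroup_iff.2 fun x hx => Subtype.ext (hc _ ⟨x, hx, rfl⟩)), rfl⟩, by
      rintro c hc _ ⟨x, hx, rfl⟩
      exact ⟨_, Normal.conj_mem inferInstance x hx ⟨c, hC ▸ mem_cent_iff.2 hc⟩, rfl⟩⟩
  obtain ⟨g, hg⟩ := isConj_iff.1 ((Fi3.tr22 h.toReal).conj (m := 2) (by omega) (Fi3.pf_iff.2 ⟨_, cl01 h.toReal, rfl, rfl⟩)
    (Fi3.pf_iff.2 ⟨_, Fi3.chkCL_cl h.toReal (l := [375, 38]) (by decide +kernel), rfl, rfl⟩))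
  rw [show [e 0, e 1].prod = e 0 * e 1 by simp] at hg
  refine ⟨Q, inferInstance, f2, c2, by omega, L.large_of_conj (by omega) (g := g)
    (hg ▸ c4 (mem_sup_left (mem_esg.2 _ List.mem_cons_self).2)) ?_⟩
  rw [hg, show e 0 * e 1 = wd e [0, 1] by simp [wd]]
  exact neL_spec h.toReal (by decide +kernel)

theorem aut22_two [Finite G] (h : RG X22 D e) {C : Subgroup (MulAut G)}
    (hC : C = centralizer {MulAut.conj (e 0 * e 1)}) :
    ∃ (Q : Subgroup C) (_ : Q.Normal), generalizedFittingSubgroup C = Q ∧ Nonempty (C ⧸ Q ≃* MulAut (PSU 4 F4 2)) ∧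
      Nat.card (Q.map C.subtype) = 2 ^ 11 ∧ IsLargeExtraspecial (Q.map C.subtype) := by
  have := Fi3.finite_aut (G := G)
  obtain ⟨ψ, hψ, -⟩ := h.toReal.iso (h.toReal.reindex aut22) h.gen h.gen h.ctr h.ctr
  exact (ra_aut h fun φ d hd => Fi3.aut_image22 h φ ▸ ⟨d, hd, rfl⟩).large22 (ψ := ψ)
    (fun p hp => (Fi3.cj_conj ψ _).trans (congrArg _ (hψ p hp))) (by rw [hC, map_mul])

end CA.Cov

theorem CA.realizeEqns_Cov_C22 : True := by
  have := @CA.Cov.rX180.eq_1
  have := @CA.Cov.rX180.eq_def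
  have := @CA.Cov.rX180.congr_simp
  have := @CA.Cov.bs22.eq_1
  have := @CA.Cov.bs22.eq_def
  have := @CA.Cov.bs22.congr_simp
  have := @CA.Cov.rp180.eq_1
  have := @CA.Cov.rp180.eq_def
  have := @CA.Cov.rp180.congr_simp
  have := @CA.Cov.al22.eq_1
  have := @CA.Cov.al22.eq_def
  have := @CA.Cov.al22.congr_simp
  have := @CA.Cov.sg180.eq_1
  have := @CA.Cov.sg180.eq_def
  have := @CA.Cov.sg180.congr_simp
  have := @CA.Cov.X180.eq_1
  have := @CA.Cov.X180.eq_def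
  have := @CA.Cov.X180.congr_simp
  have := @CA.Cov.em180.eq_1
  have := @CA.Cov.em180.eq_def
  have := @CA.Cov.em180.congr_simp
  have := @CA.Cov.cl180.eq_1
  have := @CA.Cov.cl180.eq_def
  have := @CA.Cov.cl180.congr_simp
  trivial
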