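/-
Groups with an involution centraliser `2·Fi₂₂`, the involution not weakly closed, realise the table of `Fi₂₃`.
-/
import Cfsg.Agent.Cov.F23
import Cfsg.Agent.Cov.Seed
import Cfsg.Agent.Fi.K23

set_option autoImplicit false

namespace CA.Cov

open Cfsg Subgroup CA.Fi CA.TC

def seed23 : List Big := [
  .e [] 1 [2] 3 4 19 20 (.mv [4, 3, 2, 3, 4, 3]) (.mv [7, 6, 2, 1, 5, 0, 1, 2, 3, 7, 6, 5, 4, 3, 2, 1, 0, 1, 2, 3, 4, 5, 6, 7, 3, 2, 1, 0, 5, 1, 2, 6, 7, 3]) (.mv [7, 6, 3, 7, 5, 6, 1, 2, 3, 7, 4, 3, 2, 1, 0, 1, 2, 3, 4, 7, 3, 2, 1, 6, 5, 7, 3, 6, 7, 3]),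
  .e [] 1 [2] 5 12 14 17 (.mv [5, 6, 1, 2, 3, 7, 4, 3, 2, 1, 0, 1, 2, 3, 4, 7, 3, 2, 1, 6, 5, 6]) (.mv [7, 6, 3, 7, 4, 3, 2, 3, 4, 7, 3, 6, 7, 6]) (.mv [1, 2, 0, 1, 5, 6, 3, 2, 1, 5, 4, 3, 2, 1, 0, 1, 2, 3, 4, 5, 1, 2, 3, 6, 5, 1, 0, 2, 1, 6]),
  .e [2, 3] 1 [2] 3 4 19 20 (.mv [4, 2]) (.mv [1, 5, 6, 7, 0, 1, 5, 6, 3, 2, 1, 5, 4, 3, 2, 1, 0, 1, 2, 3, 4, 5, 1, 2, 3, 6, 5, 1, 0, 7, 6, 5, 1, 2]) (.mv [1, 5, 6, 7, 2, 1, 5, 6, 3, 2, 1, 5, 4, 3, 2, 1, 0, 1, 2, 3, 4, 5, 1, 2, 3, 6, 5, 1, 2, 7, 6, 5, 1, 2]),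
  .e [5, 6] 1 [2] 5 12 14 17 (.mv [1, 2, 3, 7, 4, 3, 2, 1, 0, 1, 2, 3, 4, 7, 3, 2, 1, 5]) (.mv [1, 2, 3, 7, 5, 4, 3, 2, 1, 2, 3, 4, 5, 7, 3, 2, 1, 5]) (.mv [9, 8, 0, 9, 1, 2, 3, 7, 4, 3, 2, 1, 0, 1, 2, 3, 4, 7, 3, 2, 1, 9, 0, 8, 9, 5]),
  .d [.blk [] 1 [2, 3, 5] 6 7 13],
  .e [0, 1] 1 [6] 2 8 16 18 (.rf [.op 81 1, .op 8 7, .op 67 16, .op 176 7, .op 130 81, .op 143 421] [] 1 [2, 3, 19] 4 20) (.rf [.op 583 1, .op 4 3, .op 514 12, .op 42 4, .op 58 583, .op 684 651] [] 1 [2, 5, 14] 12 17) (.rf [.op 539 1, .op 4 3, .op 614 12, .op 42 4, .op 58 539, .op 604 644] [] 1 [2, 5, 12] 14 17),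
  .e [9] 3 [5] 1 9 16 21 (.rf [.op 7 6, .op 15 8, .op 806 7, .op 26 871, .op 806 0, .op 869 42] [9] 3 [6, 10, 12] 1 22) (.rf [.op 1343 0, .op 1596 176, .op 7 6, .op 15 8, .op 1343 7, .op 26 1148] [9] 3 [6, 10, 12] 1 22) (.rf [.op 42 4, .op 58 2543, .op 176 4, .op 3432 122, .op 2543 0, .op 2857 1] [9] 3 [6, 10, 22] 1 12),
  .d [.op 696 0],
  .d [.op 7 8],
  .d [.op 6 16]]

theorem gk23 : L23.Gk clA23 sw23 [0, 1, 2, 3, 4, 19, 20] :=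
  ⟨trans22, by decide +kernel, List.mem_cons_self, by decide +kernel, by decide +kernel, by decide, by decide +kernel,
    by decide +kernel, by decide +kernel⟩

theorem chk3_23a : rng (chk3 X23) 0 16000 8 = true := by decide +kernel
theorem chk3_23b : rng (chk3 X23) 16000 31671 8 = true := by decide +kernel

theorem chk3_23 : ∀ q < X23.n, chk3 X23 q = true := fun p hp =>
  (Nat.lt_or_ge p 16000).elim (rng_spec chk3_23a p (Nat.zero_le _)) fun h => rng_spec chk3_23b p h hp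

theorem real_of_full23 {G : Type*} [Group G] [Finite G] {d : G} {e : ℕ → G} (h : Full L23 d e) :
    ∃ e', Real X23 (conjugatesOf d) e' ∧ IsThreeTranspositionClass (conjugatesOf d) ∧ center G = ⊥ := by
  obtain ⟨b, h1, h2, h3, h4⟩ := h.exists_nc2 gk23 (nb0_of_nest nest22 transU) (by decide)
    (h.mem_D gk23 (p := 0) (by decide)) (h.mem_D gk23 (p := 1) (by decide)) (h.ext.com 0 (by decide))
    (h.ext.com 1 (by decide)) (h.ext.q.commute_of_op (by decide) (by decide) (by decide +kernel))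
    (h.ext.ne1 0 (by decide)).2 (h.ext.ne1 1 (by decide)).2
    (fun a => absurd (h.ext.real.inj 1 (by decide) 0 (by decide) a) (by decide))
    (p := 697) (by decide) (by decide +kernel) (by decide +kernel)
  exact h.main gk23 nest23 trans23 chk3_23 qreal23 (c0 := 4) (s0 := 2) (k0 := 3) (iq := 8) (ic := 4) (ip := 14)
    (u := [3, 4, 7, 3, 6, 7]) (v := [5, 6, 3, 7, 4, 3]) (w := [5, 6]) (kn := [5, 6]) (known := [0, 1]) (st := seed23) h1 h2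
    (List.forall_mem_cons.2 ⟨⟨by decide, h3⟩, List.forall_mem_singleton.2 ⟨by decide, h4⟩⟩) (by decide +kernel)
    (m := 10) rfl (by decide +kernel)

/-- Groups of type `M̃(23)` realise `X23`. -/
theorem real_of_cent23 {G : Type*} [Group G] [Finite G] {d : G} (hd : orderOf d = 2)
    (hq : IsQuasisimple (centralizer ({d} : Set G))) [((zpowers d).subgroupOf (centralizer ({d} : Set G))).Normal]
    (ht : ∃ E : Set (centralizer ({d} : Set G) ⧸ (zpowers d).subgroupOf (centralizer ({d} : Set G))),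
      IsThreeTranspositionClass E ∧ IsOfTypeM22 _ E)
    (hn : ∃ g : G, g * d * g⁻¹ ∈ centralizer ({d} : Set G) ∧ g * d * g⁻¹ ≠ d) :
    ∃ e', Real X23 (conjugatesOf d) e' ∧ IsThreeTranspositionClass (conjugatesOf d) ∧ center G = ⊥ :=
  let ⟨_, h⟩ := exists_full23 hd hq ht hn
  real_of_full23 h

end CA.Cov

theorem CA.realizeEqns_Cov_G23 : True := by
  have := @CA.Cov.seed23.eq_1
  have := @CA.Cov.seed23.eq_def
  have := @CA.Cov.seed23.congr_simp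
  trivial
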